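import Cfsg.Agent.Lib.Helper3.Ru.L1D
import Cfsg.Agent.Lib.Helper3.Ru.Net

set_option autoImplicit false
set_option maxRecDepth 100000

namespace Cfsg.Agent.Lib.Helper3.Ru.L1

open Cfsg.Agent.Lib.Helper11 Cfsg.Agent.Lib.Helper3

set_option maxHeartbeats 0
set_option Elab.async false

noncomputable def fc (i : ℕ) : ℕ := (Bool.rec (Bool.rec (fc0_0 i) (Bool.rec (fc0_1 i) (fc0_2 i) (Nat.ble 32 i)) (Nat.ble 16 i)) (Bool.rec (fc0_3 i) (Bool.rec (fc0_4 i) (fc0_5 i) (Nat.ble 80 i)) (Nat.ble 64 i)) (Nat.ble 48 i))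
noncomputable def sc (i : ℕ) : ℕ := (Bool.rec (Bool.rec (sc0_0 i) (Bool.rec (sc0_1 i) (sc0_2 i) (Nat.ble 32 i)) (Nat.ble 16 i)) (Bool.rec (sc0_3 i) (Bool.rec (sc0_4 i) (sc0_5 i) (Nat.ble 80 i)) (Nat.ble 64 i)) (Nat.ble 48 i))
noncomputable def nc (i : ℕ) : ℕ := (nc0_0 i)
noncomputable def cc (i : ℕ) : ℕ := (Bool.rec (Bool.rec (Bool.rec (cc0_0 i) (cc0_1 i) (Nat.ble 16 i)) (Bool.rec (cc0_2 i) (cc0_3 i) (Nat.ble 48 i)) (Nat.ble 32 i)) (Bool.rec (Bool.rec (cc0_4 i) (cc0_5 i) (Nat.ble 80 i)) (Bool.rec (cc0_6 i) (cc0_7 i) (Nat.ble 112 i)) (Nat.ble 96 i)) (Nat.ble 64 i))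

def isH (l : ℕ) : Bool := decide (l ∈ [4, 6])
def gens : List ℕ := [1, 2]
def hl : List ℕ := [4, 6]
def dl : List (List ℕ × ℕ) := [([2], 3), ([1, 2, 1, 2, 1, 3, 1, 2, 1, 2, 1, 3, 1, 2, 1, 3, 1, 2, 1, 2], 5), ([5], 4), ([1, 3, 1, 2, 1, 2, 1, 3, 1, 2, 1, 2, 1, 3, 1, 2, 1, 3, 1, 2, 1, 3, 1, 3, 1, 2, 1, 3, 1, 2, 1, 2, 1], 7), ([7], 6), ([4, 6, 4, 6], 9), ([9], 8), ([4, 4, 4, 7, 4, 7, 5, 6, 4], 11), ([11], 10), ([11, 8, 8, 10], 12), ([10, 8, 10, 9, 10, 8, 11, 8, 10], 14), ([14], 13)]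
def BR_0 : List (List ℕ) := [[], [1, 2, 1, 2, 1, 3, 1, 2, 1, 2, 1, 3, 1, 2, 1, 3, 1, 2, 1, 2, 5], [1, 3, 1, 2, 1, 2, 1, 3, 1, 2, 1, 2, 1, 3, 1, 2, 1, 3, 1, 2, 1, 3, 1, 3, 1, 2, 1, 3, 1, 2, 1, 2, 1, 7], [4, 6, 4, 6, 9], [4, 4, 4, 7, 4, 7, 5, 6, 4, 11], [11, 8, 8, 10, 12], [10, 8, 10, 9, 10, 8, 11, 8, 10, 14], [2, 2, 2], [3, 3, 3], [1, 2, 1, 2, 1, 2, 1, 2, 1, 2, 1, 2, 1, 2], [1, 3, 1, 3, 1, 3, 1, 3, 1, 3, 1, 3, 1, 3], [1, 2, 2, 1, 2, 2, 1, 2, 2, 1, 2, 2, 1, 2, 2, 1, 2, 2, 1, 2, 2], [1, 3, 3, 1, 3, 3, 1, 3, 3, 1, 3, 3, 1, 3, 3, 1, 3, 3, 1, 3, 3], [1, 2, 2, 2, 1, 2, 2, 2], [1, 3, 3, 3, 1, 3, 3, 3], [1, 2, 1, 2, 1, 3, 1, 2, 1, 3, 1, 3, 1, 2, 1, 3, 1,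 2, 1, 2, 1, 3, 1, 2, 1, 3, 1, 2, 13, 13, 9, 10, 10, 9, 11, 8, 11, 6, 4, 7, 4, 7, 5, 6], [3, 1, 2, 1, 2, 1, 3, 1, 2, 1, 3, 1, 2, 1, 2, 1, 3, 1, 3, 1, 2, 1, 2, 1, 3, 1, 2, 1, 2, 1, 3, 12, 13, 12, 13, 8, 8, 10, 8, 8, 11, 7, 7, 7, 4, 6, 5, 5], [1, 2, 1, 3, 1, 3, 1, 2, 1, 2, 1, 3, 1, 3, 1, 2, 1, 3, 1, 2, 1, 3, 1, 2, 1, 2, 1, 3, 1, 2, 1, 2, 1, 12, 13, 12, 8, 11, 9, 10, 9, 10, 10, 8, 6, 6, 4, 4, 7], [3, 1, 3, 1, 2, 1, 2, 1, 3, 1, 2, 1, 3, 1, 3, 1, 2, 1, 3, 1, 2, 1, 3, 1, 2, 1, 3, 1, 2, 1, 2, 1, 3, 12, 13, 12, 9, 10, 9, 10, 7, 7, 7, 4, 6, 4, 7], [1, 2, 1, 3, 1, 2, 1, 2, 1, 3, 1, 3, 1, 2, 1, 2, 1, 3, 1, 3, 1, 2, 1, 3, 1, 2, 1, 3, 1, 2, 1, 3, 1, 2, 1, 3,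 1, 13, 12, 13, 10, 9, 10, 8, 11, 5, 5, 6, 6, 6, 5], [3, 1, 2, 1, 3, 1, 2, 1, 2, 1, 3, 1, 2, 1, 3, 1, 3, 1, 2, 1, 2, 1, 3, 1, 2, 1, 3, 1, 3, 1, 2, 1, 2, 1, 3, 1, 3, 12, 13, 11, 8, 10, 10, 9, 11, 8, 11, 5, 5, 5, 6, 6, 4, 4], [2, 1, 3, 1, 2, 1, 2, 1, 3, 1, 2, 1, 3, 1, 2, 1, 3, 1, 2, 1, 3, 1, 3, 1, 2, 1, 2, 1, 3, 1, 2, 1, 2, 1, 3, 1, 3, 1, 12, 13, 12, 10, 8, 11, 9, 10, 9, 10, 9, 7, 7, 7, 5, 6, 6, 5], [3, 1, 2, 1, 2, 1, 3, 1, 3, 1, 2, 1, 3, 1, 2, 1, 2, 1, 3, 1, 2, 1, 2, 1, 3, 1, 2, 1, 3, 1, 2, 1, 3, 1, 2, 1, 3, 1, 3, 12, 13, 12, 10, 8, 8, 10, 10, 9, 10, 9, 10, 4, 4, 7, 5, 6, 5, 5, 5], [2, 1, 3, 1, 2, 1, 3, 1, 2, 1, 3, 1, 2, 1, 3, 1, 3, 1, 2, 1, 3, 1,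 2, 1, 3, 1, 3, 1, 2, 1, 2, 1, 3, 1, 3, 1, 2, 1, 3, 13, 12, 13, 8, 10, 8, 10, 9, 11, 8, 8, 4, 6, 6, 5, 6], [1, 3, 1, 3, 1, 2, 1, 3, 1, 3, 1, 2, 1, 2, 1, 3, 1, 2, 1, 3, 1, 2, 1, 3, 1, 3, 1, 2, 1, 3, 1, 2, 1, 3, 1, 2, 1, 2, 1, 3, 1, 13, 12, 13, 8, 10, 8, 10, 10, 9, 10, 9, 10, 4, 7, 5, 5, 6, 6, 6, 6], [3, 1, 2, 1, 3, 1, 2, 1, 2, 1, 3, 1, 3, 1, 2, 1, 3, 1, 2, 1, 2, 1, 3, 1, 2, 1, 2, 1, 3, 1, 2, 1, 3, 1, 3, 1, 2, 1, 2, 1, 2, 11, 8, 10, 10, 8, 10, 10, 6, 6, 6, 5, 6, 4], [2, 1, 2, 1, 3, 1, 3, 1, 2, 1, 3, 1, 2, 1, 3, 1, 2, 1, 3, 1, 2, 1, 3, 1, 2, 1, 2, 1, 3, 1, 2, 1, 3, 1, 3, 1, 2, 1, 3, 1, 3, 12, 13, 12, 10, 8, 8, 10, 9, 11, 8, 11, 9, 4, 7, 4, 7, 4, 7,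 7, 4], [1, 3, 1, 2, 1, 2, 1, 3, 1, 3, 1, 2, 1, 2, 1, 3, 1, 2, 1, 3, 1, 2, 1, 3, 1, 2, 1, 2, 1, 3, 1, 3, 1, 2, 1, 2, 1, 3, 1, 3, 1, 12, 13, 13, 8, 10, 8, 8, 10, 9, 11, 8, 5, 7, 5, 7, 5, 7, 5, 6], [3, 1, 2, 1, 2, 1, 3, 1, 3, 1, 2, 1, 3, 1, 3, 1, 2, 1, 3, 1, 2, 1, 3, 1, 2, 1, 2, 1, 3, 1, 2, 1, 3, 1, 3, 1, 2, 1, 2, 1, 3, 12, 14, 12, 9, 10, 8, 11, 8, 11, 8, 6, 4, 4, 4, 4, 7], [2, 1, 2, 1, 2, 1, 3, 1, 3, 1, 2, 1, 3, 1, 2, 1, 2, 1, 3, 1, 2, 1, 3, 1, 2, 1, 3, 1, 2, 1, 3, 1, 2, 1, 3, 1, 3, 1, 2, 1, 2, 1, 12, 14, 11, 8, 11, 8, 10, 9, 4, 4, 7, 5, 6, 5, 7], [1, 2, 1, 3, 1, 2, 1, 3, 1, 2, 1, 2, 1, 3, 1, 3, 1, 2, 1, 3, 1, 2, 1, 3, 1, 2, 1, 3, 1, 2, 1, 3, 1,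 2, 1, 2, 1, 3, 1, 3, 1, 2, 12, 14, 14, 8, 8, 10, 8, 11, 9, 11, 4, 6, 6, 6, 5, 7, 4, 7], [1, 3, 1, 2, 1, 3, 1, 2, 1, 2, 1, 3, 1, 3, 1, 2, 1, 3, 1, 3, 1, 2, 1, 2, 1, 3, 1, 3, 1, 2, 1, 2, 1, 3, 1, 2, 1, 3, 1, 3, 1, 2, 12, 10, 10, 8, 11, 9, 10, 4, 4, 6, 5, 5], [1, 3, 1, 2, 1, 3, 1, 3, 1, 2, 1, 3, 1, 3, 1, 2, 1, 2, 1, 3, 1, 2, 1, 3, 1, 2, 1, 3, 1, 2, 1, 2, 1, 3, 1, 3, 1, 2, 1, 3, 1, 3, 13, 12, 8, 11, 9, 10, 9, 11, 8, 6, 4, 6, 5, 6, 5]]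
def BR_1 : List (List ℕ) := [[2, 1, 3, 1, 2, 1, 3, 1, 3, 1, 2, 1, 3, 1, 2, 1, 3, 1, 2, 1, 3, 1, 2, 1, 2, 1, 3, 1, 3, 1, 2, 1, 3, 1, 2, 1, 2, 1, 3, 1, 2, 1, 3, 12, 14, 8, 8, 11, 8, 10, 8, 11, 6, 5, 7, 7, 5, 7, 4], [1, 3, 1, 2, 1, 3, 1, 2, 1, 3, 1, 2, 1, 3, 1, 2, 1, 3, 1, 3, 1, 2, 1, 2, 1, 3, 1, 3, 1, 2, 1, 2, 1, 3, 1, 2, 1, 3, 1, 2, 1, 2, 1, 12, 10, 10, 8, 11, 8, 11, 8, 5, 7, 5, 6, 5, 5, 5, 6], [2, 1, 3, 1, 2, 1, 3, 1, 2, 1, 3, 1, 3, 1, 2, 1, 3, 1, 2, 1, 3, 1, 3, 1, 2, 1, 3, 1, 2, 1, 3, 1, 3, 1, 2, 1, 3, 1, 2, 1, 3, 1, 2, 12, 13, 8, 10, 10, 9, 11, 8, 11, 8, 4, 4, 7, 4, 6, 6, 5], [1, 2, 1, 3, 1, 2, 1, 2, 1, 3, 1, 2, 1, 3, 1, 2, 1, 2, 1, 3, 1, 2,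 1, 3, 1, 2, 1, 3, 1, 2, 1, 3, 1, 2, 1, 3, 1, 2, 1, 3, 1, 2, 1, 3, 13, 12, 13, 10, 9, 10, 8, 11, 5, 5, 6, 6, 6, 5], [1, 3, 1, 2, 1, 3, 1, 2, 1, 3, 1, 3, 1, 2, 1, 3, 1, 2, 1, 3, 1, 2, 1, 3, 1, 2, 1, 3, 1, 3, 1, 2, 1, 2, 1, 3, 1, 2, 1, 2, 1, 3, 1, 2, 12, 13, 9, 10, 10, 9, 10, 10, 8, 8, 4, 4, 6, 4, 6, 4], [1, 3, 1, 2, 1, 3, 1, 2, 1, 3, 1, 2, 1, 3, 1, 3, 1, 2, 1, 3, 1, 2, 1, 2, 1, 3, 1, 2, 1, 3, 1, 3, 1, 2, 1, 3, 1, 2, 1, 3, 1, 2, 1, 3, 12, 13, 12, 9, 10, 8, 7, 7, 5, 5, 5, 5, 5], [1, 2, 1, 3, 1, 2, 1, 3, 1, 3, 1, 2, 1, 2, 1, 3, 1, 3, 1, 2, 1, 2, 1, 3, 1, 2, 1, 3, 1, 3, 1, 2, 1, 3, 1, 2, 1, 3, 1, 3, 1, 2, 1, 3, 13, 11, 8, 11, 8, 10, 9, 10, 5, 7, 7, 4,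 7, 4], [1, 2, 1, 3, 1, 2, 1, 3, 1, 3, 1, 2, 1, 3, 1, 2, 1, 2, 1, 3, 1, 3, 1, 2, 1, 3, 1, 2, 1, 3, 1, 2, 1, 2, 1, 3, 1, 2, 1, 3, 1, 3, 1, 2, 12, 13, 12, 13, 8, 10, 9, 11, 8, 8, 10, 9, 4, 4, 4, 6, 6, 5, 6, 6], [1, 3, 1, 2, 1, 2, 1, 3, 1, 2, 1, 3, 1, 3, 1, 2, 1, 2, 1, 3, 1, 2, 1, 3, 1, 2, 1, 3, 1, 2, 1, 2, 1, 3, 1, 3, 1, 2, 1, 2, 1, 3, 1, 3, 12, 13, 12, 13, 8, 11, 8, 8, 11, 9, 10, 5, 7, 4, 6, 6, 5, 6], [2, 1, 3, 1, 2, 1, 3, 1, 3, 1, 2, 1, 2, 1, 3, 1, 3, 1, 2, 1, 3, 1, 2, 1, 3, 1, 2, 1, 3, 1, 3, 1, 2, 1, 3, 1, 2, 1, 3, 1, 3, 1, 2, 1, 13, 12, 13, 8, 11, 9, 10, 8, 11, 8, 11, 4, 7, 4, 6, 5, 5, 6], [2, 1, 2, 1, 3, 1, 2, 1, 3, 1, 3, 1, 2, 1, 3, 1, 2, 1,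 3, 1, 3, 1, 2, 1, 2, 1, 3, 1, 3, 1, 2, 1, 2, 1, 3, 1, 2, 1, 3, 1, 2, 1, 3, 1, 12, 13, 12, 8, 10, 10, 8, 8, 10, 10, 8, 6, 5, 6, 4, 7, 4, 7, 7], [2, 1, 3, 1, 3, 1, 2, 1, 2, 1, 3, 1, 2, 1, 3, 1, 2, 1, 3, 1, 2, 1, 2, 1, 3, 1, 2, 1, 3, 1, 2, 1, 3, 1, 2, 1, 3, 1, 2, 1, 2, 1, 3, 1, 12, 14, 12, 10, 10, 9, 10, 10, 4, 4, 6, 6, 4], [3, 1, 2, 1, 3, 1, 3, 1, 2, 1, 3, 1, 2, 1, 3, 1, 2, 1, 3, 1, 2, 1, 3, 1, 3, 1, 2, 1, 2, 1, 3, 1, 2, 1, 3, 1, 2, 1, 3, 1, 2, 1, 2, 1, 12, 14, 8, 11, 8, 8, 11, 9, 11, 8, 5, 5, 7, 5, 6, 5, 6], [2, 1, 2, 1, 3, 1, 3, 1, 2, 1, 3, 1, 2, 1, 2, 1, 3, 1, 2, 1, 3, 1, 2, 1, 3, 1, 2, 1, 3, 1, 3, 1, 2, 1, 2, 1, 3, 1, 3, 1, 2, 1, 3, 1, 3, 13,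 13, 8, 10, 10, 8, 11, 8, 6, 6, 5, 5, 7, 7, 5], [1, 3, 1, 2, 1, 3, 1, 2, 1, 2, 1, 3, 1, 2, 1, 3, 1, 3, 1, 2, 1, 3, 1, 2, 1, 2, 1, 3, 1, 2, 1, 3, 1, 2, 1, 3, 1, 3, 1, 2, 1, 2, 1, 3, 1, 12, 14, 8, 10, 9, 11, 8, 11, 9, 5, 6, 5, 6, 4, 7], [3, 1, 2, 1, 3, 1, 2, 1, 3, 1, 2, 1, 2, 1, 3, 1, 2, 1, 3, 1, 3, 1, 2, 1, 3, 1, 2, 1, 3, 1, 2, 1, 3, 1, 3, 1, 2, 1, 2, 1, 3, 1, 3, 1, 2, 12, 14, 14, 10, 8, 10, 9, 11, 8, 10, 4, 7, 5, 5, 6, 4, 6], [1, 3, 1, 2, 1, 3, 1, 2, 1, 3, 1, 2, 1, 2, 1, 3, 1, 3, 1, 2, 1, 2, 1, 3, 1, 2, 1, 2, 1, 3, 1, 2, 1, 3, 1, 2, 1, 2, 1, 3, 1, 3, 1, 2, 1, 12, 14, 10, 8, 11, 8, 11, 5, 5, 7, 7, 7, 5, 7], [3, 1, 2, 1, 3, 1, 3, 1, 2, 1, 3, 1, 2,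 1, 2, 1, 3, 1, 2, 1, 3, 1, 2, 1, 3, 1, 2, 1, 3, 1, 2, 1, 3, 1, 2, 1, 3, 1, 2, 1, 3, 1, 3, 1, 3, 12, 13, 12, 9, 10, 9, 10, 7, 7, 7, 4, 6, 4, 7], [1, 3, 1, 2, 1, 3, 1, 2, 1, 3, 1, 3, 1, 2, 1, 2, 1, 3, 1, 2, 1, 3, 1, 2, 1, 3, 1, 2, 1, 2, 1, 3, 1, 2, 1, 3, 1, 2, 1, 2, 1, 3, 1, 3, 1, 3, 8, 8, 10, 9, 10, 9, 11, 9, 4, 6, 6, 6, 5, 6, 6]]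
def BR_2 : List (List ℕ) := [[2, 1, 2, 1, 3, 1, 3, 1, 2, 1, 3, 1, 3, 1, 2, 1, 2, 1, 3, 1, 3, 1, 2, 1, 3, 1, 2, 1, 3, 1, 3, 1, 2, 1, 3, 1, 2, 1, 3, 1, 3, 1, 2, 1, 2, 1, 14, 11, 8, 11, 8, 10, 9, 11, 6, 4, 6, 5, 7, 7], [1, 3, 1, 2, 1, 2, 1, 3, 1, 2, 1, 3, 1, 3, 1, 2, 1, 3, 1, 2, 1, 3, 1, 2, 1, 3, 1, 3, 1, 2, 1, 3, 1, 2, 1, 3, 1, 2, 1, 3, 1, 2, 1, 3, 1, 2, 12, 14, 9, 10, 6, 4, 7, 7, 7, 7], [2, 1, 2, 1, 2, 1, 3, 1, 2, 1, 3, 1, 2, 1, 3, 1, 2, 1, 2, 1, 3, 1, 2, 1, 3, 1, 3, 1, 2, 1, 2, 1, 3, 1, 2, 1, 2, 1, 3, 1, 3, 1, 2, 1, 3, 1, 13, 12, 8, 8, 11, 9, 10, 8, 10, 5, 7, 5, 5, 6, 4, 7, 5], [1, 3, 1, 3, 1, 2, 1, 2, 1, 3, 1, 3, 1, 2, 1, 3, 1, 2, 1, 2, 1, 3,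 1, 2, 1, 3, 1, 3, 1, 2, 1, 3, 1, 2, 1, 3, 1, 2, 1, 3, 1, 2, 1, 3, 1, 2, 1, 12, 10, 8, 8, 10, 10, 9, 11, 8, 10, 4, 4, 7, 7, 5], [1, 3, 1, 2, 1, 2, 1, 3, 1, 2, 1, 3, 1, 2, 1, 3, 1, 2, 1, 3, 1, 3, 1, 2, 1, 2, 1, 3, 1, 3, 1, 2, 1, 3, 1, 2, 1, 3, 1, 2, 1, 2, 1, 3, 1, 3, 1, 12, 13, 12, 9, 11, 8, 10, 10, 6, 6, 4, 6, 6], [2, 1, 2, 1, 3, 1, 2, 1, 3, 1, 2, 1, 2, 1, 3, 1, 3, 1, 2, 1, 3, 1, 2, 1, 3, 1, 3, 1, 2, 1, 3, 1, 2, 1, 3, 1, 3, 1, 2, 1, 2, 1, 3, 1, 3, 1, 3, 13, 13, 8, 10, 8, 8, 10, 9, 11, 4, 7, 7, 4, 4], [2, 1, 2, 1, 3, 1, 3, 1, 2, 1, 3, 1, 3, 1, 2, 1, 3, 1, 2, 1, 3, 1, 2, 1, 3, 1, 3, 1, 2, 1, 2, 1, 3, 1, 2, 1, 2, 1, 3, 1, 2, 1, 3, 1, 3, 1, 3, 14, 14,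 8, 8, 10, 9, 11, 8, 8, 11, 4, 7, 4, 4, 4, 4, 6, 5], [2, 1, 2, 1, 3, 1, 2, 1, 2, 1, 3, 1, 2, 1, 3, 1, 2, 1, 3, 1, 2, 1, 3, 1, 2, 1, 2, 1, 3, 1, 3, 1, 2, 1, 2, 1, 3, 1, 3, 1, 2, 1, 2, 1, 3, 1, 2, 1, 13, 8, 10, 10, 9, 11, 5, 7, 5, 6, 5, 5], [1, 2, 1, 3, 1, 2, 1, 3, 1, 3, 1, 2, 1, 3, 1, 2, 1, 3, 1, 3, 1, 2, 1, 3, 1, 2, 1, 3, 1, 3, 1, 2, 1, 2, 1, 3, 1, 2, 1, 3, 1, 2, 1, 2, 1, 3, 1, 3, 13, 9, 11, 9, 10, 5, 7, 5, 6, 5, 5, 5, 6], [2, 1, 2, 1, 2, 1, 3, 1, 3, 1, 2, 1, 3, 1, 2, 1, 3, 1, 2, 1, 3, 1, 2, 1, 3, 1, 3, 1, 2, 1, 3, 1, 3, 1, 2, 1, 3, 1, 2, 1, 2, 1, 3, 1, 3, 1, 2, 1, 8, 10, 9, 11, 8, 8, 6, 6, 6, 4, 6, 6, 5], [1, 3, 1, 2, 1, 3, 1, 2, 1, 2, 1, 3, 1,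 2, 1, 3, 1, 2, 1, 3, 1, 2, 1, 3, 1, 2, 1, 2, 1, 3, 1, 3, 1, 2, 1, 2, 1, 3, 1, 2, 1, 2, 1, 3, 1, 2, 1, 3, 13, 12, 9, 10, 8, 10, 10, 8, 5, 5, 7, 5, 5, 7], [2, 1, 2, 1, 2, 1, 3, 1, 3, 1, 2, 1, 2, 1, 3, 1, 2, 1, 3, 1, 3, 1, 2, 1, 2, 1, 3, 1, 2, 1, 2, 1, 3, 1, 2, 1, 3, 1, 3, 1, 2, 1, 2, 1, 3, 1, 3, 1, 3, 14, 14, 8, 11, 8, 10, 8, 4, 7, 7, 5, 7, 7], [2, 1, 3, 1, 2, 1, 3, 1, 2, 1, 2, 1, 3, 1, 3, 1, 2, 1, 2, 1, 3, 1, 3, 1, 2, 1, 3, 1, 2, 1, 2, 1, 3, 1, 3, 1, 2, 1, 2, 1, 3, 1, 3, 1, 2, 1, 2, 1, 3, 12, 13, 12, 8, 8, 10, 9, 11, 9, 10, 10, 4, 4, 4, 7, 7], [2, 1, 2, 1, 3, 1, 2, 1, 3, 1, 2, 1, 2, 1, 3, 1, 2, 1, 3, 1, 3, 1, 2, 1, 2, 1, 3, 1, 3, 1, 2, 1, 3, 1,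 2, 1, 2, 1, 3, 1, 3, 1, 2, 1, 2, 1, 3, 1, 2, 12, 13, 13, 9, 10, 9, 10, 10, 8, 4, 4, 4, 7, 5, 6], [1, 2, 1, 3, 1, 2, 1, 3, 1, 2, 1, 2, 1, 3, 1, 2, 1, 3, 1, 2, 1, 3, 1, 2, 1, 3, 1, 2, 1, 3, 1, 2, 1, 3, 1, 2, 1, 3, 1, 3, 1, 2, 1, 2, 1, 3, 1, 2, 1, 12, 13, 12, 8, 11, 9, 10, 9, 10, 10, 8, 6, 6, 4, 4, 7], [1, 3, 1, 2, 1, 2, 1, 3, 1, 3, 1, 2, 1, 3, 1, 2, 1, 3, 1, 2, 1, 2, 1, 3, 1, 2, 1, 3, 1, 2, 1, 3, 1, 2, 1, 3, 1, 2, 1, 3, 1, 2, 1, 2, 1, 3, 1, 3, 1, 13, 13, 8, 8, 11, 9, 10, 8, 10, 5, 7, 4, 7], [1, 3, 1, 3, 1, 2, 1, 3, 1, 2, 1, 3, 1, 2, 1, 3, 1, 2, 1, 3, 1, 2, 1, 3, 1, 2, 1, 3, 1, 3, 1, 2, 1, 2, 1, 3, 1, 2, 1, 2, 1, 3, 1, 3, 1, 2, 1, 2, 1, 3, 12, 8,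 10, 9, 11, 8, 11, 8, 10, 10, 5, 5, 6, 6, 5, 7, 7, 7], [3, 1, 3, 1, 2, 1, 2, 1, 3, 1, 2, 1, 3, 1, 2, 1, 2, 1, 3, 1, 3, 1, 2, 1, 3, 1, 2, 1, 2, 1, 3, 1, 2, 1, 3, 1, 2, 1, 2, 1, 3, 1, 3, 1, 2, 1, 2, 1, 3, 1, 2, 12, 14, 12, 9, 10, 10, 9, 11, 8, 8, 11, 6, 5, 6, 5, 5, 5, 7, 7]]
def BR_3 : List (List ℕ) := [[2, 1, 2, 1, 2, 1, 3, 1, 2, 1, 3, 1, 3, 1, 2, 1, 2, 1, 3, 1, 2, 1, 3, 1, 2, 1, 3, 1, 2, 1, 2, 1, 3, 1, 3, 1, 2, 1, 3, 1, 2, 1, 3, 1, 3, 1, 2, 1, 3, 1, 3, 14, 9, 10, 10, 8, 10, 9, 10, 9, 5, 6, 5, 7, 5, 5, 7, 5], [2, 1, 2, 1, 3, 1, 2, 1, 3, 1, 3, 1, 2, 1, 3, 1, 2, 1, 2, 1, 3, 1, 3, 1, 2, 1, 2, 1, 3, 1, 2, 1, 3, 1, 2, 1, 3, 1, 2, 1, 2, 1, 3, 1, 2, 1,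 2, 1, 3, 1, 2, 12, 13, 8, 11, 9, 11, 8, 10, 7, 4, 6, 5, 5, 5, 5], [2, 1, 2, 1, 2, 1, 3, 1, 2, 1, 3, 1, 3, 1, 2, 1, 3, 1, 2, 1, 2, 1, 3, 1, 2, 1, 3, 1, 3, 1, 2, 1, 3, 1, 2, 1, 3, 1, 2, 1, 2, 1, 3, 1, 3, 1, 2, 1, 2, 1, 3, 13, 12, 10, 10, 8, 11, 9, 10, 8, 5, 7, 7, 7, 7, 5, 7], [2, 1, 2, 1, 3, 1, 2, 1, 3, 1, 3, 1, 2, 1, 2, 1, 3, 1, 2, 1, 3, 1, 2, 1, 3, 1, 3, 1, 2, 1, 3, 1, 2, 1, 3, 1, 3, 1, 2, 1, 2, 1, 3, 1, 2, 1, 2, 1, 3, 1, 3, 12, 14, 14, 8, 8, 10, 8, 10, 10, 4, 4, 4, 4, 4, 6, 6, 4], [1, 3, 1, 3, 1, 2, 1, 2, 1, 3, 1, 3, 1, 2, 1, 2, 1, 3, 1, 2, 1, 3, 1, 2, 1, 2, 1, 3, 1, 2, 1, 3, 1, 3, 1, 2, 1, 3, 1, 2, 1, 3, 1, 2, 1, 3, 1, 2, 1, 2, 1, 12, 13, 9,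 11, 8, 10, 10, 8, 11, 4, 4, 7, 4, 7, 4], [2, 1, 2, 1, 3, 1, 2, 1, 3, 1, 3, 1, 2, 1, 2, 1, 3, 1, 3, 1, 2, 1, 3, 1, 2, 1, 2, 1, 3, 1, 2, 1, 3, 1, 3, 1, 2, 1, 2, 1, 3, 1, 2, 1, 3, 1, 3, 1, 2, 1, 3, 1, 12, 14, 12, 8, 11, 8, 10, 10, 8, 11, 6, 6, 5, 7, 7, 5], [3, 1, 2, 1, 3, 1, 3, 1, 2, 1, 3, 1, 2, 1, 3, 1, 3, 1, 2, 1, 3, 1, 2, 1, 3, 1, 2, 1, 2, 1, 3, 1, 2, 1, 3, 1, 2, 1, 2, 1, 3, 1, 2, 1, 3, 1, 3, 1, 2, 1, 2, 1, 10, 10, 8, 8, 11, 8, 10, 5, 5, 6, 5, 6, 6, 4, 6], [1, 2, 1, 3, 1, 2, 1, 3, 1, 2, 1, 2, 1, 3, 1, 2, 1, 3, 1, 3, 1, 2, 1, 2, 1, 3, 1, 2, 1, 3, 1, 3, 1, 2, 1, 3, 1, 2, 1, 3, 1, 3, 1, 2, 1, 3, 1, 2, 1, 2, 1, 3, 12, 8, 8, 10, 9, 10, 10, 6, 4, 6,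 5, 7, 5, 5, 6], [2, 1, 3, 1, 2, 1, 2, 1, 3, 1, 3, 1, 2, 1, 3, 1, 2, 1, 3, 1, 2, 1, 3, 1, 2, 1, 3, 1, 2, 1, 3, 1, 3, 1, 2, 1, 3, 1, 2, 1, 3, 1, 3, 1, 2, 1, 2, 1, 3, 1, 2, 1, 13, 8, 10, 10, 9, 11, 5, 7, 5, 6, 5, 5], [1, 3, 1, 2, 1, 2, 1, 3, 1, 3, 1, 2, 1, 3, 1, 2, 1, 3, 1, 2, 1, 3, 1, 3, 1, 2, 1, 3, 1, 2, 1, 3, 1, 2, 1, 2, 1, 3, 1, 2, 1, 3, 1, 3, 1, 2, 1, 2, 1, 3, 1, 2, 1, 12, 13, 12, 13, 9, 11, 8, 10, 10, 8, 11, 8, 6, 4, 7, 5, 6, 4], [2, 1, 2, 1, 2, 1, 3, 1, 3, 1, 2, 1, 3, 1, 3, 1, 2, 1, 3, 1, 2, 1, 2, 1, 3, 1, 2, 1, 3, 1, 3, 1, 2, 1, 3, 1, 3, 1, 2, 1, 3, 1, 2, 1, 3, 1, 3, 1, 2, 1, 2, 1, 3, 12, 13, 12, 13, 10, 9, 10, 9, 10, 5, 7, 4, 6, 6, 4], [3,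 1, 2, 1, 2, 1, 3, 1, 3, 1, 2, 1, 3, 1, 2, 1, 3, 1, 3, 1, 2, 1, 3, 1, 3, 1, 2, 1, 2, 1, 3, 1, 2, 1, 2, 1, 3, 1, 2, 1, 3, 1, 2, 1, 3, 1, 2, 1, 3, 1, 3, 1, 3, 12, 14, 12, 8, 10, 10, 9, 11, 8, 11, 8, 5, 5, 7, 5, 5, 7, 7, 4], [1, 3, 1, 2, 1, 3, 1, 3, 1, 2, 1, 3, 1, 2, 1, 3, 1, 2, 1, 2, 1, 3, 1, 2, 1, 3, 1, 2, 1, 3, 1, 2, 1, 3, 1, 3, 1, 2, 1, 2, 1, 3, 1, 2, 1, 3, 1, 3, 1, 2, 1, 2, 1, 13, 12, 10, 8, 11, 9, 10, 9, 4, 7, 5, 5, 7, 7, 7, 5], [1, 3, 1, 2, 1, 3, 1, 2, 1, 3, 1, 3, 1, 2, 1, 3, 1, 2, 1, 2, 1, 3, 1, 2, 1, 3, 1, 2, 1, 2, 1, 3, 1, 2, 1, 3, 1, 3, 1, 2, 1, 3, 1, 2, 1, 2, 1, 3, 1, 3, 1, 2, 1, 13, 12, 13, 8, 8, 10, 5, 7, 5, 6, 4], [2, 1, 3, 1, 3, 1,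 2, 1, 3, 1, 2, 1, 2, 1, 3, 1, 2, 1, 3, 1, 2, 1, 3, 1, 3, 1, 2, 1, 3, 1, 2, 1, 3, 1, 3, 1, 2, 1, 2, 1, 3, 1, 2, 1, 2, 1, 3, 1, 3, 1, 2, 1, 3, 12, 14, 14, 10, 9, 10, 8, 8, 10, 5, 5, 7, 4, 7, 4], [2, 1, 3, 1, 3, 1, 2, 1, 3, 1, 2, 1, 2, 1, 3, 1, 2, 1, 3, 1, 3, 1, 2, 1, 3, 1, 2, 1, 3, 1, 3, 1, 2, 1, 2, 1, 3, 1, 2, 1, 2, 1, 3, 1, 3, 1, 2, 1, 3, 1, 2, 1, 3, 14, 14, 10, 10, 9, 10, 9, 10, 9, 4, 7, 5, 6, 5, 7, 4], [1, 2, 1, 3, 1, 3, 1, 2, 1, 2, 1, 3, 1, 2, 1, 3, 1, 2, 1, 2, 1, 3, 1, 3, 1, 2, 1, 2, 1, 3, 1, 2, 1, 3, 1, 2, 1, 3, 1, 3, 1, 2, 1, 3, 1, 2, 1, 3, 1, 2, 1, 3, 1, 2, 12, 14, 9, 11, 8, 11, 8, 8, 4, 7, 4, 7, 4, 7, 7]]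
def BR_4 : List (List ℕ) := [[1, 2, 1, 3, 1, 2, 1, 3, 1, 2, 1, 3, 1, 2, 1, 3, 1, 3, 1, 2, 1, 3, 1, 2, 1, 3, 1, 2, 1, 3, 1, 3, 1, 2, 1, 3, 1, 3, 1, 2, 1, 3, 1, 2, 1, 3, 1, 3, 1, 2, 1, 2, 1, 3, 1, 12, 11, 8, 11, 8, 11, 9, 5, 7, 4, 7, 4, 6, 5], [2, 1, 2, 1, 2, 1, 3, 1, 3, 1, 2, 1, 3, 1, 3, 1, 2, 1, 3, 1, 2, 1, 3, 1, 3, 1, 2, 1, 2, 1, 3, 1, 2, 1, 2, 1, 3, 1, 2, 1, 3, 1, 2, 1, 3, 1, 2, 1, 3, 1, 2, 1, 3, 1, 2, 10, 9, 10, 9, 11, 8, 8, 11, 9, 4, 7, 4, 6, 6, 6, 5], [1, 3, 1, 2, 1, 3, 1, 2, 1, 3, 1, 3, 1, 2, 1, 3, 1, 3, 1, 2, 1, 2, 1, 3, 1, 3, 1, 2, 1, 3, 1, 2, 1, 2, 1, 3, 1, 3, 1, 2, 1, 2, 1, 3, 1, 2, 1, 3, 1, 3, 1, 2, 1, 2, 1, 13, 8, 11, 9, 10, 9, 10,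 10, 8, 10, 5, 6, 5, 7, 5, 6, 4], [2, 1, 3, 1, 2, 1, 3, 1, 2, 1, 2, 1, 3, 1, 2, 1, 3, 1, 2, 1, 3, 1, 3, 1, 2, 1, 2, 1, 3, 1, 2, 1, 3, 1, 2, 1, 3, 1, 3, 1, 2, 1, 3, 1, 2, 1, 3, 1, 2, 1, 3, 1, 2, 1, 3, 13, 9, 11, 9, 10, 4, 7, 5, 5, 7, 7, 7], [2, 1, 2, 1, 3, 1, 2, 1, 3, 1, 2, 1, 3, 1, 3, 1, 2, 1, 3, 1, 3, 1, 2, 1, 2, 1, 3, 1, 3, 1, 2, 1, 2, 1, 3, 1, 3, 1, 2, 1, 3, 1, 2, 1, 3, 1, 3, 1, 2, 1, 3, 1, 2, 1, 3, 14, 9, 10, 10, 9, 10, 8, 10, 10, 6, 6, 4, 7, 5, 6, 4], [1, 3, 1, 2, 1, 2, 1, 3, 1, 2, 1, 3, 1, 2, 1, 2, 1, 3, 1, 3, 1, 2, 1, 3, 1, 2, 1, 3, 1, 3, 1, 2, 1, 3, 1, 2, 1, 3, 1, 3, 1, 2, 1, 3, 1, 2, 1, 3, 1, 2, 1, 2, 1, 3, 1, 2, 12, 14, 14, 9, 10, 10,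 8, 8, 11, 4, 4, 4, 7, 7, 5, 6, 6], [2, 1, 3, 1, 2, 1, 3, 1, 3, 1, 2, 1, 2, 1, 3, 1, 2, 1, 3, 1, 2, 1, 2, 1, 3, 1, 3, 1, 2, 1, 3, 1, 2, 1, 3, 1, 2, 1, 3, 1, 2, 1, 2, 1, 3, 1, 2, 1, 3, 1, 3, 1, 2, 1, 3, 1, 14, 9, 10, 8, 8, 10, 8, 10, 10, 4, 7, 7, 5, 7, 7, 4, 7], [1, 3, 1, 2, 1, 3, 1, 3, 1, 2, 1, 3, 1, 2, 1, 3, 1, 2, 1, 3, 1, 2, 1, 2, 1, 3, 1, 3, 1, 2, 1, 3, 1, 2, 1, 2, 1, 3, 1, 3, 1, 2, 1, 3, 1, 2, 1, 3, 1, 2, 1, 3, 1, 3, 1, 2, 1, 12, 13, 13, 9, 11, 8, 10, 10, 8, 8, 11, 5, 6, 5, 7], [1, 2, 1, 3, 1, 2, 1, 2, 1, 3, 1, 2, 1, 3, 1, 2, 1, 3, 1, 2, 1, 3, 1, 2, 1, 3, 1, 3, 1, 2, 1, 3, 1, 2, 1, 2, 1, 3, 1, 3, 1, 2, 1, 3, 1, 2, 1, 3, 1, 2, 1, 2, 1, 3, 1,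 2, 1, 12, 13, 8, 11, 8, 10, 9, 10, 10, 9, 6, 6, 4, 6, 4, 6, 4]]
def BR : List (List ℕ) := BR_0 ++ BR_1 ++ BR_2 ++ BR_3 ++ BR_4
set_option maxRecDepth 10000000 in
noncomputable def rt : RT := (.node 273 (.node 136 (.node 68 (.node 34 (.node 17 (.node 8 (.node 4 (.node 2 (.node 1 (.leaf 0 0 []) (.leaf 1 10 [1, 3, 1, 2, 1, 3, 1, 2, 1, 2, 5, 1, 2, 1, 2, 1, 3, 1, 2, 1, 2])) (.node 3 (.leaf 1 20 [5, 1, 2, 1, 2, 1, 3, 1, 2, 1, 2, 1, 3, 1, 2, 1, 3, 1, 2, 1, 2]) (.leaf 2 33 [7, 1, 3, 1, 2, 1, 2, 1, 3, 1, 2, 1, 2, 1, 3, 1, 2, 1, 3, 1, 2, 1, 3, 1, 3, 1, 2, 1, 3, 1, 2, 1, 2, 1]))) (.node 6 (.node 5 (.leaf 9 7 [2, 1, 2, 1, 2, 1, 2, 1, 2, 1, 2, 1, 2, 1]) (.leaf 10 7 [3, 1, 3, 1, 3, 1, 3, 1, 3, 1, 3, 1, 3, 1])) (.node 7 (.leaf 7 1 [2, 2, 2]) (.leaf 13 6 [2, 2, 1, 2, 2, 2, 1, 2])))) (.node 12 (.node 10 (.node 9 (.leaf 10 6 [1, 3, 1, 3, 1, 3, 1, 3, 1, 3, 1, 3, 1, 3]) (.leaf 12 7 [3, 3, 1, 3, 3, 1, 3, 3, 1, 3, 3, 1, 3, 3, 1, 3, 3, 1, 3, 3, 1])) (.node 11 (.leaf 12 17 [3, 1, 3, 3, 1, 3, 3, 1, 3, 3, 1, 3, 3, 1, 3, 3, 1, 3, 3, 1, 3]) (.leaf 14 6 [3, 3, 1, 3, 3, 3, 1, 3]))) (.node 14 (.node 13 (.leaf 12 11 [3, 1, 3, 3, 1, 3, 3, 1, 3, 3, 1, 3, 3, 1, 3, 3, 1, 3, 3, 1, 3]) (.leaf 10 5 [3, 1, 3, 1, 3, 1, 3, 1, 3, 1, 3, 1, 3, 1])) (.node 15 (.leaf 11 7 [2, 2, 1, 2, 2, 1, 2, 2, 1, 2, 2, 1, 2, 2, 1, 2, 2, 1, 2, 2, 1]) (.node 16 (.leaf 2 16 [1, 3, 1, 2, 1, 3, 1, 3, 1, 2, 1, 3, 1, 2, 1, 2, 1, 7, 1, 3, 1, 2, 1, 2, 1, 3, 1, 2, 1, 2, 1, 3, 1, 2]) (.leaf 12 8 [3, 1, 3, 3, 1, 3, 3, 1, 3, 3, 1, 3, 3, 1, 3, 3, 1, 3, 3, 1, 3])))))) (.node 25 (.node 21 (.node 19 (.node 18 (.leaf 9 5 [2, 1, 2, 1, 2, 1, 2, 1, 2, 1, 2, 1, 2, 1]) (.leaf 10 3 [3, 1, 3, 1, 3, 1, 3, 1, 3, 1, 3, 1, 3, 1])) (.node 20 (.leaf 11 5 [2, 1, 2, 2, 1, 2, 2, 1, 2, 2, 1, 2, 2, 1, 2, 2, 1, 2, 2, 1, 2]) (.leaf 10 4 [1, 3, 1, 3, 1, 3, 1, 3, 1, 3, 1, 3, 1, 3]))) (.node 23 (.node 22 (.leaf 9 4 [1, 2, 1, 2, 1, 2, 1, 2, 1, 2, 1, 2, 1, 2]) (.leaf 13 5 [2, 2, 2, 1, 2, 2, 2, 1])) (.node 24 (.leaf 13 7 [2, 1, 2, 2, 2, 1, 2, 2]) (.leaf 3 4 [9, 4, 6, 4, 6])))) (.node 29 (.node 27 (.node 26 (.leaf 4 9 [11, 4, 4, 4, 7, 4, 7, 5, 6, 4]) (.leaf 6 9 [14, 10, 8, 10, 9, 10, 8, 11, 8, 10])) (.node 28 (.leaf 5 4 [12, 11, 8, 8, 10]) (.leaf 15 14 [1, 3, 1, 2, 1, 2, 1, 3, 1, 2, 1, 3, 1, 2, 13, 13, 9, 10, 10, 9, 11, 8, 11, 6, 4, 7, 4, 7, 5, 6, 1, 2, 1, 2, 1, 3, 1, 2, 1, 3, 1, 3, 1, 2]))) (.node 31 (.node 30 (.leaf 9 6 [1, 2, 1, 2, 1, 2, 1, 2, 1, 2, 1, 2, 1, 2]) (.leaf 10 8 [1, 3, 1, 3, 1, 3, 1, 3, 1, 3, 1, 3, 1, 3])) (.node 32 (.leaf 12 10 [3, 3, 1, 3, 3, 1, 3, 3, 1, 3, 3, 1, 3, 3, 1, 3, 3, 1, 3, 3, 1]) (.node 33 (.leaf 16 15 [1, 3, 1, 3, 1, 2, 1, 2, 1, 3, 1, 2, 1, 2, 1, 3, 12, 13, 12, 13, 8, 8, 10, 8, 8, 11, 7, 7, 7, 4, 6, 5, 5, 3, 1, 2, 1, 2, 1, 3, 1, 2, 1, 3, 1, 2, 1, 2]) (.leaf 9 3 [2, 1, 2, 1, 2, 1, 2, 1, 2, 1, 2, 1, 2, 1]))))))) (.node 51 (.node 42 (.node 38 (.node 36 (.node 35 (.leaf 10 11 [3, 1, 3, 1, 3, 1, 3, 1, 3, 1, 3, 1, 3, 1]) (.leaf 11 17 [2, 1, 2, 2, 1, 2, 2, 1, 2, 2, 1, 2, 2, 1, 2, 2, 1, 2, 2, 1, 2])) (.node 37 (.leaf 12 18 [1, 3, 3, 1, 3, 3, 1, 3, 3, 1, 3, 3, 1, 3, 3, 1, 3, 3, 1, 3, 3]) (.leaf 17 16 [1, 3, 1, 2, 1, 3, 1, 2, 1, 2, 1, 3, 1, 2, 1, 2, 1, 12, 13, 12, 8, 11, 9, 10, 9, 10, 10, 8, 6, 6, 4, 4, 7, 1, 2, 1, 3, 1, 3, 1, 2, 1, 2, 1, 3, 1, 3, 1, 2]))) (.node 40 (.node 39 (.leaf 18 16 [2, 1, 3, 1, 2, 1, 3, 1, 2, 1, 3, 1, 2, 1, 2, 1, 3, 12, 13, 12, 9, 10, 9, 10, 7, 7, 7, 4, 6, 4, 7, 3, 1, 3, 1, 2, 1, 2, 1, 3, 1, 2, 1, 3, 1, 3, 1]) (.leaf 7 2 [2, 2, 2])) (.node 41 (.leaf 9 8 [1, 2, 1, 2, 1, 2, 1, 2, 1, 2, 1, 2, 1, 2]) (.leaf 11 3 [1, 2, 2, 1, 2, 2, 1, 2, 2, 1, 2, 2, 1, 2, 2, 1, 2, 2, 1, 2, 2])))) (.node 46 (.node 44 (.node 43 (.leaf 9 13 [2, 1, 2, 1, 2, 1, 2, 1, 2, 1, 2, 1, 2, 1]) (.leaf 11 19 [2, 2, 1, 2, 2, 1, 2, 2, 1, 2, 2, 1, 2, 2, 1, 2, 2, 1, 2, 2, 1])) (.node 45 (.leaf 19 18 [1, 3, 1, 2, 1, 3, 1, 2, 1, 3, 1, 2, 1, 3, 1, 2, 1, 3, 1, 13, 12, 13, 10, 9, 10, 8, 11, 5, 5, 6, 6, 6, 5, 1, 2, 1, 3, 1, 2, 1, 2, 1, 3, 1, 3, 1, 2, 1, 2, 1, 3]) (.leaf 11 10 [2, 2, 1, 2, 2, 1, 2, 2, 1, 2, 2, 1, 2, 2, 1, 2, 2, 1, 2, 2, 1]))) (.node 48 (.node 47 (.leaf 11 11 [2, 1, 2, 2, 1, 2, 2, 1, 2, 2, 1, 2, 2, 1, 2, 2, 1, 2, 2, 1, 2]) (.leaf 20 18 [2, 1, 2, 1, 3, 1, 2, 1, 3, 1, 3, 1, 2, 1, 2, 1, 3, 1, 3, 12, 13, 11, 8, 10, 10, 9, 11, 8, 11, 5, 5, 5, 6, 6, 4, 4, 3, 1, 2, 1, 3, 1, 2, 1, 2, 1, 3, 1, 2, 1, 3, 1, 3, 1])) (.node 49 (.leaf 9 10 [1, 2, 1, 2, 1, 2, 1, 2, 1, 2, 1, 2, 1, 2]) (.node 50 (.leaf 21 18 [2, 1, 3, 1, 3, 1, 2, 1, 2, 1, 3, 1, 2, 1, 2, 1, 3, 1, 3, 1, 12, 13, 12, 10, 8, 11, 9, 10, 9, 10, 9, 7, 7, 7, 5, 6, 6, 5, 2, 1, 3, 1, 2, 1, 2, 1, 3, 1, 2, 1, 3, 1, 2, 1, 3, 1]) (.leaf 11 0 [1, 2, 2, 1, 2, 2, 1, 2, 2, 1, 2, 2, 1, 2, 2, 1, 2, 2, 1, 2, 2])))))) (.node 59 (.node 55 (.node 53 (.node 52 (.leaf 9 11 [2, 1, 2, 1, 2, 1, 2, 1, 2, 1, 2, 1, 2, 1]) (.leaf 10 12 [1, 3, 1, 3, 1, 3, 1, 3, 1, 3, 1, 3, 1, 3])) (.node 54 (.leaf 22 19 [1, 2, 1, 2, 1, 3, 1, 2, 1, 3, 1, 2, 1, 3, 1, 2, 1, 3, 1, 3, 12, 13, 12, 10, 8, 8, 10, 10, 9, 10, 9, 10, 4, 4, 7, 5, 6, 5, 5, 5, 3, 1, 2, 1, 2, 1, 3, 1, 3, 1, 2, 1, 3, 1, 2, 1, 2, 1, 3]) (.leaf 10 9 [3, 1, 3, 1, 3, 1, 3, 1, 3, 1, 3, 1, 3, 1]))) (.node 57 (.node 56 (.leaf 11 13 [2, 2, 1, 2, 2, 1, 2, 2, 1, 2, 2, 1, 2, 2, 1, 2, 2, 1, 2, 2, 1]) (.leaf 23 19 [1, 3, 1, 2, 1, 3, 1, 3, 1, 2, 1, 2, 1, 3, 1, 3, 1, 2, 1, 3, 13, 12, 13, 8, 10, 8, 10, 9, 11, 8, 8, 4, 6, 6, 5, 6, 2, 1, 3, 1, 2, 1, 3, 1, 2, 1, 3, 1, 2, 1, 3, 1, 3, 1, 2])) (.node 58 (.leaf 11 14 [2, 1, 2, 2, 1, 2, 2, 1, 2, 2, 1, 2, 2, 1, 2, 2, 1, 2, 2, 1, 2]) (.leaf 24 20 [1, 2, 1, 3, 1, 3, 1, 2, 1, 3, 1, 2, 1, 3, 1, 2, 1, 2, 1, 3, 1, 13, 12, 13, 8, 10, 8, 10, 10, 9, 10, 9, 10, 4, 7, 5, 5, 6, 6, 6, 6, 1, 3, 1, 3, 1, 2, 1, 3, 1, 3, 1, 2, 1, 2, 1, 3, 1, 2, 1, 3])))) (.node 63 (.node 61 (.node 60 (.leaf 9 9 [2, 1, 2, 1, 2, 1, 2, 1, 2, 1, 2, 1, 2, 1]) (.leaf 12 14 [3, 1, 3, 3, 1, 3, 3, 1, 3, 3, 1, 3, 3, 1, 3, 3, 1, 3, 3, 1, 3])) (.node 62 (.leaf 25 20 [2, 1, 3, 1, 2, 1, 2, 1, 3, 1, 2, 1, 3, 1, 3, 1, 2, 1, 2, 1, 2, 11, 8, 10, 10, 8, 10, 10, 6, 6, 6, 5, 6, 4, 3, 1, 2, 1, 3, 1, 2, 1, 2, 1, 3, 1, 3, 1, 2, 1, 3, 1, 2, 1]) (.leaf 11 18 [1, 2, 2, 1, 2, 2, 1, 2, 2, 1, 2, 2, 1, 2, 2, 1, 2, 2, 1, 2, 2]))) (.node 65 (.node 64 (.leaf 26 20 [2, 1, 3, 1, 2, 1, 2, 1, 3, 1, 2, 1, 3, 1, 3, 1, 2, 1, 3, 1, 3, 12, 13, 12, 10, 8, 8, 10, 9, 11, 8, 11, 9, 4, 7, 4, 7, 4, 7, 7, 4, 2, 1, 2, 1, 3, 1, 3, 1, 2, 1, 3, 1, 2, 1, 3, 1, 2, 1, 3, 1]) (.leaf 11 6 [1, 2, 2, 1, 2, 2, 1, 2, 2, 1, 2, 2, 1, 2, 2, 1, 2, 2, 1, 2, 2])) (.node 66 (.leaf 27 20 [1, 2, 1, 3, 1, 2, 1, 2, 1, 3, 1, 3, 1, 2, 1, 2, 1, 3, 1, 3, 1, 12, 13, 13, 8, 10, 8, 8, 10, 9, 11, 8, 5, 7, 5, 7, 5, 7, 5, 6, 1, 3, 1, 2, 1, 2, 1, 3, 1, 3, 1, 2, 1, 2, 1, 3, 1, 2, 1, 3]) (.node 67 (.leaf 11 8 [2, 1, 2, 2, 1, 2, 2, 1, 2, 2, 1, 2, 2, 1, 2, 2, 1, 2, 2, 1, 2]) (.leaf 28 20 [2, 1, 3, 1, 2, 1, 2, 1, 3, 1, 2, 1, 3, 1, 3, 1, 2, 1, 2, 1, 3, 12, 14, 12, 9, 10, 8, 11, 8, 11, 8, 6, 4, 4, 4, 4, 7, 3, 1, 2, 1, 2, 1, 3, 1, 3, 1, 2, 1, 3, 1, 3, 1, 2, 1, 3, 1])))))))) (.node 102 (.node 85 (.node 76 (.node 72 (.node 70 (.node 69 (.leaf 29 20 [2, 1, 3, 1, 2, 1, 3, 1, 2, 1, 3, 1, 2, 1, 3, 1, 3, 1, 2, 1, 2, 1, 12, 14, 11, 8, 11, 8, 10, 9, 4, 4, 7, 5, 6, 5, 7, 2, 1, 2, 1, 2, 1, 3, 1, 3, 1, 2, 1, 3, 1, 2, 1, 2, 1, 3, 1]) (.leaf 30 21 [2, 1, 3, 1, 2, 1, 3, 1, 2, 1, 3, 1, 2, 1, 2, 1, 3, 1, 3, 1, 2, 12, 14, 14, 8, 8, 10, 8, 11, 9, 11, 4, 6, 6, 6, 5, 7, 4, 7, 1, 2, 1, 3, 1, 2, 1, 3, 1, 2, 1, 2, 1, 3, 1, 3, 1, 2, 1, 3, 1])) (.node 71 (.leaf 11 20 [2, 1, 2, 2, 1, 2, 2, 1, 2, 2, 1, 2, 2, 1, 2, 2, 1, 2, 2, 1, 2]) (.leaf 31 21 [2, 1, 2, 1, 3, 1, 3, 1, 2, 1, 2, 1, 3, 1, 2, 1, 3, 1, 3, 1, 2, 12, 10, 10, 8, 11, 9, 10, 4, 4, 6, 5, 5, 1, 3, 1, 2, 1, 3, 1, 2, 1, 2, 1, 3, 1, 3, 1, 2, 1, 3, 1, 3, 1]))) (.node 74 (.node 73 (.leaf 11 15 [1, 2, 2, 1, 2, 2, 1, 2, 2, 1, 2, 2, 1, 2, 2, 1, 2, 2, 1, 2, 2]) (.leaf 32 21 [2, 1, 3, 1, 2, 1, 3, 1, 2, 1, 2, 1, 3, 1, 3, 1, 2, 1, 3, 1, 3, 13, 12, 8, 11, 9, 10, 9, 11, 8, 6, 4, 6, 5, 6, 5, 1, 3, 1, 2, 1, 3, 1, 3, 1, 2, 1, 3, 1, 3, 1, 2, 1, 2, 1, 3, 1])) (.node 75 (.leaf 33 21 [1, 2, 1, 2, 1, 3, 1, 3, 1, 2, 1, 3, 1, 2, 1, 2, 1, 3, 1, 2, 1, 3, 12, 14, 8, 8, 11, 8, 10, 8, 11, 6, 5, 7, 7, 5, 7, 4, 2, 1, 3, 1, 2, 1, 3, 1, 3, 1, 2, 1, 3, 1, 2, 1, 3, 1, 2, 1, 3]) (.leaf 34 21 [2, 1, 2, 1, 3, 1, 3, 1, 2, 1, 2, 1, 3, 1, 2, 1, 3, 1, 2, 1, 2, 1, 12, 10, 10, 8, 11, 8, 11, 8, 5, 7, 5, 6, 5, 5, 5, 6, 1, 3, 1, 2, 1, 3, 1, 2, 1, 3, 1, 2, 1, 3, 1, 2, 1, 3, 1, 3, 1])))) (.node 80 (.node 78 (.node 77 (.leaf 35 21 [1, 3, 1, 2, 1, 3, 1, 2, 1, 3, 1, 3, 1, 2, 1, 3, 1, 2, 1, 3, 1, 2, 12, 13, 8, 10, 10, 9, 11, 8, 11, 8, 4, 4, 7, 4, 6, 6, 5, 2, 1, 3, 1, 2, 1, 3, 1, 2, 1, 3, 1, 3, 1, 2, 1, 3, 1, 2, 1, 3]) (.leaf 12 6 [1, 3, 3, 1, 3, 3, 1, 3, 3, 1, 3, 3, 1, 3, 3, 1, 3, 3, 1, 3, 3])) (.node 79 (.leaf 36 22 [1, 3, 1, 2, 1, 3, 1, 2, 1, 3, 1, 2, 1, 3, 1, 2, 1, 3, 1, 2, 1, 3, 13, 12, 13, 10, 9, 10, 8, 11, 5, 5, 6, 6, 6, 5, 1, 2, 1, 3, 1, 2, 1, 2, 1, 3, 1, 2, 1, 3, 1, 2, 1, 2, 1, 3, 1, 2]) (.leaf 12 16 [3, 3, 1, 3, 3, 1, 3, 3, 1, 3, 3, 1, 3, 3, 1, 3, 3, 1, 3, 3, 1]))) (.node 82 (.node 81 (.leaf 37 22 [1, 3, 1, 2, 1, 3, 1, 3, 1, 2, 1, 2, 1, 3, 1, 2, 1, 2, 1, 3, 1, 2, 12, 13, 9, 10, 10, 9, 10, 10, 8, 8, 4, 4, 6, 4, 6, 4, 1, 3, 1, 2, 1, 3, 1, 2, 1, 3, 1, 3, 1, 2, 1, 3, 1, 2, 1, 3, 1, 2]) (.leaf 10 10 [1, 3, 1, 3, 1, 3, 1, 3, 1, 3, 1, 3, 1, 3])) (.node 83 (.leaf 38 22 [1, 2, 1, 3, 1, 2, 1, 3, 1, 3, 1, 2, 1, 3, 1, 2, 1, 3, 1, 2, 1, 3, 12, 13, 12, 9, 10, 8, 7, 7, 5, 5, 5, 5, 5, 1, 3, 1, 2, 1, 3, 1, 2, 1, 3, 1, 2, 1, 3, 1, 3, 1, 2, 1, 3, 1, 2]) (.node 84 (.leaf 39 22 [1, 3, 1, 2, 1, 3, 1, 3, 1, 2, 1, 3, 1, 2, 1, 3, 1, 3, 1, 2, 1, 3, 13, 11, 8, 11, 8, 10, 9, 10, 5, 7, 7, 4, 7, 4, 1, 2, 1, 3, 1, 2, 1, 3, 1, 3, 1, 2, 1, 2, 1, 3, 1, 3, 1, 2, 1, 2]) (.leaf 11 4 [2, 2, 1, 2, 2, 1, 2, 2, 1, 2, 2, 1, 2, 2, 1, 2, 2, 1, 2, 2, 1])))))) (.node 93 (.node 89 (.node 87 (.node 86 (.leaf 40 22 [1, 2, 1, 3, 1, 2, 1, 3, 1, 2, 1, 2, 1, 3, 1, 2, 1, 3, 1, 3, 1, 2, 12, 13, 12, 13, 8, 10, 9, 11, 8, 8, 10, 9, 4, 4, 4, 6, 6, 5, 6, 6, 1, 2, 1, 3, 1, 2, 1, 3, 1, 3, 1, 2, 1, 3, 1, 2, 1, 2, 1, 3, 1, 3]) (.leaf 12 5 [3, 1, 3, 3, 1, 3, 3, 1, 3, 3, 1, 3, 3, 1, 3, 3, 1, 3, 3, 1, 3])) (.node 88 (.leaf 41 22 [1, 3, 1, 2, 1, 3, 1, 2, 1, 2, 1, 3, 1, 3, 1, 2, 1, 2, 1, 3, 1, 3, 12, 13, 12, 13, 8, 11, 8, 8, 11, 9, 10, 5, 7, 4, 6, 6, 5, 6, 1, 3, 1, 2, 1, 2, 1, 3, 1, 2, 1, 3, 1, 3, 1, 2, 1, 2, 1, 3, 1, 2]) (.leaf 42 21 [1, 2, 1, 3, 1, 2, 1, 3, 1, 3, 1, 2, 1, 3, 1, 2, 1, 3, 1, 3, 1, 2, 1, 13, 12, 13, 8, 11, 9, 10, 8, 11, 8, 11, 4, 7, 4, 6, 5, 5, 6, 2, 1, 3, 1, 2, 1, 3, 1, 3, 1, 2, 1, 2, 1, 3, 1, 3, 1, 2, 1, 3]))) (.node 91 (.node 90 (.leaf 12 13 [3, 3, 1, 3, 3, 1, 3, 3, 1, 3, 3, 1, 3, 3, 1, 3, 3, 1, 3, 3, 1]) (.leaf 43 21 [1, 2, 1, 2, 1, 3, 1, 3, 1, 2, 1, 2, 1, 3, 1, 2, 1, 3, 1, 2, 1, 3, 1, 12, 13, 12, 8, 10, 10, 8, 8, 10, 10, 8, 6, 5, 6, 4, 7, 4, 7, 7, 2, 1, 2, 1, 3, 1, 2, 1, 3, 1, 3, 1, 2, 1, 3, 1, 2, 1, 3, 1, 3])) (.node 92 (.leaf 11 9 [1, 2, 2, 1, 2, 2, 1, 2, 2, 1, 2, 2, 1, 2, 2, 1, 2, 2, 1, 2, 2]) (.leaf 12 20 [3, 1, 3, 3, 1, 3, 3, 1, 3, 3, 1, 3, 3, 1, 3, 3, 1, 3, 3, 1, 3])))) (.node 97 (.node 95 (.node 94 (.leaf 44 21 [1, 2, 1, 3, 1, 2, 1, 3, 1, 2, 1, 3, 1, 2, 1, 3, 1, 2, 1, 2, 1, 3, 1, 12, 14, 12, 10, 10, 9, 10, 10, 4, 4, 6, 6, 4, 2, 1, 3, 1, 3, 1, 2, 1, 2, 1, 3, 1, 2, 1, 3, 1, 2, 1, 3, 1, 2]) (.leaf 45 21 [1, 3, 1, 3, 1, 2, 1, 2, 1, 3, 1, 2, 1, 3, 1, 2, 1, 3, 1, 2, 1, 2, 1, 12, 14, 8, 11, 8, 8, 11, 9, 11, 8, 5, 5, 7, 5, 6, 5, 6, 3, 1, 2, 1, 3, 1, 3, 1, 2, 1, 3, 1, 2, 1, 3, 1, 2, 1, 3, 1, 2])) (.node 96 (.leaf 11 16 [2, 2, 1, 2, 2, 1, 2, 2, 1, 2, 2, 1, 2, 2, 1, 2, 2, 1, 2, 2, 1]) (.leaf 46 22 [2, 1, 3, 1, 2, 1, 3, 1, 3, 1, 2, 1, 2, 1, 3, 1, 3, 1, 2, 1, 3, 1, 3, 13, 13, 8, 10, 10, 8, 11, 8, 6, 6, 5, 5, 7, 7, 5, 2, 1, 2, 1, 3, 1, 3, 1, 2, 1, 3, 1, 2, 1, 2, 1, 3, 1, 2, 1, 3, 1]))) (.node 99 (.node 98 (.leaf 47 22 [1, 2, 1, 2, 1, 3, 1, 2, 1, 3, 1, 2, 1, 3, 1, 3, 1, 2, 1, 2, 1, 3, 1, 12, 14, 8, 10, 9, 11, 8, 11, 9, 5, 6, 5, 6, 4, 7, 1, 3, 1, 2, 1, 3, 1, 2, 1, 2, 1, 3, 1, 2, 1, 3, 1, 3, 1, 2, 1, 3]) (.leaf 48 22 [2, 1, 3, 1, 2, 1, 3, 1, 2, 1, 3, 1, 3, 1, 2, 1, 2, 1, 3, 1, 3, 1, 2, 12, 14, 14, 10, 8, 10, 9, 11, 8, 10, 4, 7, 5, 5, 6, 4, 6, 3, 1, 2, 1, 3, 1, 2, 1, 3, 1, 2, 1, 2, 1, 3, 1, 2, 1, 3, 1, 3, 1])) (.node 100 (.leaf 9 12 [1, 2, 1, 2, 1, 2, 1, 2, 1, 2, 1, 2, 1, 2]) (.node 101 (.leaf 49 22 [1, 3, 1, 2, 1, 2, 1, 3, 1, 2, 1, 3, 1, 2, 1, 2, 1, 3, 1, 3, 1, 2, 1, 12, 14, 10, 8, 11, 8, 11, 5, 5, 7, 7, 7, 5, 7, 1, 3, 1, 2, 1, 3, 1, 2, 1, 3, 1, 2, 1, 2, 1, 3, 1, 3, 1, 2, 1, 2]) (.leaf 50 22 [2, 1, 3, 1, 2, 1, 3, 1, 2, 1, 3, 1, 2, 1, 3, 1, 2, 1, 3, 1, 3, 1, 3, 12, 13, 12, 9, 10, 9, 10, 7, 7, 7, 4, 6, 4, 7, 3, 1, 2, 1, 3, 1, 3, 1, 2, 1, 3, 1, 2, 1, 2, 1, 3, 1, 2, 1, 3, 1]))))))) (.node 119 (.node 110 (.node 106 (.node 104 (.node 103 (.leaf 51 23 [2, 1, 3, 1, 2, 1, 2, 1, 3, 1, 2, 1, 3, 1, 2, 1, 2, 1, 3, 1, 3, 1, 3, 8, 8, 10, 9, 10, 9, 11, 9, 4, 6, 6, 6, 5, 6, 6, 1, 3, 1, 2, 1, 3, 1, 2, 1, 3, 1, 3, 1, 2, 1, 2, 1, 3, 1, 2, 1, 3, 1]) (.leaf 52 22 [2, 1, 3, 1, 2, 1, 3, 1, 3, 1, 2, 1, 3, 1, 2, 1, 3, 1, 3, 1, 2, 1, 2, 1, 14, 11, 8, 11, 8, 10, 9, 11, 6, 4, 6, 5, 7, 7, 2, 1, 2, 1, 3, 1, 3, 1, 2, 1, 3, 1, 3, 1, 2, 1, 2, 1, 3, 1, 3, 1])) (.node 105 (.leaf 53 23 [2, 1, 3, 1, 3, 1, 2, 1, 3, 1, 2, 1, 3, 1, 2, 1, 3, 1, 2, 1, 3, 1, 2, 12, 14, 9, 10, 6, 4, 7, 7, 7, 7, 1, 3, 1, 2, 1, 2, 1, 3, 1, 2, 1, 3, 1, 3, 1, 2, 1, 3, 1, 2, 1, 3, 1]) (.leaf 10 13 [3, 1, 3, 1, 3, 1, 3, 1, 3, 1, 3, 1, 3, 1]))) (.node 108 (.node 107 (.leaf 54 22 [2, 1, 3, 1, 3, 1, 2, 1, 2, 1, 3, 1, 2, 1, 2, 1, 3, 1, 3, 1, 2, 1, 3, 1, 13, 12, 8, 8, 11, 9, 10, 8, 10, 5, 7, 5, 5, 6, 4, 7, 5, 2, 1, 2, 1, 2, 1, 3, 1, 2, 1, 3, 1, 2, 1, 3, 1, 2, 1, 2, 1, 3, 1]) (.leaf 10 0 [1, 3, 1, 3, 1, 3, 1, 3, 1, 3, 1, 3, 1, 3])) (.node 109 (.leaf 12 19 [3, 3, 1, 3, 3, 1, 3, 3, 1, 3, 3, 1, 3, 3, 1, 3, 3, 1, 3, 3, 1]) (.leaf 14 5 [3, 3, 3, 1, 3, 3, 3, 1])))) (.node 114 (.node 112 (.node 111 (.leaf 8 1 [3, 3, 3]) (.leaf 55 23 [2, 1, 3, 1, 3, 1, 2, 1, 3, 1, 2, 1, 3, 1, 2, 1, 3, 1, 2, 1, 3, 1, 2, 1, 12, 10, 8, 8, 10, 10, 9, 11, 8, 10, 4, 4, 7, 7, 5, 1, 3, 1, 3, 1, 2, 1, 2, 1, 3, 1, 3, 1, 2, 1, 3, 1, 2, 1, 2, 1, 3, 1])) (.node 113 (.leaf 56 23 [2, 1, 2, 1, 3, 1, 3, 1, 2, 1, 3, 1, 2, 1, 3, 1, 2, 1, 2, 1, 3, 1, 3, 1, 12, 13, 12, 9, 11, 8, 10, 10, 6, 6, 4, 6, 6, 1, 3, 1, 2, 1, 2, 1, 3, 1, 2, 1, 3, 1, 2, 1, 3, 1, 2, 1, 3, 1, 3, 1]) (.leaf 57 23 [1, 3, 1, 3, 1, 2, 1, 3, 1, 2, 1, 3, 1, 3, 1, 2, 1, 2, 1, 3, 1, 3, 1, 3, 13, 13, 8, 10, 8, 8, 10, 9, 11, 4, 7, 7, 4, 4, 2, 1, 2, 1, 3, 1, 2, 1, 3, 1, 2, 1, 2, 1, 3, 1, 3, 1, 2, 1, 3, 1, 2]))) (.node 116 (.node 115 (.leaf 58 23 [1, 3, 1, 3, 1, 2, 1, 2, 1, 3, 1, 2, 1, 2, 1, 3, 1, 2, 1, 3, 1, 3, 1, 3, 14, 14, 8, 8, 10, 9, 11, 8, 8, 11, 4, 7, 4, 4, 4, 4, 6, 5, 2, 1, 2, 1, 3, 1, 3, 1, 2, 1, 3, 1, 3, 1, 2, 1, 3, 1, 2, 1, 3, 1, 2]) (.leaf 59 23 [1, 2, 1, 2, 1, 3, 1, 3, 1, 2, 1, 2, 1, 3, 1, 3, 1, 2, 1, 2, 1, 3, 1, 2, 1, 13, 8, 10, 10, 9, 11, 5, 7, 5, 6, 5, 5, 2, 1, 2, 1, 3, 1, 2, 1, 2, 1, 3, 1, 2, 1, 3, 1, 2, 1, 3, 1, 2, 1, 3])) (.node 117 (.leaf 60 24 [1, 2, 1, 3, 1, 3, 1, 2, 1, 2, 1, 3, 1, 2, 1, 3, 1, 2, 1, 2, 1, 3, 1, 3, 13, 9, 11, 9, 10, 5, 7, 5, 6, 5, 5, 5, 6, 1, 2, 1, 3, 1, 2, 1, 3, 1, 3, 1, 2, 1, 3, 1, 2, 1, 3, 1, 3, 1, 2, 1, 3]) (.node 118 (.leaf 61 23 [1, 3, 1, 3, 1, 2, 1, 3, 1, 3, 1, 2, 1, 3, 1, 2, 1, 2, 1, 3, 1, 3, 1, 2, 1, 8, 10, 9, 11, 8, 8, 6, 6, 6, 4, 6, 6, 5, 2, 1, 2, 1, 2, 1, 3, 1, 3, 1, 2, 1, 3, 1, 2, 1, 3, 1, 2, 1, 3, 1, 2]) (.leaf 62 24 [1, 2, 1, 2, 1, 3, 1, 3, 1, 2, 1, 2, 1, 3, 1, 2, 1, 2, 1, 3, 1, 2, 1, 3, 13, 12, 9, 10, 8, 10, 10, 8, 5, 5, 7, 5, 5, 7, 1, 3, 1, 2, 1, 3, 1, 2, 1, 2, 1, 3, 1, 2, 1, 3, 1, 2, 1, 3, 1, 2, 1, 3])))))) (.node 127 (.node 123 (.node 121 (.node 120 (.leaf 63 24 [2, 1, 3, 1, 2, 1, 2, 1, 3, 1, 2, 1, 3, 1, 3, 1, 2, 1, 2, 1, 3, 1, 3, 1, 3, 14, 14, 8, 11, 8, 10, 8, 4, 7, 7, 5, 7, 7, 2, 1, 2, 1, 2, 1, 3, 1, 3, 1, 2, 1, 2, 1, 3, 1, 2, 1, 3, 1, 3, 1, 2, 1]) (.leaf 64 24 [2, 1, 3, 1, 2, 1, 2, 1, 3, 1, 3, 1, 2, 1, 2, 1, 3, 1, 3, 1, 2, 1, 2, 1, 3, 12, 13, 12, 8, 8, 10, 9, 11, 9, 10, 10, 4, 4, 4, 7, 7, 2, 1, 3, 1, 2, 1, 3, 1, 2, 1, 2, 1, 3, 1, 3, 1, 2, 1, 2, 1, 3, 1, 3, 1])) (.node 122 (.leaf 65 24 [2, 1, 3, 1, 3, 1, 2, 1, 3, 1, 2, 1, 2, 1, 3, 1, 3, 1, 2, 1, 2, 1, 3, 1, 2, 12, 13, 13, 9, 10, 9, 10, 10, 8, 4, 4, 4, 7, 5, 6, 2, 1, 2, 1, 3, 1, 2, 1, 3, 1, 2, 1, 2, 1, 3, 1, 2, 1, 3, 1, 3, 1, 2, 1]) (.leaf 12 15 [1, 3, 3, 1, 3, 3, 1, 3, 3, 1, 3, 3, 1, 3, 3, 1, 3, 3, 1, 3, 3]))) (.node 125 (.node 124 (.leaf 66 24 [1, 3, 1, 2, 1, 3, 1, 2, 1, 3, 1, 2, 1, 3, 1, 3, 1, 2, 1, 2, 1, 3, 1, 2, 1, 12, 13, 12, 8, 11, 9, 10, 9, 10, 10, 8, 6, 6, 4, 4, 7, 1, 2, 1, 3, 1, 2, 1, 3, 1, 2, 1, 2, 1, 3, 1, 2, 1, 3, 1, 2, 1, 3, 1, 2]) (.leaf 67 24 [1, 2, 1, 3, 1, 2, 1, 3, 1, 2, 1, 3, 1, 2, 1, 3, 1, 2, 1, 2, 1, 3, 1, 3, 1, 13, 13, 8, 8, 11, 9, 10, 8, 10, 5, 7, 4, 7, 1, 3, 1, 2, 1, 2, 1, 3, 1, 3, 1, 2, 1, 3, 1, 2, 1, 3, 1, 2, 1, 2, 1, 3])) (.node 126 (.leaf 68 25 [2, 1, 3, 1, 3, 1, 2, 1, 2, 1, 3, 1, 2, 1, 2, 1, 3, 1, 3, 1, 2, 1, 2, 1, 3, 12, 8, 10, 9, 11, 8, 11, 8, 10, 10, 5, 5, 6, 6, 5, 7, 7, 7, 1, 3, 1, 3, 1, 2, 1, 3, 1, 2, 1, 3, 1, 2, 1, 3, 1, 2, 1, 3, 1, 2, 1, 3, 1]) (.leaf 69 25 [1, 2, 1, 2, 1, 3, 1, 2, 1, 3, 1, 2, 1, 2, 1, 3, 1, 3, 1, 2, 1, 2, 1, 3, 1, 2, 12, 14, 12, 9, 10, 10, 9, 11, 8, 8, 11, 6, 5, 6, 5, 5, 5, 7, 7, 3, 1, 3, 1, 2, 1, 2, 1, 3, 1, 2, 1, 3, 1, 2, 1, 2, 1, 3, 1, 3, 1, 2, 1, 3])))) (.node 131 (.node 129 (.node 128 (.leaf 70 25 [1, 3, 1, 2, 1, 2, 1, 3, 1, 3, 1, 2, 1, 3, 1, 2, 1, 3, 1, 3, 1, 2, 1, 3, 1, 3, 14, 9, 10, 10, 8, 10, 9, 10, 9, 5, 6, 5, 7, 5, 5, 7, 5, 2, 1, 2, 1, 2, 1, 3, 1, 2, 1, 3, 1, 3, 1, 2, 1, 2, 1, 3, 1, 2, 1, 3, 1, 2]) (.leaf 71 25 [1, 2, 1, 3, 1, 2, 1, 3, 1, 2, 1, 3, 1, 2, 1, 2, 1, 3, 1, 2, 1, 2, 1, 3, 1, 2, 12, 13, 8, 11, 9, 11, 8, 10, 7, 4, 6, 5, 5, 5, 5, 2, 1, 2, 1, 3, 1, 2, 1, 3, 1, 3, 1, 2, 1, 3, 1, 2, 1, 2, 1, 3, 1, 3, 1, 2])) (.node 130 (.leaf 72 25 [1, 3, 1, 3, 1, 2, 1, 3, 1, 2, 1, 3, 1, 2, 1, 2, 1, 3, 1, 3, 1, 2, 1, 2, 1, 3, 13, 12, 10, 10, 8, 11, 9, 10, 8, 5, 7, 7, 7, 7, 5, 7, 2, 1, 2, 1, 2, 1, 3, 1, 2, 1, 3, 1, 3, 1, 2, 1, 3, 1, 2, 1, 2, 1, 3, 1, 2]) (.leaf 73 25 [1, 3, 1, 2, 1, 3, 1, 2, 1, 3, 1, 3, 1, 2, 1, 2, 1, 3, 1, 2, 1, 2, 1, 3, 1, 3, 12, 14, 14, 8, 8, 10, 8, 10, 10, 4, 4, 4, 4, 4, 6, 6, 4, 2, 1, 2, 1, 3, 1, 2, 1, 3, 1, 3, 1, 2, 1, 2, 1, 3, 1, 2, 1, 3, 1, 2, 1, 3]))) (.node 133 (.node 132 (.leaf 74 25 [2, 1, 3, 1, 2, 1, 3, 1, 3, 1, 2, 1, 3, 1, 2, 1, 3, 1, 2, 1, 3, 1, 2, 1, 2, 1, 12, 13, 9, 11, 8, 10, 10, 8, 11, 4, 4, 7, 4, 7, 4, 1, 3, 1, 3, 1, 2, 1, 2, 1, 3, 1, 3, 1, 2, 1, 2, 1, 3, 1, 2, 1, 3, 1, 2, 1]) (.leaf 75 25 [1, 2, 1, 3, 1, 2, 1, 3, 1, 3, 1, 2, 1, 2, 1, 3, 1, 2, 1, 3, 1, 3, 1, 2, 1, 3, 1, 12, 14, 12, 8, 11, 8, 10, 10, 8, 11, 6, 6, 5, 7, 7, 5, 2, 1, 2, 1, 3, 1, 2, 1, 3, 1, 3, 1, 2, 1, 2, 1, 3, 1, 3, 1, 2, 1, 3, 1, 2])) (.node 134 (.leaf 76 25 [1, 2, 1, 2, 1, 3, 1, 2, 1, 3, 1, 2, 1, 2, 1, 3, 1, 2, 1, 3, 1, 3, 1, 2, 1, 2, 1, 10, 10, 8, 8, 11, 8, 10, 5, 5, 6, 5, 6, 6, 4, 6, 3, 1, 2, 1, 3, 1, 3, 1, 2, 1, 3, 1, 2, 1, 3, 1, 3, 1, 2, 1, 3, 1, 2, 1, 3]) (.node 135 (.leaf 77 26 [1, 2, 1, 3, 1, 3, 1, 2, 1, 3, 1, 2, 1, 3, 1, 3, 1, 2, 1, 3, 1, 2, 1, 2, 1, 3, 12, 8, 8, 10, 9, 10, 10, 6, 4, 6, 5, 7, 5, 5, 6, 1, 2, 1, 3, 1, 2, 1, 3, 1, 2, 1, 2, 1, 3, 1, 2, 1, 3, 1, 3, 1, 2, 1, 2, 1, 3]) (.leaf 12 4 [3, 3, 1, 3, 3, 1, 3, 3, 1, 3, 3, 1, 3, 3, 1, 3, 3, 1, 3, 3, 1]))))))))) (.node 204 (.node 170 (.node 153 (.node 144 (.node 140 (.node 138 (.node 137 (.leaf 78 25 [1, 3, 1, 2, 1, 3, 1, 3, 1, 2, 1, 3, 1, 2, 1, 3, 1, 3, 1, 2, 1, 2, 1, 3, 1, 2, 1, 13, 8, 10, 10, 9, 11, 5, 7, 5, 6, 5, 5, 2, 1, 3, 1, 2, 1, 2, 1, 3, 1, 3, 1, 2, 1, 3, 1, 2, 1, 3, 1, 2, 1, 3, 1, 2]) (.leaf 79 26 [1, 3, 1, 2, 1, 3, 1, 2, 1, 2, 1, 3, 1, 2, 1, 3, 1, 3, 1, 2, 1, 2, 1, 3, 1, 2, 1, 12, 13, 12, 13, 9, 11, 8, 10, 10, 8, 11, 8, 6, 4, 7, 5, 6, 4, 1, 3, 1, 2, 1, 2, 1, 3, 1, 3, 1, 2, 1, 3, 1, 2, 1, 3, 1, 2, 1, 3, 1, 3, 1, 2])) (.node 139 (.leaf 12 3 [1, 3, 3, 1, 3, 3, 1, 3, 3, 1, 3, 3, 1, 3, 3, 1, 3, 3, 1, 3, 3]) (.leaf 80 26 [2, 1, 3, 1, 3, 1, 2, 1, 3, 1, 3, 1, 2, 1, 3, 1, 2, 1, 3, 1, 3, 1, 2, 1, 2, 1, 3, 12, 13, 12, 13, 10, 9, 10, 9, 10, 5, 7, 4, 6, 6, 4, 2, 1, 2, 1, 2, 1, 3, 1, 3, 1, 2, 1, 3, 1, 3, 1, 2, 1, 3, 1, 2, 1, 2, 1, 3, 1]))) (.node 142 (.node 141 (.leaf 81 26 [2, 1, 2, 1, 3, 1, 2, 1, 2, 1, 3, 1, 2, 1, 3, 1, 2, 1, 3, 1, 2, 1, 3, 1, 3, 1, 3, 12, 14, 12, 8, 10, 10, 9, 11, 8, 11, 8, 5, 5, 7, 5, 5, 7, 7, 4, 3, 1, 2, 1, 2, 1, 3, 1, 3, 1, 2, 1, 3, 1, 2, 1, 3, 1, 3, 1, 2, 1, 3, 1, 3, 1]) (.leaf 82 26 [1, 2, 1, 3, 1, 2, 1, 3, 1, 3, 1, 2, 1, 2, 1, 3, 1, 2, 1, 3, 1, 3, 1, 2, 1, 2, 1, 13, 12, 10, 8, 11, 9, 10, 9, 4, 7, 5, 5, 7, 7, 7, 5, 1, 3, 1, 2, 1, 3, 1, 3, 1, 2, 1, 3, 1, 2, 1, 3, 1, 2, 1, 2, 1, 3, 1, 2, 1, 3])) (.node 143 (.leaf 83 26 [1, 2, 1, 2, 1, 3, 1, 2, 1, 3, 1, 3, 1, 2, 1, 3, 1, 2, 1, 2, 1, 3, 1, 3, 1, 2, 1, 13, 12, 13, 8, 8, 10, 5, 7, 5, 6, 4, 1, 3, 1, 2, 1, 3, 1, 2, 1, 3, 1, 3, 1, 2, 1, 3, 1, 2, 1, 2, 1, 3, 1, 2, 1, 3]) (.leaf 84 26 [2, 1, 3, 1, 2, 1, 3, 1, 3, 1, 2, 1, 2, 1, 3, 1, 2, 1, 2, 1, 3, 1, 3, 1, 2, 1, 3, 12, 14, 14, 10, 9, 10, 8, 8, 10, 5, 5, 7, 4, 7, 4, 2, 1, 3, 1, 3, 1, 2, 1, 3, 1, 2, 1, 2, 1, 3, 1, 2, 1, 3, 1, 2, 1, 3, 1, 3, 1])))) (.node 148 (.node 146 (.node 145 (.leaf 85 26 [2, 1, 3, 1, 3, 1, 2, 1, 2, 1, 3, 1, 2, 1, 2, 1, 3, 1, 3, 1, 2, 1, 3, 1, 2, 1, 3, 14, 14, 10, 10, 9, 10, 9, 10, 9, 4, 7, 5, 6, 5, 7, 4, 2, 1, 3, 1, 3, 1, 2, 1, 3, 1, 2, 1, 2, 1, 3, 1, 2, 1, 3, 1, 3, 1, 2, 1, 3, 1]) (.leaf 86 27 [2, 1, 3, 1, 2, 1, 3, 1, 2, 1, 3, 1, 3, 1, 2, 1, 3, 1, 2, 1, 3, 1, 2, 1, 3, 1, 2, 12, 14, 9, 11, 8, 11, 8, 8, 4, 7, 4, 7, 4, 7, 7, 1, 2, 1, 3, 1, 3, 1, 2, 1, 2, 1, 3, 1, 2, 1, 3, 1, 2, 1, 2, 1, 3, 1, 3, 1, 2, 1])) (.node 147 (.leaf 87 27 [2, 1, 3, 1, 3, 1, 2, 1, 3, 1, 3, 1, 2, 1, 3, 1, 2, 1, 3, 1, 3, 1, 2, 1, 2, 1, 3, 1, 12, 11, 8, 11, 8, 11, 9, 5, 7, 4, 7, 4, 6, 5, 1, 2, 1, 3, 1, 2, 1, 3, 1, 2, 1, 3, 1, 2, 1, 3, 1, 3, 1, 2, 1, 3, 1, 2, 1, 3, 1]) (.leaf 88 27 [1, 2, 1, 3, 1, 2, 1, 2, 1, 3, 1, 2, 1, 3, 1, 2, 1, 3, 1, 2, 1, 3, 1, 2, 1, 3, 1, 2, 10, 9, 10, 9, 11, 8, 8, 11, 9, 4, 7, 4, 6, 6, 6, 5, 2, 1, 2, 1, 2, 1, 3, 1, 3, 1, 2, 1, 3, 1, 3, 1, 2, 1, 3, 1, 2, 1, 3, 1, 3, 1, 2]))) (.node 150 (.node 149 (.leaf 9 2 [1, 2, 1, 2, 1, 2, 1, 2, 1, 2, 1, 2, 1, 2]) (.leaf 10 2 [1, 3, 1, 3, 1, 3, 1, 3, 1, 3, 1, 3, 1, 3])) (.node 151 (.leaf 89 27 [2, 1, 3, 1, 2, 1, 2, 1, 3, 1, 3, 1, 2, 1, 2, 1, 3, 1, 2, 1, 3, 1, 3, 1, 2, 1, 2, 1, 13, 8, 11, 9, 10, 9, 10, 10, 8, 10, 5, 6, 5, 7, 5, 6, 4, 1, 3, 1, 2, 1, 3, 1, 2, 1, 3, 1, 3, 1, 2, 1, 3, 1, 3, 1, 2, 1, 2, 1, 3, 1, 3, 1]) (.node 152 (.leaf 5 2 [8, 10, 12, 11, 8]) (.leaf 90 27 [1, 3, 1, 2, 1, 3, 1, 2, 1, 3, 1, 3, 1, 2, 1, 3, 1, 2, 1, 3, 1, 2, 1, 3, 1, 2, 1, 3, 13, 9, 11, 9, 10, 4, 7, 5, 5, 7, 7, 7, 2, 1, 3, 1, 2, 1, 3, 1, 2, 1, 2, 1, 3, 1, 2, 1, 3, 1, 2, 1, 3, 1, 3, 1, 2, 1, 2])))))) (.node 161 (.node 157 (.node 155 (.node 154 (.leaf 5 1 [8, 8, 10, 12, 11]) (.leaf 3 3 [6, 9, 4, 6, 4])) (.node 156 (.leaf 91 27 [1, 3, 1, 2, 1, 2, 1, 3, 1, 3, 1, 2, 1, 3, 1, 2, 1, 3, 1, 3, 1, 2, 1, 3, 1, 2, 1, 3, 14, 9, 10, 10, 9, 10, 8, 10, 10, 6, 6, 4, 7, 5, 6, 4, 2, 1, 2, 1, 3, 1, 2, 1, 3, 1, 2, 1, 3, 1, 3, 1, 2, 1, 3, 1, 3, 1, 2, 1, 2, 1, 3]) (.leaf 92 28 [1, 3, 1, 2, 1, 3, 1, 2, 1, 3, 1, 3, 1, 2, 1, 3, 1, 2, 1, 3, 1, 2, 1, 2, 1, 3, 1, 2, 12, 14, 14, 9, 10, 10, 8, 8, 11, 4, 4, 4, 7, 7, 5, 6, 6, 1, 3, 1, 2, 1, 2, 1, 3, 1, 2, 1, 3, 1, 2, 1, 2, 1, 3, 1, 3, 1, 2, 1, 3, 1, 2, 1, 3]))) (.node 159 (.node 158 (.leaf 93 27 [1, 2, 1, 3, 1, 2, 1, 3, 1, 2, 1, 3, 1, 2, 1, 2, 1, 3, 1, 2, 1, 3, 1, 3, 1, 2, 1, 3, 1, 14, 9, 10, 8, 8, 10, 8, 10, 10, 4, 7, 7, 5, 7, 7, 4, 7, 2, 1, 3, 1, 2, 1, 3, 1, 3, 1, 2, 1, 2, 1, 3, 1, 2, 1, 3, 1, 2, 1, 2, 1, 3, 1, 3]) (.leaf 60 48 [13, 9, 11, 9, 10, 5, 7, 5, 6, 5, 5, 5, 6, 1, 2, 1, 3, 1, 2, 1, 3, 1, 3, 1, 2, 1, 3, 1, 2, 1, 3, 1, 3, 1, 2, 1, 3, 1, 2, 1, 3, 1, 3, 1, 2, 1, 2, 1, 3, 1, 2, 1, 3, 1, 2, 1, 2, 1, 3, 1, 3])) (.node 160 (.leaf 51 52 [11, 9, 4, 6, 6, 6, 5, 6, 6, 1, 3, 1, 2, 1, 3, 1, 2, 1, 3, 1, 3, 1, 2, 1, 2, 1, 3, 1, 2, 1, 3, 1, 2, 1, 3, 1, 2, 1, 2, 1, 3, 1, 2, 1, 3, 1, 2, 1, 2, 1, 3, 1, 3, 1, 3, 8, 8, 10, 9, 10, 9]) (.leaf 4 4 [4, 7, 5, 6, 4, 11, 4, 4, 4, 7])))) (.node 165 (.node 163 (.node 162 (.leaf 1 11 [3, 1, 2, 1, 3, 1, 2, 1, 2, 5, 1, 2, 1, 2, 1, 3, 1, 2, 1, 2, 1]) (.leaf 8 2 [3, 3, 3])) (.node 164 (.leaf 94 28 [1, 2, 1, 3, 1, 2, 1, 2, 1, 3, 1, 3, 1, 2, 1, 3, 1, 2, 1, 3, 1, 2, 1, 3, 1, 3, 1, 2, 1, 12, 13, 13, 9, 11, 8, 10, 10, 8, 8, 11, 5, 6, 5, 7, 1, 3, 1, 2, 1, 3, 1, 3, 1, 2, 1, 3, 1, 2, 1, 3, 1, 2, 1, 3, 1, 2, 1, 2, 1, 3, 1, 3]) (.leaf 3 2 [4, 6, 9, 4, 6]))) (.node 167 (.node 166 (.leaf 1 17 [2, 1, 2, 5, 1, 2, 1, 2, 1, 3, 1, 2, 1, 2, 1, 3, 1, 2, 1, 3, 1]) (.leaf 95 28 [1, 2, 1, 3, 1, 2, 1, 2, 1, 3, 1, 3, 1, 2, 1, 3, 1, 2, 1, 3, 1, 2, 1, 2, 1, 3, 1, 2, 1, 12, 13, 8, 11, 8, 10, 9, 10, 10, 9, 6, 6, 4, 6, 4, 6, 4, 1, 2, 1, 3, 1, 2, 1, 2, 1, 3, 1, 2, 1, 3, 1, 2, 1, 3, 1, 2, 1, 3, 1, 2, 1, 3, 1, 3])) (.node 168 (.leaf 12 9 [1, 3, 3, 1, 3, 3, 1, 3, 3, 1, 3, 3, 1, 3, 3, 1, 3, 3, 1, 3, 3]) (.node 169 (.leaf 90 61 [7, 5, 5, 7, 7, 7, 2, 1, 3, 1, 2, 1, 3, 1, 2, 1, 2, 1, 3, 1, 2, 1, 3, 1, 2, 1, 3, 1, 3, 1, 2, 1, 2, 1, 3, 1, 2, 1, 3, 1, 2, 1, 3, 1, 3, 1, 2, 1, 3, 1, 2, 1, 3, 1, 2, 1, 3, 1, 2, 1, 3, 13, 9, 11, 9, 10, 4]) (.leaf 61 51 [11, 8, 8, 6, 6, 6, 4, 6, 6, 5, 2, 1, 2, 1, 2, 1, 3, 1, 3, 1, 2, 1, 3, 1, 2, 1, 3, 1, 2, 1, 3, 1, 2, 1, 3, 1, 3, 1, 2, 1, 3, 1, 3, 1, 2, 1, 3, 1, 2, 1, 2, 1, 3, 1, 3, 1, 2, 1, 8, 10, 9]))))))) (.node 187 (.node 178 (.node 174 (.node 172 (.node 171 (.leaf 2 9 [2, 1, 2, 1, 3, 1, 2, 1, 3, 1, 2, 1, 3, 1, 3, 1, 2, 1, 3, 1, 2, 1, 2, 1, 7, 1, 3, 1, 2, 1, 2, 1, 3, 1]) (.leaf 1 15 [3, 1, 2, 1, 2, 5, 1, 2, 1, 2, 1, 3, 1, 2, 1, 2, 1, 3, 1, 2, 1])) (.node 173 (.leaf 3 0 [4, 6, 4, 6, 9]) (.leaf 4 3 [7, 4, 7, 5, 6, 4, 11, 4, 4, 4]))) (.node 176 (.node 175 (.leaf 2 20 [1, 3, 1, 3, 1, 2, 1, 3, 1, 2, 1, 2, 1, 7, 1, 3, 1, 2, 1, 2, 1, 3, 1, 2, 1, 2, 1, 3, 1, 2, 1, 3, 1, 2]) (.leaf 2 1 [3, 1, 2, 1, 2, 1, 3, 1, 2, 1, 2, 1, 3, 1, 2, 1, 3, 1, 2, 1, 3, 1, 3, 1, 2, 1, 3, 1, 2, 1, 2, 1, 7, 1])) (.node 177 (.leaf 76 54 [8, 8, 11, 8, 10, 5, 5, 6, 5, 6, 6, 4, 6, 3, 1, 2, 1, 3, 1, 3, 1, 2, 1, 3, 1, 2, 1, 3, 1, 3, 1, 2, 1, 3, 1, 2, 1, 3, 1, 2, 1, 2, 1, 3, 1, 2, 1, 3, 1, 2, 1, 2, 1, 3, 1, 2, 1, 3, 1, 3, 1, 2, 1, 2, 1, 10, 10]) (.leaf 61 48 [8, 10, 9, 11, 8, 8, 6, 6, 6, 4, 6, 6, 5, 2, 1, 2, 1, 2, 1, 3, 1, 3, 1, 2, 1, 3, 1, 2, 1, 3, 1, 2, 1, 3, 1, 2, 1, 3, 1, 3, 1, 2, 1, 3, 1, 3, 1, 2, 1, 3, 1, 2, 1, 2, 1, 3, 1, 3, 1, 2, 1])))) (.node 182 (.node 180 (.node 179 (.leaf 51 47 [8, 10, 9, 10, 9, 11, 9, 4, 6, 6, 6, 5, 6, 6, 1, 3, 1, 2, 1, 3, 1, 2, 1, 3, 1, 3, 1, 2, 1, 2, 1, 3, 1, 2, 1, 3, 1, 2, 1, 3, 1, 2, 1, 2, 1, 3, 1, 2, 1, 3, 1, 2, 1, 2, 1, 3, 1, 3, 1, 3, 8]) (.leaf 77 58 [10, 6, 4, 6, 5, 7, 5, 5, 6, 1, 2, 1, 3, 1, 2, 1, 3, 1, 2, 1, 2, 1, 3, 1, 2, 1, 3, 1, 3, 1, 2, 1, 2, 1, 3, 1, 2, 1, 3, 1, 3, 1, 2, 1, 3, 1, 2, 1, 3, 1, 3, 1, 2, 1, 3, 1, 2, 1, 2, 1, 3, 12, 8, 8, 10, 9, 10])) (.node 181 (.leaf 31 42 [12, 10, 10, 8, 11, 9, 10, 4, 4, 6, 5, 5, 1, 3, 1, 2, 1, 3, 1, 2, 1, 2, 1, 3, 1, 3, 1, 2, 1, 3, 1, 3, 1, 2, 1, 2, 1, 3, 1, 3, 1, 2, 1, 2, 1, 3, 1, 2, 1, 3, 1, 3, 1, 2]) (.leaf 4 2 [4, 7, 4, 7, 5, 6, 4, 11, 4, 4]))) (.node 184 (.node 183 (.leaf 3 1 [6, 4, 6, 9, 4]) (.leaf 5 3 [10, 12, 11, 8, 8])) (.node 185 (.leaf 61 56 [6, 4, 6, 6, 5, 2, 1, 2, 1, 2, 1, 3, 1, 3, 1, 2, 1, 3, 1, 2, 1, 3, 1, 2, 1, 3, 1, 2, 1, 3, 1, 3, 1, 2, 1, 3, 1, 3, 1, 2, 1, 3, 1, 2, 1, 2, 1, 3, 1, 3, 1, 2, 1, 8, 10, 9, 11, 8, 8, 6, 6]) (.node 186 (.leaf 1 18 [1, 2, 5, 1, 2, 1, 2, 1, 3, 1, 2, 1, 2, 1, 3, 1, 2, 1, 3, 1, 2]) (.leaf 1 1 [2, 1, 2, 1, 3, 1, 2, 1, 2, 1, 3, 1, 2, 1, 3, 1, 2, 1, 2, 5, 1])))))) (.node 195 (.node 191 (.node 189 (.node 188 (.leaf 2 28 [1, 2, 1, 2, 1, 7, 1, 3, 1, 2, 1, 2, 1, 3, 1, 2, 1, 2, 1, 3, 1, 2, 1, 3, 1, 2, 1, 3, 1, 3, 1, 2, 1, 3]) (.leaf 4 5 [7, 5, 6, 4, 11, 4, 4, 4, 7, 4])) (.node 190 (.leaf 90 66 [7, 2, 1, 3, 1, 2, 1, 3, 1, 2, 1, 2, 1, 3, 1, 2, 1, 3, 1, 2, 1, 3, 1, 3, 1, 2, 1, 2, 1, 3, 1, 2, 1, 3, 1, 2, 1, 3, 1, 3, 1, 2, 1, 3, 1, 2, 1, 3, 1, 2, 1, 3, 1, 2, 1, 3, 13, 9, 11, 9, 10, 4, 7, 5, 5, 7, 7]) (.leaf 61 49 [10, 9, 11, 8, 8, 6, 6, 6, 4, 6, 6, 5, 2, 1, 2, 1, 2, 1, 3, 1, 3, 1, 2, 1, 3, 1, 2, 1, 3, 1, 2, 1, 3, 1, 2, 1, 3, 1, 3, 1, 2, 1, 3, 1, 3, 1, 2, 1, 3, 1, 2, 1, 2, 1, 3, 1, 3, 1, 2, 1, 8]))) (.node 193 (.node 192 (.leaf 90 55 [13, 9, 11, 9, 10, 4, 7, 5, 5, 7, 7, 7, 2, 1, 3, 1, 2, 1, 3, 1, 2, 1, 2, 1, 3, 1, 2, 1, 3, 1, 2, 1, 3, 1, 3, 1, 2, 1, 2, 1, 3, 1, 2, 1, 3, 1, 2, 1, 3, 1, 3, 1, 2, 1, 3, 1, 2, 1, 3, 1, 2, 1, 3, 1, 2, 1, 3]) (.leaf 51 48 [10, 9, 10, 9, 11, 9, 4, 6, 6, 6, 5, 6, 6, 1, 3, 1, 2, 1, 3, 1, 2, 1, 3, 1, 3, 1, 2, 1, 2, 1, 3, 1, 2, 1, 3, 1, 2, 1, 3, 1, 2, 1, 2, 1, 3, 1, 2, 1, 3, 1, 2, 1, 2, 1, 3, 1, 3, 1, 3, 8, 8])) (.node 194 (.leaf 2 2 [1, 2, 1, 2, 1, 3, 1, 2, 1, 2, 1, 3, 1, 2, 1, 3, 1, 2, 1, 3, 1, 3, 1, 2, 1, 3, 1, 2, 1, 2, 1, 7, 1, 3]) (.leaf 2 27 [3, 1, 2, 1, 2, 1, 7, 1, 3, 1, 2, 1, 2, 1, 3, 1, 2, 1, 2, 1, 3, 1, 2, 1, 3, 1, 2, 1, 3, 1, 3, 1, 2, 1])))) (.node 199 (.node 197 (.node 196 (.leaf 51 50 [10, 9, 11, 9, 4, 6, 6, 6, 5, 6, 6, 1, 3, 1, 2, 1, 3, 1, 2, 1, 3, 1, 3, 1, 2, 1, 2, 1, 3, 1, 2, 1, 3, 1, 2, 1, 3, 1, 2, 1, 2, 1, 3, 1, 2, 1, 3, 1, 2, 1, 2, 1, 3, 1, 3, 1, 3, 8, 8, 10, 9]) (.leaf 61 60 [5, 2, 1, 2, 1, 2, 1, 3, 1, 3, 1, 2, 1, 3, 1, 2, 1, 3, 1, 2, 1, 3, 1, 2, 1, 3, 1, 3, 1, 2, 1, 3, 1, 3, 1, 2, 1, 3, 1, 2, 1, 2, 1, 3, 1, 3, 1, 2, 1, 8, 10, 9, 11, 8, 8, 6, 6, 6, 4, 6, 6])) (.node 198 (.leaf 25 47 [10, 6, 6, 6, 5, 6, 4, 3, 1, 2, 1, 3, 1, 2, 1, 2, 1, 3, 1, 3, 1, 2, 1, 3, 1, 2, 1, 2, 1, 3, 1, 2, 1, 2, 1, 3, 1, 2, 1, 3, 1, 3, 1, 2, 1, 2, 1, 2, 11, 8, 10, 10, 8, 10]) (.leaf 76 56 [11, 8, 10, 5, 5, 6, 5, 6, 6, 4, 6, 3, 1, 2, 1, 3, 1, 3, 1, 2, 1, 3, 1, 2, 1, 3, 1, 3, 1, 2, 1, 3, 1, 2, 1, 3, 1, 2, 1, 2, 1, 3, 1, 2, 1, 3, 1, 2, 1, 2, 1, 3, 1, 2, 1, 3, 1, 3, 1, 2, 1, 2, 1, 10, 10, 8, 8]))) (.node 201 (.node 200 (.leaf 88 55 [10, 9, 10, 9, 11, 8, 8, 11, 9, 4, 7, 4, 6, 6, 6, 5, 2, 1, 2, 1, 2, 1, 3, 1, 3, 1, 2, 1, 3, 1, 3, 1, 2, 1, 3, 1, 2, 1, 3, 1, 3, 1, 2, 1, 2, 1, 3, 1, 2, 1, 2, 1, 3, 1, 2, 1, 3, 1, 2, 1, 3, 1, 2, 1, 3, 1, 2, 1, 3, 1, 2]) (.leaf 61 57 [4, 6, 6, 5, 2, 1, 2, 1, 2, 1, 3, 1, 3, 1, 2, 1, 3, 1, 2, 1, 3, 1, 2, 1, 3, 1, 2, 1, 3, 1, 3, 1, 2, 1, 3, 1, 3, 1, 2, 1, 3, 1, 2, 1, 2, 1, 3, 1, 3, 1, 2, 1, 8, 10, 9, 11, 8, 8, 6, 6, 6])) (.node 202 (.leaf 61 52 [8, 8, 6, 6, 6, 4, 6, 6, 5, 2, 1, 2, 1, 2, 1, 3, 1, 3, 1, 2, 1, 3, 1, 2, 1, 3, 1, 2, 1, 3, 1, 2, 1, 3, 1, 3, 1, 2, 1, 3, 1, 3, 1, 2, 1, 3, 1, 2, 1, 2, 1, 3, 1, 3, 1, 2, 1, 8, 10, 9, 11]) (.node 203 (.leaf 61 58 [6, 6, 5, 2, 1, 2, 1, 2, 1, 3, 1, 3, 1, 2, 1, 3, 1, 2, 1, 3, 1, 2, 1, 3, 1, 2, 1, 3, 1, 3, 1, 2, 1, 3, 1, 3, 1, 2, 1, 3, 1, 2, 1, 2, 1, 3, 1, 3, 1, 2, 1, 8, 10, 9, 11, 8, 8, 6, 6, 6, 4]) (.leaf 60 55 [5, 6, 5, 5, 5, 6, 1, 2, 1, 3, 1, 2, 1, 3, 1, 3, 1, 2, 1, 3, 1, 2, 1, 3, 1, 3, 1, 2, 1, 3, 1, 2, 1, 3, 1, 3, 1, 2, 1, 2, 1, 3, 1, 2, 1, 3, 1, 2, 1, 2, 1, 3, 1, 3, 13, 9, 11, 9, 10, 5, 7])))))))) (.node 238 (.node 221 (.node 212 (.node 208 (.node 206 (.node 205 (.leaf 59 48 [13, 8, 10, 10, 9, 11, 5, 7, 5, 6, 5, 5, 2, 1, 2, 1, 3, 1, 2, 1, 2, 1, 3, 1, 2, 1, 3, 1, 2, 1, 3, 1, 2, 1, 3, 1, 2, 1, 2, 1, 3, 1, 3, 1, 2, 1, 2, 1, 3, 1, 3, 1, 2, 1, 2, 1, 3, 1, 2, 1]) (.leaf 76 52 [10, 10, 8, 8, 11, 8, 10, 5, 5, 6, 5, 6, 6, 4, 6, 3, 1, 2, 1, 3, 1, 3, 1, 2, 1, 3, 1, 2, 1, 3, 1, 3, 1, 2, 1, 3, 1, 2, 1, 3, 1, 2, 1, 2, 1, 3, 1, 2, 1, 3, 1, 2, 1, 2, 1, 3, 1, 2, 1, 3, 1, 3, 1, 2, 1, 2, 1])) (.node 207 (.leaf 87 60 [11, 9, 5, 7, 4, 7, 4, 6, 5, 1, 2, 1, 3, 1, 2, 1, 3, 1, 2, 1, 3, 1, 2, 1, 3, 1, 3, 1, 2, 1, 3, 1, 2, 1, 3, 1, 2, 1, 3, 1, 3, 1, 2, 1, 3, 1, 3, 1, 2, 1, 3, 1, 2, 1, 3, 1, 3, 1, 2, 1, 2, 1, 3, 1, 12, 11, 8, 11, 8]) (.leaf 76 58 [10, 5, 5, 6, 5, 6, 6, 4, 6, 3, 1, 2, 1, 3, 1, 3, 1, 2, 1, 3, 1, 2, 1, 3, 1, 3, 1, 2, 1, 3, 1, 2, 1, 3, 1, 2, 1, 2, 1, 3, 1, 2, 1, 3, 1, 2, 1, 2, 1, 3, 1, 2, 1, 3, 1, 3, 1, 2, 1, 2, 1, 10, 10, 8, 8, 11, 8]))) (.node 210 (.node 209 (.leaf 4 7 [6, 4, 11, 4, 4, 4, 7, 4, 7, 5]) (.leaf 86 54 [12, 14, 9, 11, 8, 11, 8, 8, 4, 7, 4, 7, 4, 7, 7, 1, 2, 1, 3, 1, 3, 1, 2, 1, 2, 1, 3, 1, 2, 1, 3, 1, 2, 1, 2, 1, 3, 1, 3, 1, 2, 1, 2, 1, 3, 1, 2, 1, 3, 1, 2, 1, 3, 1, 3, 1, 2, 1, 3, 1, 2, 1, 3, 1, 2, 1, 3, 1, 2])) (.node 211 (.leaf 2 15 [2, 1, 3, 1, 2, 1, 3, 1, 3, 1, 2, 1, 3, 1, 2, 1, 2, 1, 7, 1, 3, 1, 2, 1, 2, 1, 3, 1, 2, 1, 2, 1, 3, 1]) (.leaf 47 45 [12, 14, 8, 10, 9, 11, 8, 11, 9, 5, 6, 5, 6, 4, 7, 1, 3, 1, 2, 1, 3, 1, 2, 1, 2, 1, 3, 1, 2, 1, 3, 1, 3, 1, 2, 1, 3, 1, 2, 1, 2, 1, 3, 1, 2, 1, 3, 1, 2, 1, 3, 1, 3, 1, 2, 1, 2, 1, 3, 1])))) (.node 216 (.node 214 (.node 213 (.leaf 82 53 [13, 12, 10, 8, 11, 9, 10, 9, 4, 7, 5, 5, 7, 7, 7, 5, 1, 3, 1, 2, 1, 3, 1, 3, 1, 2, 1, 3, 1, 2, 1, 3, 1, 2, 1, 2, 1, 3, 1, 2, 1, 3, 1, 2, 1, 3, 1, 2, 1, 3, 1, 3, 1, 2, 1, 2, 1, 3, 1, 2, 1, 3, 1, 3, 1, 2, 1, 2, 1]) (.leaf 4 8 [4, 11, 4, 4, 4, 7, 4, 7, 5, 6])) (.node 215 (.leaf 78 52 [13, 8, 10, 10, 9, 11, 5, 7, 5, 6, 5, 5, 2, 1, 3, 1, 2, 1, 2, 1, 3, 1, 3, 1, 2, 1, 3, 1, 2, 1, 3, 1, 2, 1, 3, 1, 2, 1, 3, 1, 2, 1, 3, 1, 3, 1, 2, 1, 3, 1, 2, 1, 3, 1, 3, 1, 2, 1, 2, 1, 3, 1, 2, 1]) (.leaf 88 61 [8, 11, 9, 4, 7, 4, 6, 6, 6, 5, 2, 1, 2, 1, 2, 1, 3, 1, 3, 1, 2, 1, 3, 1, 3, 1, 2, 1, 3, 1, 2, 1, 3, 1, 3, 1, 2, 1, 2, 1, 3, 1, 2, 1, 2, 1, 3, 1, 2, 1, 3, 1, 2, 1, 3, 1, 2, 1, 3, 1, 2, 1, 3, 1, 2, 10, 9, 10, 9, 11, 8]))) (.node 218 (.node 217 (.leaf 61 59 [6, 5, 2, 1, 2, 1, 2, 1, 3, 1, 3, 1, 2, 1, 3, 1, 2, 1, 3, 1, 2, 1, 3, 1, 2, 1, 3, 1, 3, 1, 2, 1, 3, 1, 3, 1, 2, 1, 3, 1, 2, 1, 2, 1, 3, 1, 3, 1, 2, 1, 8, 10, 9, 11, 8, 8, 6, 6, 6, 4, 6]) (.leaf 77 52 [12, 8, 8, 10, 9, 10, 10, 6, 4, 6, 5, 7, 5, 5, 6, 1, 2, 1, 3, 1, 2, 1, 3, 1, 2, 1, 2, 1, 3, 1, 2, 1, 3, 1, 3, 1, 2, 1, 2, 1, 3, 1, 2, 1, 3, 1, 3, 1, 2, 1, 3, 1, 2, 1, 3, 1, 3, 1, 2, 1, 3, 1, 2, 1, 2, 1, 3])) (.node 219 (.leaf 53 47 [14, 9, 10, 6, 4, 7, 7, 7, 7, 1, 3, 1, 2, 1, 2, 1, 3, 1, 2, 1, 3, 1, 3, 1, 2, 1, 3, 1, 2, 1, 3, 1, 2, 1, 3, 1, 3, 1, 2, 1, 3, 1, 2, 1, 3, 1, 2, 1, 3, 1, 2, 1, 3, 1, 2, 12]) (.node 220 (.leaf 39 56 [7, 4, 1, 2, 1, 3, 1, 2, 1, 3, 1, 3, 1, 2, 1, 2, 1, 3, 1, 3, 1, 2, 1, 2, 1, 3, 1, 2, 1, 3, 1, 3, 1, 2, 1, 3, 1, 2, 1, 3, 1, 3, 1, 2, 1, 3, 13, 11, 8, 11, 8, 10, 9, 10, 5, 7, 7, 4]) (.leaf 61 53 [8, 6, 6, 6, 4, 6, 6, 5, 2, 1, 2, 1, 2, 1, 3, 1, 3, 1, 2, 1, 3, 1, 2, 1, 3, 1, 2, 1, 3, 1, 2, 1, 3, 1, 3, 1, 2, 1, 3, 1, 3, 1, 2, 1, 3, 1, 2, 1, 2, 1, 3, 1, 3, 1, 2, 1, 8, 10, 9, 11, 8])))))) (.node 229 (.node 225 (.node 223 (.node 222 (.leaf 25 42 [8, 10, 10, 8, 10, 10, 6, 6, 6, 5, 6, 4, 3, 1, 2, 1, 3, 1, 2, 1, 2, 1, 3, 1, 3, 1, 2, 1, 3, 1, 2, 1, 2, 1, 3, 1, 2, 1, 2, 1, 3, 1, 2, 1, 3, 1, 3, 1, 2, 1, 2, 1, 2, 11]) (.leaf 38 44 [12, 13, 12, 9, 10, 8, 7, 7, 5, 5, 5, 5, 5, 1, 3, 1, 2, 1, 3, 1, 2, 1, 3, 1, 2, 1, 3, 1, 3, 1, 2, 1, 3, 1, 2, 1, 2, 1, 3, 1, 2, 1, 3, 1, 3, 1, 2, 1, 3, 1, 2, 1, 3, 1, 2, 1, 3])) (.node 224 (.leaf 25 44 [10, 8, 10, 10, 6, 6, 6, 5, 6, 4, 3, 1, 2, 1, 3, 1, 2, 1, 2, 1, 3, 1, 3, 1, 2, 1, 3, 1, 2, 1, 2, 1, 3, 1, 2, 1, 2, 1, 3, 1, 2, 1, 3, 1, 3, 1, 2, 1, 2, 1, 2, 11, 8, 10]) (.leaf 1 9 [2, 1, 3, 1, 2, 1, 3, 1, 2, 1, 2, 5, 1, 2, 1, 2, 1, 3, 1, 2, 1]))) (.node 227 (.node 226 (.leaf 90 64 [7, 7, 7, 2, 1, 3, 1, 2, 1, 3, 1, 2, 1, 2, 1, 3, 1, 2, 1, 3, 1, 2, 1, 3, 1, 3, 1, 2, 1, 2, 1, 3, 1, 2, 1, 3, 1, 2, 1, 3, 1, 3, 1, 2, 1, 3, 1, 2, 1, 3, 1, 2, 1, 3, 1, 2, 1, 3, 13, 9, 11, 9, 10, 4, 7, 5, 5]) (.leaf 34 43 [12, 10, 10, 8, 11, 8, 11, 8, 5, 7, 5, 6, 5, 5, 5, 6, 1, 3, 1, 2, 1, 3, 1, 2, 1, 3, 1, 2, 1, 3, 1, 2, 1, 3, 1, 3, 1, 2, 1, 2, 1, 3, 1, 3, 1, 2, 1, 2, 1, 3, 1, 2, 1, 3, 1, 2, 1, 2, 1])) (.node 228 (.leaf 68 59 [10, 5, 5, 6, 6, 5, 7, 7, 7, 1, 3, 1, 3, 1, 2, 1, 3, 1, 2, 1, 3, 1, 2, 1, 3, 1, 2, 1, 3, 1, 2, 1, 3, 1, 2, 1, 3, 1, 3, 1, 2, 1, 2, 1, 3, 1, 2, 1, 2, 1, 3, 1, 3, 1, 2, 1, 2, 1, 3, 12, 8, 10, 9, 11, 8, 11, 8, 10]) (.leaf 59 57 [6, 5, 5, 2, 1, 2, 1, 3, 1, 2, 1, 2, 1, 3, 1, 2, 1, 3, 1, 2, 1, 3, 1, 2, 1, 3, 1, 2, 1, 2, 1, 3, 1, 3, 1, 2, 1, 2, 1, 3, 1, 3, 1, 2, 1, 2, 1, 3, 1, 2, 1, 13, 8, 10, 10, 9, 11, 5, 7, 5])))) (.node 233 (.node 231 (.node 230 (.leaf 52 46 [14, 11, 8, 11, 8, 10, 9, 11, 6, 4, 6, 5, 7, 7, 2, 1, 2, 1, 3, 1, 3, 1, 2, 1, 3, 1, 3, 1, 2, 1, 2, 1, 3, 1, 3, 1, 2, 1, 3, 1, 2, 1, 3, 1, 3, 1, 2, 1, 3, 1, 2, 1, 3, 1, 3, 1, 2, 1, 2, 1]) (.leaf 87 61 [9, 5, 7, 4, 7, 4, 6, 5, 1, 2, 1, 3, 1, 2, 1, 3, 1, 2, 1, 3, 1, 2, 1, 3, 1, 3, 1, 2, 1, 3, 1, 2, 1, 3, 1, 2, 1, 3, 1, 3, 1, 2, 1, 3, 1, 3, 1, 2, 1, 3, 1, 2, 1, 3, 1, 3, 1, 2, 1, 2, 1, 3, 1, 12, 11, 8, 11, 8, 11])) (.node 232 (.leaf 53 46 [12, 14, 9, 10, 6, 4, 7, 7, 7, 7, 1, 3, 1, 2, 1, 2, 1, 3, 1, 2, 1, 3, 1, 3, 1, 2, 1, 3, 1, 2, 1, 3, 1, 2, 1, 3, 1, 3, 1, 2, 1, 3, 1, 2, 1, 3, 1, 2, 1, 3, 1, 2, 1, 3, 1, 2]) (.leaf 4 6 [5, 6, 4, 11, 4, 4, 4, 7, 4, 7]))) (.node 235 (.node 234 (.leaf 1 19 [2, 5, 1, 2, 1, 2, 1, 3, 1, 2, 1, 2, 1, 3, 1, 2, 1, 3, 1, 2, 1]) (.leaf 49 49 [11, 8, 11, 5, 5, 7, 7, 7, 5, 7, 1, 3, 1, 2, 1, 3, 1, 2, 1, 3, 1, 2, 1, 2, 1, 3, 1, 3, 1, 2, 1, 2, 1, 3, 1, 2, 1, 2, 1, 3, 1, 2, 1, 3, 1, 2, 1, 2, 1, 3, 1, 3, 1, 2, 1, 12, 14, 10, 8])) (.node 236 (.leaf 76 64 [6, 4, 6, 3, 1, 2, 1, 3, 1, 3, 1, 2, 1, 3, 1, 2, 1, 3, 1, 3, 1, 2, 1, 3, 1, 2, 1, 3, 1, 2, 1, 2, 1, 3, 1, 2, 1, 3, 1, 2, 1, 2, 1, 3, 1, 2, 1, 3, 1, 3, 1, 2, 1, 2, 1, 10, 10, 8, 8, 11, 8, 10, 5, 5, 6, 5, 6]) (.node 237 (.leaf 32 42 [13, 12, 8, 11, 9, 10, 9, 11, 8, 6, 4, 6, 5, 6, 5, 1, 3, 1, 2, 1, 3, 1, 3, 1, 2, 1, 3, 1, 3, 1, 2, 1, 2, 1, 3, 1, 2, 1, 3, 1, 2, 1, 3, 1, 2, 1, 2, 1, 3, 1, 3, 1, 2, 1, 3, 1, 3]) (.leaf 54 54 [10, 5, 7, 5, 5, 6, 4, 7, 5, 2, 1, 2, 1, 2, 1, 3, 1, 2, 1, 3, 1, 2, 1, 3, 1, 2, 1, 2, 1, 3, 1, 2, 1, 3, 1, 3, 1, 2, 1, 2, 1, 3, 1, 2, 1, 2, 1, 3, 1, 3, 1, 2, 1, 3, 1, 13, 12, 8, 8, 11, 9, 10, 8]))))))) (.node 255 (.node 246 (.node 242 (.node 240 (.node 239 (.leaf 87 55 [12, 11, 8, 11, 8, 11, 9, 5, 7, 4, 7, 4, 6, 5, 1, 2, 1, 3, 1, 2, 1, 3, 1, 2, 1, 3, 1, 2, 1, 3, 1, 3, 1, 2, 1, 3, 1, 2, 1, 3, 1, 2, 1, 3, 1, 3, 1, 2, 1, 3, 1, 3, 1, 2, 1, 3, 1, 2, 1, 3, 1, 3, 1, 2, 1, 2, 1, 3, 1]) (.leaf 70 51 [14, 9, 10, 10, 8, 10, 9, 10, 9, 5, 6, 5, 7, 5, 5, 7, 5, 2, 1, 2, 1, 2, 1, 3, 1, 2, 1, 3, 1, 3, 1, 2, 1, 2, 1, 3, 1, 2, 1, 3, 1, 2, 1, 3, 1, 2, 1, 2, 1, 3, 1, 3, 1, 2, 1, 3, 1, 2, 1, 3, 1, 3, 1, 2, 1, 3, 1, 3])) (.node 241 (.leaf 4 0 [4, 4, 4, 7, 4, 7, 5, 6, 4, 11]) (.leaf 53 50 [6, 4, 7, 7, 7, 7, 1, 3, 1, 2, 1, 2, 1, 3, 1, 2, 1, 3, 1, 3, 1, 2, 1, 3, 1, 2, 1, 3, 1, 2, 1, 3, 1, 3, 1, 2, 1, 3, 1, 2, 1, 3, 1, 2, 1, 3, 1, 2, 1, 3, 1, 2, 12, 14, 9, 10]))) (.node 244 (.node 243 (.leaf 29 42 [12, 14, 11, 8, 11, 8, 10, 9, 4, 4, 7, 5, 6, 5, 7, 2, 1, 2, 1, 2, 1, 3, 1, 3, 1, 2, 1, 3, 1, 2, 1, 2, 1, 3, 1, 2, 1, 3, 1, 2, 1, 3, 1, 2, 1, 3, 1, 2, 1, 3, 1, 3, 1, 2, 1, 2, 1]) (.leaf 91 62 [10, 10, 6, 6, 4, 7, 5, 6, 4, 2, 1, 2, 1, 3, 1, 2, 1, 3, 1, 2, 1, 3, 1, 3, 1, 2, 1, 3, 1, 3, 1, 2, 1, 2, 1, 3, 1, 3, 1, 2, 1, 2, 1, 3, 1, 3, 1, 2, 1, 3, 1, 2, 1, 3, 1, 3, 1, 2, 1, 3, 1, 2, 1, 3, 14, 9, 10, 10, 9, 10, 8])) (.node 245 (.leaf 90 65 [7, 7, 2, 1, 3, 1, 2, 1, 3, 1, 2, 1, 2, 1, 3, 1, 2, 1, 3, 1, 2, 1, 3, 1, 3, 1, 2, 1, 2, 1, 3, 1, 2, 1, 3, 1, 2, 1, 3, 1, 3, 1, 2, 1, 3, 1, 2, 1, 3, 1, 2, 1, 3, 1, 2, 1, 3, 13, 9, 11, 9, 10, 4, 7, 5, 5, 7]) (.leaf 25 43 [10, 10, 8, 10, 10, 6, 6, 6, 5, 6, 4, 3, 1, 2, 1, 3, 1, 2, 1, 2, 1, 3, 1, 3, 1, 2, 1, 3, 1, 2, 1, 2, 1, 3, 1, 2, 1, 2, 1, 3, 1, 2, 1, 3, 1, 3, 1, 2, 1, 2, 1, 2, 11, 8])))) (.node 250 (.node 248 (.node 247 (.leaf 39 44 [13, 11, 8, 11, 8, 10, 9, 10, 5, 7, 7, 4, 7, 4, 1, 2, 1, 3, 1, 2, 1, 3, 1, 3, 1, 2, 1, 2, 1, 3, 1, 3, 1, 2, 1, 2, 1, 3, 1, 2, 1, 3, 1, 3, 1, 2, 1, 3, 1, 2, 1, 3, 1, 3, 1, 2, 1, 3]) (.leaf 51 60 [6, 1, 3, 1, 2, 1, 3, 1, 2, 1, 3, 1, 3, 1, 2, 1, 2, 1, 3, 1, 2, 1, 3, 1, 2, 1, 3, 1, 2, 1, 2, 1, 3, 1, 2, 1, 3, 1, 2, 1, 2, 1, 3, 1, 3, 1, 3, 8, 8, 10, 9, 10, 9, 11, 9, 4, 6, 6, 6, 5, 6])) (.node 249 (.leaf 2 10 [1, 2, 1, 3, 1, 2, 1, 3, 1, 2, 1, 3, 1, 3, 1, 2, 1, 3, 1, 2, 1, 2, 1, 7, 1, 3, 1, 2, 1, 2, 1, 3, 1, 2]) (.leaf 63 50 [14, 8, 11, 8, 10, 8, 4, 7, 7, 5, 7, 7, 2, 1, 2, 1, 2, 1, 3, 1, 3, 1, 2, 1, 2, 1, 3, 1, 2, 1, 3, 1, 3, 1, 2, 1, 2, 1, 3, 1, 2, 1, 2, 1, 3, 1, 2, 1, 3, 1, 3, 1, 2, 1, 2, 1, 3, 1, 3, 1, 3, 14]))) (.node 252 (.node 251 (.leaf 61 50 [9, 11, 8, 8, 6, 6, 6, 4, 6, 6, 5, 2, 1, 2, 1, 2, 1, 3, 1, 3, 1, 2, 1, 3, 1, 2, 1, 3, 1, 2, 1, 3, 1, 2, 1, 3, 1, 3, 1, 2, 1, 3, 1, 3, 1, 2, 1, 3, 1, 2, 1, 2, 1, 3, 1, 3, 1, 2, 1, 8, 10]) (.leaf 47 52 [11, 9, 5, 6, 5, 6, 4, 7, 1, 3, 1, 2, 1, 3, 1, 2, 1, 2, 1, 3, 1, 2, 1, 3, 1, 3, 1, 2, 1, 3, 1, 2, 1, 2, 1, 3, 1, 2, 1, 3, 1, 2, 1, 3, 1, 3, 1, 2, 1, 2, 1, 3, 1, 12, 14, 8, 10, 9, 11, 8])) (.node 253 (.leaf 25 51 [5, 6, 4, 3, 1, 2, 1, 3, 1, 2, 1, 2, 1, 3, 1, 3, 1, 2, 1, 3, 1, 2, 1, 2, 1, 3, 1, 2, 1, 2, 1, 3, 1, 2, 1, 3, 1, 3, 1, 2, 1, 2, 1, 2, 11, 8, 10, 10, 8, 10, 10, 6, 6, 6]) (.node 254 (.leaf 46 51 [11, 8, 6, 6, 5, 5, 7, 7, 5, 2, 1, 2, 1, 3, 1, 3, 1, 2, 1, 3, 1, 2, 1, 2, 1, 3, 1, 2, 1, 3, 1, 2, 1, 3, 1, 2, 1, 3, 1, 3, 1, 2, 1, 2, 1, 3, 1, 3, 1, 2, 1, 3, 1, 3, 13, 13, 8, 10, 10, 8]) (.leaf 45 44 [12, 14, 8, 11, 8, 8, 11, 9, 11, 8, 5, 5, 7, 5, 6, 5, 6, 3, 1, 2, 1, 3, 1, 3, 1, 2, 1, 3, 1, 2, 1, 3, 1, 2, 1, 3, 1, 2, 1, 3, 1, 3, 1, 2, 1, 2, 1, 3, 1, 2, 1, 3, 1, 2, 1, 3, 1, 2, 1, 2, 1])))))) (.node 264 (.node 259 (.node 257 (.node 256 (.leaf 59 19 [1, 2, 1, 3, 1, 2, 1, 2, 1, 3, 1, 3, 1, 2, 1, 2, 1, 3, 1, 3, 1, 2, 1, 2, 1, 3, 1, 2, 1, 13, 8, 10, 10, 9, 11, 5, 7, 5, 6, 5, 5, 2, 1, 2, 1, 3, 1, 2, 1, 2, 1, 3, 1, 2, 1, 3, 1, 2, 1, 3]) (.leaf 72 59 [8, 5, 7, 7, 7, 7, 5, 7, 2, 1, 2, 1, 2, 1, 3, 1, 2, 1, 3, 1, 3, 1, 2, 1, 3, 1, 2, 1, 2, 1, 3, 1, 2, 1, 3, 1, 3, 1, 2, 1, 3, 1, 2, 1, 3, 1, 2, 1, 2, 1, 3, 1, 3, 1, 2, 1, 2, 1, 3, 13, 12, 10, 10, 8, 11, 9, 10])) (.node 258 (.leaf 53 49 [10, 6, 4, 7, 7, 7, 7, 1, 3, 1, 2, 1, 2, 1, 3, 1, 2, 1, 3, 1, 3, 1, 2, 1, 3, 1, 2, 1, 3, 1, 2, 1, 3, 1, 3, 1, 2, 1, 3, 1, 2, 1, 3, 1, 2, 1, 3, 1, 2, 1, 3, 1, 2, 12, 14, 9]) (.leaf 21 47 [10, 9, 7, 7, 7, 5, 6, 6, 5, 2, 1, 3, 1, 2, 1, 2, 1, 3, 1, 2, 1, 3, 1, 2, 1, 3, 1, 2, 1, 3, 1, 3, 1, 2, 1, 2, 1, 3, 1, 2, 1, 2, 1, 3, 1, 3, 1, 12, 13, 12, 10, 8, 11, 9, 10, 9]))) (.node 261 (.node 260 (.leaf 51 46 [8, 8, 10, 9, 10, 9, 11, 9, 4, 6, 6, 6, 5, 6, 6, 1, 3, 1, 2, 1, 3, 1, 2, 1, 3, 1, 3, 1, 2, 1, 2, 1, 3, 1, 2, 1, 3, 1, 2, 1, 3, 1, 2, 1, 2, 1, 3, 1, 2, 1, 3, 1, 2, 1, 2, 1, 3, 1, 3, 1, 3]) (.leaf 86 55 [14, 9, 11, 8, 11, 8, 8, 4, 7, 4, 7, 4, 7, 7, 1, 2, 1, 3, 1, 3, 1, 2, 1, 2, 1, 3, 1, 2, 1, 3, 1, 2, 1, 2, 1, 3, 1, 3, 1, 2, 1, 2, 1, 3, 1, 2, 1, 3, 1, 2, 1, 3, 1, 3, 1, 2, 1, 3, 1, 2, 1, 3, 1, 2, 1, 3, 1, 2, 12])) (.node 262 (.leaf 1 13 [2, 1, 3, 1, 2, 1, 2, 5, 1, 2, 1, 2, 1, 3, 1, 2, 1, 2, 1, 3, 1]) (.node 263 (.leaf 59 18 [3, 1, 2, 1, 3, 1, 2, 1, 2, 1, 3, 1, 3, 1, 2, 1, 2, 1, 3, 1, 3, 1, 2, 1, 2, 1, 3, 1, 2, 1, 13, 8, 10, 10, 9, 11, 5, 7, 5, 6, 5, 5, 2, 1, 2, 1, 3, 1, 2, 1, 2, 1, 3, 1, 2, 1, 3, 1, 2, 1]) (.leaf 2 14 [1, 2, 1, 3, 1, 2, 1, 3, 1, 3, 1, 2, 1, 3, 1, 2, 1, 2, 1, 7, 1, 3, 1, 2, 1, 2, 1, 3, 1, 2, 1, 2, 1, 3]))))) (.node 268 (.node 266 (.node 265 (.leaf 31 43 [10, 10, 8, 11, 9, 10, 4, 4, 6, 5, 5, 1, 3, 1, 2, 1, 3, 1, 2, 1, 2, 1, 3, 1, 3, 1, 2, 1, 3, 1, 3, 1, 2, 1, 2, 1, 3, 1, 3, 1, 2, 1, 2, 1, 3, 1, 2, 1, 3, 1, 3, 1, 2, 12]) (.leaf 72 51 [13, 12, 10, 10, 8, 11, 9, 10, 8, 5, 7, 7, 7, 7, 5, 7, 2, 1, 2, 1, 2, 1, 3, 1, 2, 1, 3, 1, 3, 1, 2, 1, 3, 1, 2, 1, 2, 1, 3, 1, 2, 1, 3, 1, 3, 1, 2, 1, 3, 1, 2, 1, 3, 1, 2, 1, 2, 1, 3, 1, 3, 1, 2, 1, 2, 1, 3])) (.node 267 (.leaf 60 51 [9, 10, 5, 7, 5, 6, 5, 5, 5, 6, 1, 2, 1, 3, 1, 2, 1, 3, 1, 3, 1, 2, 1, 3, 1, 2, 1, 3, 1, 3, 1, 2, 1, 3, 1, 2, 1, 3, 1, 3, 1, 2, 1, 2, 1, 3, 1, 2, 1, 3, 1, 2, 1, 2, 1, 3, 1, 3, 13, 9, 11]) (.leaf 88 57 [10, 9, 11, 8, 8, 11, 9, 4, 7, 4, 6, 6, 6, 5, 2, 1, 2, 1, 2, 1, 3, 1, 3, 1, 2, 1, 3, 1, 3, 1, 2, 1, 3, 1, 2, 1, 3, 1, 3, 1, 2, 1, 2, 1, 3, 1, 2, 1, 2, 1, 3, 1, 2, 1, 3, 1, 2, 1, 3, 1, 2, 1, 3, 1, 2, 1, 3, 1, 2, 10, 9]))) (.node 270 (.node 269 (.leaf 2 12 [1, 3, 1, 2, 1, 3, 1, 2, 1, 3, 1, 3, 1, 2, 1, 3, 1, 2, 1, 2, 1, 7, 1, 3, 1, 2, 1, 2, 1, 3, 1, 2, 1, 2]) (.leaf 60 60 [6, 1, 2, 1, 3, 1, 2, 1, 3, 1, 3, 1, 2, 1, 3, 1, 2, 1, 3, 1, 3, 1, 2, 1, 3, 1, 2, 1, 3, 1, 3, 1, 2, 1, 2, 1, 3, 1, 2, 1, 3, 1, 2, 1, 2, 1, 3, 1, 3, 13, 9, 11, 9, 10, 5, 7, 5, 6, 5, 5, 5])) (.node 271 (.leaf 76 53 [10, 8, 8, 11, 8, 10, 5, 5, 6, 5, 6, 6, 4, 6, 3, 1, 2, 1, 3, 1, 3, 1, 2, 1, 3, 1, 2, 1, 3, 1, 3, 1, 2, 1, 3, 1, 2, 1, 3, 1, 2, 1, 2, 1, 3, 1, 2, 1, 3, 1, 2, 1, 2, 1, 3, 1, 2, 1, 3, 1, 3, 1, 2, 1, 2, 1, 10]) (.node 272 (.leaf 76 62 [5, 6, 6, 4, 6, 3, 1, 2, 1, 3, 1, 3, 1, 2, 1, 3, 1, 2, 1, 3, 1, 3, 1, 2, 1, 3, 1, 2, 1, 3, 1, 2, 1, 2, 1, 3, 1, 2, 1, 3, 1, 2, 1, 2, 1, 3, 1, 2, 1, 3, 1, 3, 1, 2, 1, 2, 1, 10, 10, 8, 8, 11, 8, 10, 5, 5, 6]) (.leaf 83 53 [13, 12, 13, 8, 8, 10, 5, 7, 5, 6, 4, 1, 3, 1, 2, 1, 3, 1, 2, 1, 3, 1, 3, 1, 2, 1, 3, 1, 2, 1, 2, 1, 3, 1, 2, 1, 3, 1, 2, 1, 2, 1, 3, 1, 2, 1, 3, 1, 3, 1, 2, 1, 3, 1, 2, 1, 2, 1, 3, 1, 3, 1, 2, 1])))))))))) (.node 410 (.node 341 (.node 307 (.node 290 (.node 281 (.node 277 (.node 275 (.node 274 (.leaf 21 38 [12, 13, 12, 10, 8, 11, 9, 10, 9, 10, 9, 7, 7, 7, 5, 6, 6, 5, 2, 1, 3, 1, 2, 1, 2, 1, 3, 1, 2, 1, 3, 1, 2, 1, 3, 1, 2, 1, 3, 1, 3, 1, 2, 1, 2, 1, 3, 1, 2, 1, 2, 1, 3, 1, 3, 1]) (.leaf 51 59 [6, 6, 1, 3, 1, 2, 1, 3, 1, 2, 1, 3, 1, 3, 1, 2, 1, 2, 1, 3, 1, 2, 1, 3, 1, 2, 1, 3, 1, 2, 1, 2, 1, 3, 1, 2, 1, 3, 1, 2, 1, 2, 1, 3, 1, 3, 1, 3, 8, 8, 10, 9, 10, 9, 11, 9, 4, 6, 6, 6, 5])) (.node 276 (.leaf 33 44 [14, 8, 8, 11, 8, 10, 8, 11, 6, 5, 7, 7, 5, 7, 4, 2, 1, 3, 1, 2, 1, 3, 1, 3, 1, 2, 1, 3, 1, 2, 1, 3, 1, 2, 1, 3, 1, 2, 1, 2, 1, 3, 1, 3, 1, 2, 1, 3, 1, 2, 1, 2, 1, 3, 1, 2, 1, 3, 12]) (.leaf 71 58 [10, 7, 4, 6, 5, 5, 5, 5, 2, 1, 2, 1, 3, 1, 2, 1, 3, 1, 3, 1, 2, 1, 3, 1, 2, 1, 2, 1, 3, 1, 3, 1, 2, 1, 2, 1, 3, 1, 2, 1, 3, 1, 2, 1, 3, 1, 2, 1, 2, 1, 3, 1, 2, 1, 2, 1, 3, 1, 2, 12, 13, 8, 11, 9, 11, 8]))) (.node 279 (.node 278 (.leaf 87 58 [11, 8, 11, 9, 5, 7, 4, 7, 4, 6, 5, 1, 2, 1, 3, 1, 2, 1, 3, 1, 2, 1, 3, 1, 2, 1, 3, 1, 3, 1, 2, 1, 3, 1, 2, 1, 3, 1, 2, 1, 3, 1, 3, 1, 2, 1, 3, 1, 3, 1, 2, 1, 3, 1, 2, 1, 3, 1, 3, 1, 2, 1, 2, 1, 3, 1, 12, 11, 8]) (.leaf 87 57 [8, 11, 8, 11, 9, 5, 7, 4, 7, 4, 6, 5, 1, 2, 1, 3, 1, 2, 1, 3, 1, 2, 1, 3, 1, 2, 1, 3, 1, 3, 1, 2, 1, 3, 1, 2, 1, 3, 1, 2, 1, 3, 1, 3, 1, 2, 1, 3, 1, 3, 1, 2, 1, 3, 1, 2, 1, 3, 1, 3, 1, 2, 1, 2, 1, 3, 1, 12, 11])) (.node 280 (.leaf 91 57 [10, 10, 9, 10, 8, 10, 10, 6, 6, 4, 7, 5, 6, 4, 2, 1, 2, 1, 3, 1, 2, 1, 3, 1, 2, 1, 3, 1, 3, 1, 2, 1, 3, 1, 3, 1, 2, 1, 2, 1, 3, 1, 3, 1, 2, 1, 2, 1, 3, 1, 3, 1, 2, 1, 3, 1, 2, 1, 3, 1, 3, 1, 2, 1, 3, 1, 2, 1, 3, 14, 9]) (.leaf 2 21 [3, 1, 3, 1, 2, 1, 3, 1, 2, 1, 2, 1, 7, 1, 3, 1, 2, 1, 2, 1, 3, 1, 2, 1, 2, 1, 3, 1, 2, 1, 3, 1, 2, 1])))) (.node 285 (.node 283 (.node 282 (.leaf 70 64 [5, 5, 7, 5, 2, 1, 2, 1, 2, 1, 3, 1, 2, 1, 3, 1, 3, 1, 2, 1, 2, 1, 3, 1, 2, 1, 3, 1, 2, 1, 3, 1, 2, 1, 2, 1, 3, 1, 3, 1, 2, 1, 3, 1, 2, 1, 3, 1, 3, 1, 2, 1, 3, 1, 3, 14, 9, 10, 10, 8, 10, 9, 10, 9, 5, 6, 5, 7]) (.leaf 2 11 [2, 1, 3, 1, 2, 1, 3, 1, 2, 1, 3, 1, 3, 1, 2, 1, 3, 1, 2, 1, 2, 1, 7, 1, 3, 1, 2, 1, 2, 1, 3, 1, 2, 1])) (.node 284 (.leaf 87 66 [4, 6, 5, 1, 2, 1, 3, 1, 2, 1, 3, 1, 2, 1, 3, 1, 2, 1, 3, 1, 3, 1, 2, 1, 3, 1, 2, 1, 3, 1, 2, 1, 3, 1, 3, 1, 2, 1, 3, 1, 3, 1, 2, 1, 3, 1, 2, 1, 3, 1, 3, 1, 2, 1, 2, 1, 3, 1, 12, 11, 8, 11, 8, 11, 9, 5, 7, 4, 7]) (.leaf 25 52 [6, 4, 3, 1, 2, 1, 3, 1, 2, 1, 2, 1, 3, 1, 3, 1, 2, 1, 3, 1, 2, 1, 2, 1, 3, 1, 2, 1, 2, 1, 3, 1, 2, 1, 3, 1, 3, 1, 2, 1, 2, 1, 2, 11, 8, 10, 10, 8, 10, 10, 6, 6, 6, 5]))) (.node 287 (.node 286 (.leaf 2 17 [3, 1, 2, 1, 3, 1, 3, 1, 2, 1, 3, 1, 2, 1, 2, 1, 7, 1, 3, 1, 2, 1, 2, 1, 3, 1, 2, 1, 2, 1, 3, 1, 2, 1]) (.leaf 51 51 [9, 11, 9, 4, 6, 6, 6, 5, 6, 6, 1, 3, 1, 2, 1, 3, 1, 2, 1, 3, 1, 3, 1, 2, 1, 2, 1, 3, 1, 2, 1, 3, 1, 2, 1, 3, 1, 2, 1, 2, 1, 3, 1, 2, 1, 3, 1, 2, 1, 2, 1, 3, 1, 3, 1, 3, 8, 8, 10, 9, 10])) (.node 288 (.leaf 60 59 [5, 6, 1, 2, 1, 3, 1, 2, 1, 3, 1, 3, 1, 2, 1, 3, 1, 2, 1, 3, 1, 3, 1, 2, 1, 3, 1, 2, 1, 3, 1, 3, 1, 2, 1, 2, 1, 3, 1, 2, 1, 3, 1, 2, 1, 2, 1, 3, 1, 3, 13, 9, 11, 9, 10, 5, 7, 5, 6, 5, 5]) (.node 289 (.leaf 77 55 [10, 9, 10, 10, 6, 4, 6, 5, 7, 5, 5, 6, 1, 2, 1, 3, 1, 2, 1, 3, 1, 2, 1, 2, 1, 3, 1, 2, 1, 3, 1, 3, 1, 2, 1, 2, 1, 3, 1, 2, 1, 3, 1, 3, 1, 2, 1, 3, 1, 2, 1, 3, 1, 3, 1, 2, 1, 3, 1, 2, 1, 2, 1, 3, 12, 8, 8]) (.leaf 78 13 [1, 3, 1, 2, 1, 3, 1, 2, 1, 3, 1, 2, 1, 3, 1, 2, 1, 3, 1, 3, 1, 2, 1, 3, 1, 2, 1, 3, 1, 3, 1, 2, 1, 2, 1, 3, 1, 2, 1, 13, 8, 10, 10, 9, 11, 5, 7, 5, 6, 5, 5, 2, 1, 3, 1, 2, 1, 2, 1, 3, 1, 3, 1, 2])))))) (.node 298 (.node 294 (.node 292 (.node 291 (.leaf 91 60 [10, 8, 10, 10, 6, 6, 4, 7, 5, 6, 4, 2, 1, 2, 1, 3, 1, 2, 1, 3, 1, 2, 1, 3, 1, 3, 1, 2, 1, 3, 1, 3, 1, 2, 1, 2, 1, 3, 1, 3, 1, 2, 1, 2, 1, 3, 1, 3, 1, 2, 1, 3, 1, 2, 1, 3, 1, 3, 1, 2, 1, 3, 1, 2, 1, 3, 14, 9, 10, 10, 9]) (.leaf 45 50 [11, 9, 11, 8, 5, 5, 7, 5, 6, 5, 6, 3, 1, 2, 1, 3, 1, 3, 1, 2, 1, 3, 1, 2, 1, 3, 1, 2, 1, 3, 1, 2, 1, 3, 1, 3, 1, 2, 1, 2, 1, 3, 1, 2, 1, 3, 1, 2, 1, 3, 1, 2, 1, 2, 1, 12, 14, 8, 11, 8, 8])) (.node 293 (.leaf 6 4 [10, 8, 11, 8, 10, 14, 10, 8, 10, 9]) (.leaf 31 44 [10, 8, 11, 9, 10, 4, 4, 6, 5, 5, 1, 3, 1, 2, 1, 3, 1, 2, 1, 2, 1, 3, 1, 3, 1, 2, 1, 3, 1, 3, 1, 2, 1, 2, 1, 3, 1, 3, 1, 2, 1, 2, 1, 3, 1, 2, 1, 3, 1, 3, 1, 2, 12, 10]))) (.node 296 (.node 295 (.leaf 88 41 [1, 2, 1, 3, 1, 2, 1, 3, 1, 2, 1, 3, 1, 2, 10, 9, 10, 9, 11, 8, 8, 11, 9, 4, 7, 4, 6, 6, 6, 5, 2, 1, 2, 1, 2, 1, 3, 1, 3, 1, 2, 1, 3, 1, 3, 1, 2, 1, 3, 1, 2, 1, 3, 1, 3, 1, 2, 1, 2, 1, 3, 1, 2, 1, 2, 1, 3, 1, 2, 1, 3]) (.leaf 82 67 [7, 5, 1, 3, 1, 2, 1, 3, 1, 3, 1, 2, 1, 3, 1, 2, 1, 3, 1, 2, 1, 2, 1, 3, 1, 2, 1, 3, 1, 2, 1, 3, 1, 2, 1, 3, 1, 3, 1, 2, 1, 2, 1, 3, 1, 2, 1, 3, 1, 3, 1, 2, 1, 2, 1, 13, 12, 10, 8, 11, 9, 10, 9, 4, 7, 5, 5, 7, 7])) (.node 297 (.leaf 18 35 [12, 9, 10, 9, 10, 7, 7, 7, 4, 6, 4, 7, 3, 1, 3, 1, 2, 1, 2, 1, 3, 1, 2, 1, 3, 1, 3, 1, 2, 1, 3, 1, 2, 1, 3, 1, 2, 1, 3, 1, 2, 1, 2, 1, 3, 12, 13]) (.leaf 1 5 [3, 1, 2, 1, 2, 1, 3, 1, 2, 1, 3, 1, 2, 1, 2, 5, 1, 2, 1, 2, 1])))) (.node 302 (.node 300 (.node 299 (.leaf 2 26 [1, 3, 1, 2, 1, 2, 1, 7, 1, 3, 1, 2, 1, 2, 1, 3, 1, 2, 1, 2, 1, 3, 1, 2, 1, 3, 1, 2, 1, 3, 1, 3, 1, 2]) (.leaf 18 34 [13, 12, 9, 10, 9, 10, 7, 7, 7, 4, 6, 4, 7, 3, 1, 3, 1, 2, 1, 2, 1, 3, 1, 2, 1, 3, 1, 3, 1, 2, 1, 3, 1, 2, 1, 3, 1, 2, 1, 3, 1, 2, 1, 2, 1, 3, 12])) (.node 301 (.leaf 34 57 [5, 6, 1, 3, 1, 2, 1, 3, 1, 2, 1, 3, 1, 2, 1, 3, 1, 2, 1, 3, 1, 3, 1, 2, 1, 2, 1, 3, 1, 3, 1, 2, 1, 2, 1, 3, 1, 2, 1, 3, 1, 2, 1, 2, 1, 12, 10, 10, 8, 11, 8, 11, 8, 5, 7, 5, 6, 5, 5]) (.leaf 59 7 [1, 2, 1, 3, 1, 2, 1, 3, 1, 2, 1, 3, 1, 2, 1, 3, 1, 2, 1, 2, 1, 3, 1, 3, 1, 2, 1, 2, 1, 3, 1, 3, 1, 2, 1, 2, 1, 3, 1, 2, 1, 13, 8, 10, 10, 9, 11, 5, 7, 5, 6, 5, 5, 2, 1, 2, 1, 3, 1, 2]))) (.node 304 (.node 303 (.leaf 30 57 [7, 4, 7, 1, 2, 1, 3, 1, 2, 1, 3, 1, 2, 1, 2, 1, 3, 1, 3, 1, 2, 1, 3, 1, 2, 1, 3, 1, 2, 1, 3, 1, 2, 1, 3, 1, 2, 1, 2, 1, 3, 1, 3, 1, 2, 12, 14, 14, 8, 8, 10, 8, 11, 9, 11, 4, 6, 6, 6, 5]) (.leaf 31 48 [10, 4, 4, 6, 5, 5, 1, 3, 1, 2, 1, 3, 1, 2, 1, 2, 1, 3, 1, 3, 1, 2, 1, 3, 1, 3, 1, 2, 1, 2, 1, 3, 1, 3, 1, 2, 1, 2, 1, 3, 1, 2, 1, 3, 1, 3, 1, 2, 12, 10, 10, 8, 11, 9])) (.node 305 (.leaf 90 37 [1, 3, 1, 2, 1, 3, 1, 2, 1, 3, 1, 2, 1, 3, 1, 2, 1, 3, 13, 9, 11, 9, 10, 4, 7, 5, 5, 7, 7, 7, 2, 1, 3, 1, 2, 1, 3, 1, 2, 1, 2, 1, 3, 1, 2, 1, 3, 1, 2, 1, 3, 1, 3, 1, 2, 1, 2, 1, 3, 1, 2, 1, 3, 1, 2, 1, 3]) (.node 306 (.leaf 58 56 [11, 4, 7, 4, 4, 4, 4, 6, 5, 2, 1, 2, 1, 3, 1, 3, 1, 2, 1, 3, 1, 3, 1, 2, 1, 3, 1, 2, 1, 3, 1, 2, 1, 3, 1, 3, 1, 2, 1, 2, 1, 3, 1, 2, 1, 2, 1, 3, 1, 2, 1, 3, 1, 3, 1, 3, 14, 14, 8, 8, 10, 9, 11, 8, 8]) (.leaf 76 61 [6, 5, 6, 6, 4, 6, 3, 1, 2, 1, 3, 1, 3, 1, 2, 1, 3, 1, 2, 1, 3, 1, 3, 1, 2, 1, 3, 1, 2, 1, 3, 1, 2, 1, 2, 1, 3, 1, 2, 1, 3, 1, 2, 1, 2, 1, 3, 1, 2, 1, 3, 1, 3, 1, 2, 1, 2, 1, 10, 10, 8, 8, 11, 8, 10, 5, 5]))))))) (.node 324 (.node 315 (.node 311 (.node 309 (.node 308 (.leaf 89 55 [13, 8, 11, 9, 10, 9, 10, 10, 8, 10, 5, 6, 5, 7, 5, 6, 4, 1, 3, 1, 2, 1, 3, 1, 2, 1, 3, 1, 3, 1, 2, 1, 3, 1, 3, 1, 2, 1, 2, 1, 3, 1, 3, 1, 2, 1, 3, 1, 2, 1, 2, 1, 3, 1, 3, 1, 2, 1, 2, 1, 3, 1, 2, 1, 3, 1, 3, 1, 2, 1, 2, 1]) (.leaf 46 45 [13, 13, 8, 10, 10, 8, 11, 8, 6, 6, 5, 5, 7, 7, 5, 2, 1, 2, 1, 3, 1, 3, 1, 2, 1, 3, 1, 2, 1, 2, 1, 3, 1, 2, 1, 3, 1, 2, 1, 3, 1, 2, 1, 3, 1, 3, 1, 2, 1, 2, 1, 3, 1, 3, 1, 2, 1, 3, 1, 3])) (.node 310 (.leaf 74 51 [12, 13, 9, 11, 8, 10, 10, 8, 11, 4, 4, 7, 4, 7, 4, 1, 3, 1, 3, 1, 2, 1, 2, 1, 3, 1, 3, 1, 2, 1, 2, 1, 3, 1, 2, 1, 3, 1, 2, 1, 2, 1, 3, 1, 2, 1, 3, 1, 3, 1, 2, 1, 3, 1, 2, 1, 3, 1, 2, 1, 3, 1, 2, 1, 2, 1]) (.leaf 22 39 [12, 13, 12, 10, 8, 8, 10, 10, 9, 10, 9, 10, 4, 4, 7, 5, 6, 5, 5, 5, 3, 1, 2, 1, 2, 1, 3, 1, 3, 1, 2, 1, 3, 1, 2, 1, 2, 1, 3, 1, 2, 1, 2, 1, 3, 1, 2, 1, 3, 1, 2, 1, 3, 1, 2, 1, 3, 1, 3]))) (.node 313 (.node 312 (.leaf 28 41 [12, 14, 12, 9, 10, 8, 11, 8, 11, 8, 6, 4, 4, 4, 4, 7, 3, 1, 2, 1, 2, 1, 3, 1, 3, 1, 2, 1, 3, 1, 3, 1, 2, 1, 3, 1, 2, 1, 3, 1, 2, 1, 2, 1, 3, 1, 2, 1, 3, 1, 3, 1, 2, 1, 2, 1, 3]) (.leaf 36 44 [13, 12, 13, 10, 9, 10, 8, 11, 5, 5, 6, 6, 6, 5, 1, 2, 1, 3, 1, 2, 1, 2, 1, 3, 1, 2, 1, 3, 1, 2, 1, 2, 1, 3, 1, 2, 1, 3, 1, 2, 1, 3, 1, 2, 1, 3, 1, 2, 1, 3, 1, 2, 1, 3, 1, 2, 1, 3])) (.node 314 (.leaf 80 53 [12, 13, 12, 13, 10, 9, 10, 9, 10, 5, 7, 4, 6, 6, 4, 2, 1, 2, 1, 2, 1, 3, 1, 3, 1, 2, 1, 3, 1, 3, 1, 2, 1, 3, 1, 2, 1, 2, 1, 3, 1, 2, 1, 3, 1, 3, 1, 2, 1, 3, 1, 3, 1, 2, 1, 3, 1, 2, 1, 3, 1, 3, 1, 2, 1, 2, 1, 3]) (.leaf 91 55 [14, 9, 10, 10, 9, 10, 8, 10, 10, 6, 6, 4, 7, 5, 6, 4, 2, 1, 2, 1, 3, 1, 2, 1, 3, 1, 2, 1, 3, 1, 3, 1, 2, 1, 3, 1, 3, 1, 2, 1, 2, 1, 3, 1, 3, 1, 2, 1, 2, 1, 3, 1, 3, 1, 2, 1, 3, 1, 2, 1, 3, 1, 3, 1, 2, 1, 3, 1, 2, 1, 3])))) (.node 319 (.node 317 (.node 316 (.leaf 25 16 [3, 1, 2, 1, 2, 1, 3, 1, 2, 1, 2, 1, 3, 1, 2, 1, 3, 1, 3, 1, 2, 1, 2, 1, 2, 11, 8, 10, 10, 8, 10, 10, 6, 6, 6, 5, 6, 4, 3, 1, 2, 1, 3, 1, 2, 1, 2, 1, 3, 1, 3, 1, 2, 1]) (.leaf 32 48 [9, 11, 8, 6, 4, 6, 5, 6, 5, 1, 3, 1, 2, 1, 3, 1, 3, 1, 2, 1, 3, 1, 3, 1, 2, 1, 2, 1, 3, 1, 2, 1, 3, 1, 2, 1, 3, 1, 2, 1, 2, 1, 3, 1, 3, 1, 2, 1, 3, 1, 3, 13, 12, 8, 11, 9, 10])) (.node 318 (.leaf 77 66 [6, 1, 2, 1, 3, 1, 2, 1, 3, 1, 2, 1, 2, 1, 3, 1, 2, 1, 3, 1, 3, 1, 2, 1, 2, 1, 3, 1, 2, 1, 3, 1, 3, 1, 2, 1, 3, 1, 2, 1, 3, 1, 3, 1, 2, 1, 3, 1, 2, 1, 2, 1, 3, 12, 8, 8, 10, 9, 10, 10, 6, 4, 6, 5, 7, 5, 5]) (.leaf 39 46 [8, 11, 8, 10, 9, 10, 5, 7, 7, 4, 7, 4, 1, 2, 1, 3, 1, 2, 1, 3, 1, 3, 1, 2, 1, 2, 1, 3, 1, 3, 1, 2, 1, 2, 1, 3, 1, 2, 1, 3, 1, 3, 1, 2, 1, 3, 1, 2, 1, 3, 1, 3, 1, 2, 1, 3, 13, 11]))) (.node 321 (.node 320 (.leaf 55 47 [12, 10, 8, 8, 10, 10, 9, 11, 8, 10, 4, 4, 7, 7, 5, 1, 3, 1, 3, 1, 2, 1, 2, 1, 3, 1, 3, 1, 2, 1, 3, 1, 2, 1, 2, 1, 3, 1, 2, 1, 3, 1, 3, 1, 2, 1, 3, 1, 2, 1, 3, 1, 2, 1, 3, 1, 2, 1, 3, 1, 2, 1]) (.leaf 15 28 [13, 13, 9, 10, 10, 9, 11, 8, 11, 6, 4, 7, 4, 7, 5, 6, 1, 2, 1, 2, 1, 3, 1, 2, 1, 3, 1, 3, 1, 2, 1, 3, 1, 2, 1, 2, 1, 3, 1, 2, 1, 3, 1, 2])) (.node 322 (.leaf 76 57 [8, 10, 5, 5, 6, 5, 6, 6, 4, 6, 3, 1, 2, 1, 3, 1, 3, 1, 2, 1, 3, 1, 2, 1, 3, 1, 3, 1, 2, 1, 3, 1, 2, 1, 3, 1, 2, 1, 2, 1, 3, 1, 2, 1, 3, 1, 2, 1, 2, 1, 3, 1, 2, 1, 3, 1, 3, 1, 2, 1, 2, 1, 10, 10, 8, 8, 11]) (.node 323 (.leaf 90 62 [5, 5, 7, 7, 7, 2, 1, 3, 1, 2, 1, 3, 1, 2, 1, 2, 1, 3, 1, 2, 1, 3, 1, 2, 1, 3, 1, 3, 1, 2, 1, 2, 1, 3, 1, 2, 1, 3, 1, 2, 1, 3, 1, 3, 1, 2, 1, 3, 1, 2, 1, 3, 1, 2, 1, 3, 1, 2, 1, 3, 13, 9, 11, 9, 10, 4, 7]) (.leaf 64 51 [12, 8, 8, 10, 9, 11, 9, 10, 10, 4, 4, 4, 7, 7, 2, 1, 3, 1, 2, 1, 3, 1, 2, 1, 2, 1, 3, 1, 3, 1, 2, 1, 2, 1, 3, 1, 3, 1, 2, 1, 3, 1, 2, 1, 2, 1, 3, 1, 3, 1, 2, 1, 2, 1, 3, 1, 3, 1, 2, 1, 2, 1, 3, 12, 13])))))) (.node 332 (.node 328 (.node 326 (.node 325 (.leaf 68 50 [12, 8, 10, 9, 11, 8, 11, 8, 10, 10, 5, 5, 6, 6, 5, 7, 7, 7, 1, 3, 1, 3, 1, 2, 1, 3, 1, 2, 1, 3, 1, 2, 1, 3, 1, 2, 1, 3, 1, 2, 1, 3, 1, 2, 1, 3, 1, 3, 1, 2, 1, 2, 1, 3, 1, 2, 1, 2, 1, 3, 1, 3, 1, 2, 1, 2, 1, 3]) (.leaf 25 18 [2, 1, 2, 1, 3, 1, 2, 1, 2, 1, 3, 1, 2, 1, 3, 1, 3, 1, 2, 1, 2, 1, 2, 11, 8, 10, 10, 8, 10, 10, 6, 6, 6, 5, 6, 4, 3, 1, 2, 1, 3, 1, 2, 1, 2, 1, 3, 1, 3, 1, 2, 1, 3, 1])) (.node 327 (.leaf 55 51 [10, 10, 9, 11, 8, 10, 4, 4, 7, 7, 5, 1, 3, 1, 3, 1, 2, 1, 2, 1, 3, 1, 3, 1, 2, 1, 3, 1, 2, 1, 2, 1, 3, 1, 2, 1, 3, 1, 3, 1, 2, 1, 3, 1, 2, 1, 3, 1, 2, 1, 3, 1, 2, 1, 3, 1, 2, 1, 12, 10, 8, 8]) (.leaf 19 39 [13, 10, 9, 10, 8, 11, 5, 5, 6, 6, 6, 5, 1, 2, 1, 3, 1, 2, 1, 2, 1, 3, 1, 3, 1, 2, 1, 2, 1, 3, 1, 3, 1, 2, 1, 3, 1, 2, 1, 3, 1, 2, 1, 3, 1, 2, 1, 3, 1, 13, 12]))) (.node 330 (.node 329 (.leaf 60 58 [5, 5, 6, 1, 2, 1, 3, 1, 2, 1, 3, 1, 3, 1, 2, 1, 3, 1, 2, 1, 3, 1, 3, 1, 2, 1, 3, 1, 2, 1, 3, 1, 3, 1, 2, 1, 2, 1, 3, 1, 2, 1, 3, 1, 2, 1, 2, 1, 3, 1, 3, 13, 9, 11, 9, 10, 5, 7, 5, 6, 5]) (.leaf 80 66 [6, 4, 2, 1, 2, 1, 2, 1, 3, 1, 3, 1, 2, 1, 3, 1, 3, 1, 2, 1, 3, 1, 2, 1, 2, 1, 3, 1, 2, 1, 3, 1, 3, 1, 2, 1, 3, 1, 3, 1, 2, 1, 3, 1, 2, 1, 3, 1, 3, 1, 2, 1, 2, 1, 3, 12, 13, 12, 13, 10, 9, 10, 9, 10, 5, 7, 4, 6])) (.node 331 (.leaf 60 52 [10, 5, 7, 5, 6, 5, 5, 5, 6, 1, 2, 1, 3, 1, 2, 1, 3, 1, 3, 1, 2, 1, 3, 1, 2, 1, 3, 1, 3, 1, 2, 1, 3, 1, 2, 1, 3, 1, 3, 1, 2, 1, 2, 1, 3, 1, 2, 1, 3, 1, 2, 1, 2, 1, 3, 1, 3, 13, 9, 11, 9]) (.leaf 6 8 [10, 14, 10, 8, 10, 9, 10, 8, 11, 8])))) (.node 336 (.node 334 (.node 333 (.leaf 87 67 [6, 5, 1, 2, 1, 3, 1, 2, 1, 3, 1, 2, 1, 3, 1, 2, 1, 3, 1, 3, 1, 2, 1, 3, 1, 2, 1, 3, 1, 2, 1, 3, 1, 3, 1, 2, 1, 3, 1, 3, 1, 2, 1, 3, 1, 2, 1, 3, 1, 3, 1, 2, 1, 2, 1, 3, 1, 12, 11, 8, 11, 8, 11, 9, 5, 7, 4, 7, 4]) (.leaf 83 55 [13, 8, 8, 10, 5, 7, 5, 6, 4, 1, 3, 1, 2, 1, 3, 1, 2, 1, 3, 1, 3, 1, 2, 1, 3, 1, 2, 1, 2, 1, 3, 1, 2, 1, 3, 1, 2, 1, 2, 1, 3, 1, 2, 1, 3, 1, 3, 1, 2, 1, 3, 1, 2, 1, 2, 1, 3, 1, 3, 1, 2, 1, 13, 12])) (.node 335 (.leaf 38 46 [12, 9, 10, 8, 7, 7, 5, 5, 5, 5, 5, 1, 3, 1, 2, 1, 3, 1, 2, 1, 3, 1, 2, 1, 3, 1, 3, 1, 2, 1, 3, 1, 2, 1, 2, 1, 3, 1, 2, 1, 3, 1, 3, 1, 2, 1, 3, 1, 2, 1, 3, 1, 2, 1, 3, 12, 13]) (.leaf 50 38 [2, 1, 3, 1, 3, 1, 3, 12, 13, 12, 9, 10, 9, 10, 7, 7, 7, 4, 6, 4, 7, 3, 1, 2, 1, 3, 1, 3, 1, 2, 1, 3, 1, 2, 1, 2, 1, 3, 1, 2, 1, 3, 1, 2, 1, 3, 1, 2, 1, 3, 1, 2, 1, 3, 1, 2, 1, 3, 1]))) (.node 338 (.node 337 (.leaf 56 47 [12, 13, 12, 9, 11, 8, 10, 10, 6, 6, 4, 6, 6, 1, 3, 1, 2, 1, 2, 1, 3, 1, 2, 1, 3, 1, 2, 1, 3, 1, 2, 1, 3, 1, 3, 1, 2, 1, 2, 1, 3, 1, 3, 1, 2, 1, 3, 1, 2, 1, 3, 1, 2, 1, 2, 1, 3, 1, 3, 1]) (.leaf 64 59 [10, 4, 4, 4, 7, 7, 2, 1, 3, 1, 2, 1, 3, 1, 2, 1, 2, 1, 3, 1, 3, 1, 2, 1, 2, 1, 3, 1, 3, 1, 2, 1, 3, 1, 2, 1, 2, 1, 3, 1, 3, 1, 2, 1, 2, 1, 3, 1, 3, 1, 2, 1, 2, 1, 3, 12, 13, 12, 8, 8, 10, 9, 11, 9, 10])) (.node 339 (.leaf 74 57 [10, 8, 11, 4, 4, 7, 4, 7, 4, 1, 3, 1, 3, 1, 2, 1, 2, 1, 3, 1, 3, 1, 2, 1, 2, 1, 3, 1, 2, 1, 3, 1, 2, 1, 2, 1, 3, 1, 2, 1, 3, 1, 3, 1, 2, 1, 3, 1, 2, 1, 3, 1, 2, 1, 3, 1, 2, 1, 2, 1, 12, 13, 9, 11, 8, 10]) (.node 340 (.leaf 51 57 [6, 5, 6, 6, 1, 3, 1, 2, 1, 3, 1, 2, 1, 3, 1, 3, 1, 2, 1, 2, 1, 3, 1, 2, 1, 3, 1, 2, 1, 3, 1, 2, 1, 2, 1, 3, 1, 2, 1, 3, 1, 2, 1, 2, 1, 3, 1, 3, 1, 3, 8, 8, 10, 9, 10, 9, 11, 9, 4, 6, 6]) (.leaf 88 70 [5, 2, 1, 2, 1, 2, 1, 3, 1, 3, 1, 2, 1, 3, 1, 3, 1, 2, 1, 3, 1, 2, 1, 3, 1, 3, 1, 2, 1, 2, 1, 3, 1, 2, 1, 2, 1, 3, 1, 2, 1, 3, 1, 2, 1, 3, 1, 2, 1, 3, 1, 2, 1, 3, 1, 2, 10, 9, 10, 9, 11, 8, 8, 11, 9, 4, 7, 4, 6, 6, 6])))))))) (.node 375 (.node 358 (.node 349 (.node 345 (.node 343 (.node 342 (.leaf 51 49 [9, 10, 9, 11, 9, 4, 6, 6, 6, 5, 6, 6, 1, 3, 1, 2, 1, 3, 1, 2, 1, 3, 1, 3, 1, 2, 1, 2, 1, 3, 1, 2, 1, 3, 1, 2, 1, 3, 1, 2, 1, 2, 1, 3, 1, 2, 1, 3, 1, 2, 1, 2, 1, 3, 1, 3, 1, 3, 8, 8, 10]) (.leaf 59 50 [10, 10, 9, 11, 5, 7, 5, 6, 5, 5, 2, 1, 2, 1, 3, 1, 2, 1, 2, 1, 3, 1, 2, 1, 3, 1, 2, 1, 3, 1, 2, 1, 3, 1, 2, 1, 2, 1, 3, 1, 3, 1, 2, 1, 2, 1, 3, 1, 3, 1, 2, 1, 2, 1, 3, 1, 2, 1, 13, 8])) (.node 344 (.leaf 25 41 [11, 8, 10, 10, 8, 10, 10, 6, 6, 6, 5, 6, 4, 3, 1, 2, 1, 3, 1, 2, 1, 2, 1, 3, 1, 3, 1, 2, 1, 3, 1, 2, 1, 2, 1, 3, 1, 2, 1, 2, 1, 3, 1, 2, 1, 3, 1, 3, 1, 2, 1, 2, 1, 2]) (.leaf 62 48 [13, 12, 9, 10, 8, 10, 10, 8, 5, 5, 7, 5, 5, 7, 1, 3, 1, 2, 1, 3, 1, 2, 1, 2, 1, 3, 1, 2, 1, 3, 1, 2, 1, 3, 1, 2, 1, 3, 1, 2, 1, 2, 1, 3, 1, 3, 1, 2, 1, 2, 1, 3, 1, 2, 1, 2, 1, 3, 1, 2, 1, 3]))) (.node 347 (.node 346 (.leaf 49 50 [8, 11, 5, 5, 7, 7, 7, 5, 7, 1, 3, 1, 2, 1, 3, 1, 2, 1, 3, 1, 2, 1, 2, 1, 3, 1, 3, 1, 2, 1, 2, 1, 3, 1, 2, 1, 2, 1, 3, 1, 2, 1, 3, 1, 2, 1, 2, 1, 3, 1, 3, 1, 2, 1, 12, 14, 10, 8, 11]) (.leaf 25 48 [6, 6, 6, 5, 6, 4, 3, 1, 2, 1, 3, 1, 2, 1, 2, 1, 3, 1, 3, 1, 2, 1, 3, 1, 2, 1, 2, 1, 3, 1, 2, 1, 2, 1, 3, 1, 2, 1, 3, 1, 3, 1, 2, 1, 2, 1, 2, 11, 8, 10, 10, 8, 10, 10])) (.node 348 (.leaf 83 56 [8, 8, 10, 5, 7, 5, 6, 4, 1, 3, 1, 2, 1, 3, 1, 2, 1, 3, 1, 3, 1, 2, 1, 3, 1, 2, 1, 2, 1, 3, 1, 2, 1, 3, 1, 2, 1, 2, 1, 3, 1, 2, 1, 3, 1, 3, 1, 2, 1, 3, 1, 2, 1, 2, 1, 3, 1, 3, 1, 2, 1, 13, 12, 13]) (.leaf 18 33 [12, 13, 12, 9, 10, 9, 10, 7, 7, 7, 4, 6, 4, 7, 3, 1, 3, 1, 2, 1, 2, 1, 3, 1, 2, 1, 3, 1, 3, 1, 2, 1, 3, 1, 2, 1, 3, 1, 2, 1, 3, 1, 2, 1, 2, 1, 3])))) (.node 353 (.node 351 (.node 350 (.leaf 37 44 [12, 13, 9, 10, 10, 9, 10, 10, 8, 8, 4, 4, 6, 4, 6, 4, 1, 3, 1, 2, 1, 3, 1, 2, 1, 3, 1, 3, 1, 2, 1, 3, 1, 2, 1, 3, 1, 2, 1, 3, 1, 2, 1, 3, 1, 3, 1, 2, 1, 2, 1, 3, 1, 2, 1, 2, 1, 3, 1, 2]) (.leaf 55 52 [10, 9, 11, 8, 10, 4, 4, 7, 7, 5, 1, 3, 1, 3, 1, 2, 1, 2, 1, 3, 1, 3, 1, 2, 1, 3, 1, 2, 1, 2, 1, 3, 1, 2, 1, 3, 1, 3, 1, 2, 1, 3, 1, 2, 1, 3, 1, 2, 1, 3, 1, 2, 1, 3, 1, 2, 1, 12, 10, 8, 8, 10])) (.node 352 (.leaf 57 55 [11, 4, 7, 7, 4, 4, 2, 1, 2, 1, 3, 1, 2, 1, 3, 1, 2, 1, 2, 1, 3, 1, 3, 1, 2, 1, 3, 1, 2, 1, 3, 1, 3, 1, 2, 1, 3, 1, 2, 1, 3, 1, 3, 1, 2, 1, 2, 1, 3, 1, 3, 1, 3, 13, 13, 8, 10, 8, 8, 10, 9]) (.leaf 5 0 [11, 8, 8, 10, 12]))) (.node 355 (.node 354 (.leaf 45 49 [8, 11, 9, 11, 8, 5, 5, 7, 5, 6, 5, 6, 3, 1, 2, 1, 3, 1, 3, 1, 2, 1, 3, 1, 2, 1, 3, 1, 2, 1, 3, 1, 2, 1, 3, 1, 3, 1, 2, 1, 2, 1, 3, 1, 2, 1, 3, 1, 2, 1, 3, 1, 2, 1, 2, 1, 12, 14, 8, 11, 8]) (.leaf 53 48 [9, 10, 6, 4, 7, 7, 7, 7, 1, 3, 1, 2, 1, 2, 1, 3, 1, 2, 1, 3, 1, 3, 1, 2, 1, 3, 1, 2, 1, 3, 1, 2, 1, 3, 1, 3, 1, 2, 1, 3, 1, 2, 1, 3, 1, 2, 1, 3, 1, 2, 1, 3, 1, 2, 12, 14])) (.node 356 (.leaf 64 58 [10, 10, 4, 4, 4, 7, 7, 2, 1, 3, 1, 2, 1, 3, 1, 2, 1, 2, 1, 3, 1, 3, 1, 2, 1, 2, 1, 3, 1, 3, 1, 2, 1, 3, 1, 2, 1, 2, 1, 3, 1, 3, 1, 2, 1, 2, 1, 3, 1, 3, 1, 2, 1, 2, 1, 3, 12, 13, 12, 8, 8, 10, 9, 11, 9]) (.node 357 (.leaf 6 2 [10, 9, 10, 8, 11, 8, 10, 14, 10, 8]) (.leaf 22 45 [10, 10, 9, 10, 9, 10, 4, 4, 7, 5, 6, 5, 5, 5, 3, 1, 2, 1, 2, 1, 3, 1, 3, 1, 2, 1, 3, 1, 2, 1, 2, 1, 3, 1, 2, 1, 2, 1, 3, 1, 2, 1, 3, 1, 2, 1, 3, 1, 2, 1, 3, 1, 3, 12, 13, 12, 10, 8, 8])))))) (.node 366 (.node 362 (.node 360 (.node 359 (.leaf 84 53 [12, 14, 14, 10, 9, 10, 8, 8, 10, 5, 5, 7, 4, 7, 4, 2, 1, 3, 1, 3, 1, 2, 1, 3, 1, 2, 1, 2, 1, 3, 1, 2, 1, 3, 1, 2, 1, 3, 1, 3, 1, 2, 1, 3, 1, 2, 1, 3, 1, 3, 1, 2, 1, 2, 1, 3, 1, 2, 1, 2, 1, 3, 1, 3, 1, 2, 1, 3]) (.leaf 60 56 [6, 5, 5, 5, 6, 1, 2, 1, 3, 1, 2, 1, 3, 1, 3, 1, 2, 1, 3, 1, 2, 1, 3, 1, 3, 1, 2, 1, 3, 1, 2, 1, 3, 1, 3, 1, 2, 1, 2, 1, 3, 1, 2, 1, 3, 1, 2, 1, 2, 1, 3, 1, 3, 13, 9, 11, 9, 10, 5, 7, 5])) (.node 361 (.leaf 89 68 [7, 5, 6, 4, 1, 3, 1, 2, 1, 3, 1, 2, 1, 3, 1, 3, 1, 2, 1, 3, 1, 3, 1, 2, 1, 2, 1, 3, 1, 3, 1, 2, 1, 3, 1, 2, 1, 2, 1, 3, 1, 3, 1, 2, 1, 2, 1, 3, 1, 2, 1, 3, 1, 3, 1, 2, 1, 2, 1, 13, 8, 11, 9, 10, 9, 10, 10, 8, 10, 5, 6, 5]) (.leaf 20 44 [11, 8, 11, 5, 5, 5, 6, 6, 4, 4, 3, 1, 2, 1, 3, 1, 2, 1, 2, 1, 3, 1, 2, 1, 3, 1, 3, 1, 2, 1, 2, 1, 3, 1, 2, 1, 3, 1, 3, 1, 2, 1, 2, 1, 3, 1, 3, 12, 13, 11, 8, 10, 10, 9]))) (.node 364 (.node 363 (.leaf 49 45 [12, 14, 10, 8, 11, 8, 11, 5, 5, 7, 7, 7, 5, 7, 1, 3, 1, 2, 1, 3, 1, 2, 1, 3, 1, 2, 1, 2, 1, 3, 1, 3, 1, 2, 1, 2, 1, 3, 1, 2, 1, 2, 1, 3, 1, 2, 1, 3, 1, 2, 1, 2, 1, 3, 1, 3, 1, 2, 1]) (.leaf 88 58 [9, 11, 8, 8, 11, 9, 4, 7, 4, 6, 6, 6, 5, 2, 1, 2, 1, 2, 1, 3, 1, 3, 1, 2, 1, 3, 1, 3, 1, 2, 1, 3, 1, 2, 1, 3, 1, 3, 1, 2, 1, 2, 1, 3, 1, 2, 1, 2, 1, 3, 1, 2, 1, 3, 1, 2, 1, 3, 1, 2, 1, 3, 1, 2, 1, 3, 1, 2, 10, 9, 10])) (.node 365 (.leaf 4 1 [4, 4, 7, 4, 7, 5, 6, 4, 11, 4]) (.leaf 55 33 [2, 1, 3, 1, 2, 1, 3, 1, 2, 1, 3, 1, 2, 1, 12, 10, 8, 8, 10, 10, 9, 11, 8, 10, 4, 4, 7, 7, 5, 1, 3, 1, 3, 1, 2, 1, 2, 1, 3, 1, 3, 1, 2, 1, 3, 1, 2, 1, 2, 1, 3, 1, 2, 1, 3, 1, 3, 1, 2, 1, 3, 1])))) (.node 370 (.node 368 (.node 367 (.leaf 60 50 [11, 9, 10, 5, 7, 5, 6, 5, 5, 5, 6, 1, 2, 1, 3, 1, 2, 1, 3, 1, 3, 1, 2, 1, 3, 1, 2, 1, 3, 1, 3, 1, 2, 1, 3, 1, 2, 1, 3, 1, 3, 1, 2, 1, 2, 1, 3, 1, 2, 1, 3, 1, 2, 1, 2, 1, 3, 1, 3, 13, 9]) (.leaf 90 56 [9, 11, 9, 10, 4, 7, 5, 5, 7, 7, 7, 2, 1, 3, 1, 2, 1, 3, 1, 2, 1, 2, 1, 3, 1, 2, 1, 3, 1, 2, 1, 3, 1, 3, 1, 2, 1, 2, 1, 3, 1, 2, 1, 3, 1, 2, 1, 3, 1, 3, 1, 2, 1, 3, 1, 2, 1, 3, 1, 2, 1, 3, 1, 2, 1, 3, 13])) (.node 369 (.leaf 60 54 [7, 5, 6, 5, 5, 5, 6, 1, 2, 1, 3, 1, 2, 1, 3, 1, 3, 1, 2, 1, 3, 1, 2, 1, 3, 1, 3, 1, 2, 1, 3, 1, 2, 1, 3, 1, 3, 1, 2, 1, 2, 1, 3, 1, 2, 1, 3, 1, 2, 1, 2, 1, 3, 1, 3, 13, 9, 11, 9, 10, 5]) (.leaf 76 42 [2, 1, 3, 1, 3, 1, 2, 1, 2, 1, 10, 10, 8, 8, 11, 8, 10, 5, 5, 6, 5, 6, 6, 4, 6, 3, 1, 2, 1, 3, 1, 3, 1, 2, 1, 3, 1, 2, 1, 3, 1, 3, 1, 2, 1, 3, 1, 2, 1, 3, 1, 2, 1, 2, 1, 3, 1, 2, 1, 3, 1, 2, 1, 2, 1, 3, 1]))) (.node 372 (.node 371 (.leaf 60 9 [3, 1, 2, 1, 3, 1, 2, 1, 3, 1, 3, 1, 2, 1, 3, 1, 2, 1, 3, 1, 3, 1, 2, 1, 2, 1, 3, 1, 2, 1, 3, 1, 2, 1, 2, 1, 3, 1, 3, 13, 9, 11, 9, 10, 5, 7, 5, 6, 5, 5, 5, 6, 1, 2, 1, 3, 1, 2, 1, 3, 1]) (.leaf 38 49 [8, 7, 7, 5, 5, 5, 5, 5, 1, 3, 1, 2, 1, 3, 1, 2, 1, 3, 1, 2, 1, 3, 1, 3, 1, 2, 1, 3, 1, 2, 1, 2, 1, 3, 1, 2, 1, 3, 1, 3, 1, 2, 1, 3, 1, 2, 1, 3, 1, 2, 1, 3, 12, 13, 12, 9, 10])) (.node 373 (.leaf 57 49 [8, 10, 8, 8, 10, 9, 11, 4, 7, 7, 4, 4, 2, 1, 2, 1, 3, 1, 2, 1, 3, 1, 2, 1, 2, 1, 3, 1, 3, 1, 2, 1, 3, 1, 2, 1, 3, 1, 3, 1, 2, 1, 3, 1, 2, 1, 3, 1, 3, 1, 2, 1, 2, 1, 3, 1, 3, 1, 3, 13, 13]) (.node 374 (.leaf 49 46 [14, 10, 8, 11, 8, 11, 5, 5, 7, 7, 7, 5, 7, 1, 3, 1, 2, 1, 3, 1, 2, 1, 3, 1, 2, 1, 2, 1, 3, 1, 3, 1, 2, 1, 2, 1, 3, 1, 2, 1, 2, 1, 3, 1, 2, 1, 3, 1, 2, 1, 2, 1, 3, 1, 3, 1, 2, 1, 12]) (.leaf 58 51 [10, 9, 11, 8, 8, 11, 4, 7, 4, 4, 4, 4, 6, 5, 2, 1, 2, 1, 3, 1, 3, 1, 2, 1, 3, 1, 3, 1, 2, 1, 3, 1, 2, 1, 3, 1, 2, 1, 3, 1, 3, 1, 2, 1, 2, 1, 3, 1, 2, 1, 2, 1, 3, 1, 2, 1, 3, 1, 3, 1, 3, 14, 14, 8, 8]))))))) (.node 392 (.node 383 (.node 379 (.node 377 (.node 376 (.leaf 6 3 [9, 10, 8, 11, 8, 10, 14, 10, 8, 10]) (.leaf 92 61 [10, 8, 8, 11, 4, 4, 4, 7, 7, 5, 6, 6, 1, 3, 1, 2, 1, 2, 1, 3, 1, 2, 1, 3, 1, 2, 1, 2, 1, 3, 1, 3, 1, 2, 1, 3, 1, 2, 1, 3, 1, 3, 1, 2, 1, 3, 1, 2, 1, 3, 1, 3, 1, 2, 1, 3, 1, 2, 1, 3, 1, 2, 1, 2, 1, 3, 1, 2, 12, 14, 14, 9, 10])) (.node 378 (.leaf 15 34 [11, 8, 11, 6, 4, 7, 4, 7, 5, 6, 1, 2, 1, 2, 1, 3, 1, 2, 1, 3, 1, 3, 1, 2, 1, 3, 1, 2, 1, 2, 1, 3, 1, 2, 1, 3, 1, 2, 13, 13, 9, 10, 10, 9]) (.leaf 37 52 [8, 8, 4, 4, 6, 4, 6, 4, 1, 3, 1, 2, 1, 3, 1, 2, 1, 3, 1, 3, 1, 2, 1, 3, 1, 2, 1, 3, 1, 2, 1, 3, 1, 2, 1, 3, 1, 3, 1, 2, 1, 2, 1, 3, 1, 2, 1, 2, 1, 3, 1, 2, 12, 13, 9, 10, 10, 9, 10, 10]))) (.node 381 (.node 380 (.leaf 59 32 [2, 1, 2, 1, 3, 1, 3, 1, 2, 1, 2, 1, 3, 1, 2, 1, 13, 8, 10, 10, 9, 11, 5, 7, 5, 6, 5, 5, 2, 1, 2, 1, 3, 1, 2, 1, 2, 1, 3, 1, 2, 1, 3, 1, 2, 1, 3, 1, 2, 1, 3, 1, 2, 1, 2, 1, 3, 1, 3, 1]) (.leaf 65 56 [10, 8, 4, 4, 4, 7, 5, 6, 2, 1, 2, 1, 3, 1, 2, 1, 3, 1, 2, 1, 2, 1, 3, 1, 2, 1, 3, 1, 3, 1, 2, 1, 2, 1, 3, 1, 3, 1, 2, 1, 3, 1, 2, 1, 2, 1, 3, 1, 3, 1, 2, 1, 2, 1, 3, 1, 2, 12, 13, 13, 9, 10, 9, 10])) (.node 382 (.leaf 29 49 [9, 4, 4, 7, 5, 6, 5, 7, 2, 1, 2, 1, 2, 1, 3, 1, 3, 1, 2, 1, 3, 1, 2, 1, 2, 1, 3, 1, 2, 1, 3, 1, 2, 1, 3, 1, 2, 1, 3, 1, 2, 1, 3, 1, 3, 1, 2, 1, 2, 1, 12, 14, 11, 8, 11, 8, 10]) (.leaf 85 53 [14, 14, 10, 10, 9, 10, 9, 10, 9, 4, 7, 5, 6, 5, 7, 4, 2, 1, 3, 1, 3, 1, 2, 1, 3, 1, 2, 1, 2, 1, 3, 1, 2, 1, 3, 1, 3, 1, 2, 1, 3, 1, 2, 1, 3, 1, 3, 1, 2, 1, 2, 1, 3, 1, 2, 1, 2, 1, 3, 1, 3, 1, 2, 1, 3, 1, 2, 1, 3])))) (.node 387 (.node 385 (.node 384 (.leaf 56 36 [1, 3, 1, 2, 1, 2, 1, 3, 1, 3, 1, 12, 13, 12, 9, 11, 8, 10, 10, 6, 6, 4, 6, 6, 1, 3, 1, 2, 1, 2, 1, 3, 1, 2, 1, 3, 1, 2, 1, 3, 1, 2, 1, 3, 1, 3, 1, 2, 1, 2, 1, 3, 1, 3, 1, 2, 1, 3, 1, 2]) (.leaf 86 61 [8, 4, 7, 4, 7, 4, 7, 7, 1, 2, 1, 3, 1, 3, 1, 2, 1, 2, 1, 3, 1, 2, 1, 3, 1, 2, 1, 2, 1, 3, 1, 3, 1, 2, 1, 2, 1, 3, 1, 2, 1, 3, 1, 2, 1, 3, 1, 3, 1, 2, 1, 3, 1, 2, 1, 3, 1, 2, 1, 3, 1, 2, 12, 14, 9, 11, 8, 11, 8])) (.node 386 (.leaf 29 55 [5, 7, 2, 1, 2, 1, 2, 1, 3, 1, 3, 1, 2, 1, 3, 1, 2, 1, 2, 1, 3, 1, 2, 1, 3, 1, 2, 1, 3, 1, 2, 1, 3, 1, 2, 1, 3, 1, 3, 1, 2, 1, 2, 1, 12, 14, 11, 8, 11, 8, 10, 9, 4, 4, 7, 5, 6]) (.leaf 6 1 [8, 10, 9, 10, 8, 11, 8, 10, 14, 10]))) (.node 389 (.node 388 (.leaf 44 47 [10, 10, 9, 10, 10, 4, 4, 6, 6, 4, 2, 1, 3, 1, 3, 1, 2, 1, 2, 1, 3, 1, 2, 1, 3, 1, 2, 1, 3, 1, 2, 1, 2, 1, 3, 1, 2, 1, 3, 1, 2, 1, 3, 1, 2, 1, 3, 1, 2, 1, 2, 1, 3, 1, 12, 14, 12]) (.leaf 59 52 [9, 11, 5, 7, 5, 6, 5, 5, 2, 1, 2, 1, 3, 1, 2, 1, 2, 1, 3, 1, 2, 1, 3, 1, 2, 1, 3, 1, 2, 1, 3, 1, 2, 1, 2, 1, 3, 1, 3, 1, 2, 1, 2, 1, 3, 1, 3, 1, 2, 1, 2, 1, 3, 1, 2, 1, 13, 8, 10, 10])) (.node 390 (.leaf 75 58 [10, 10, 8, 11, 6, 6, 5, 7, 7, 5, 2, 1, 2, 1, 3, 1, 2, 1, 3, 1, 3, 1, 2, 1, 2, 1, 3, 1, 3, 1, 2, 1, 3, 1, 2, 1, 2, 1, 3, 1, 2, 1, 3, 1, 3, 1, 2, 1, 2, 1, 3, 1, 2, 1, 3, 1, 3, 1, 2, 1, 3, 1, 12, 14, 12, 8, 11, 8]) (.node 391 (.leaf 43 53 [10, 8, 6, 5, 6, 4, 7, 4, 7, 7, 2, 1, 2, 1, 3, 1, 2, 1, 3, 1, 3, 1, 2, 1, 3, 1, 2, 1, 3, 1, 3, 1, 2, 1, 2, 1, 3, 1, 3, 1, 2, 1, 2, 1, 3, 1, 2, 1, 3, 1, 2, 1, 3, 1, 12, 13, 12, 8, 10, 10, 8, 8, 10]) (.leaf 16 38 [8, 8, 11, 7, 7, 7, 4, 6, 5, 5, 3, 1, 2, 1, 2, 1, 3, 1, 2, 1, 3, 1, 2, 1, 2, 1, 3, 1, 3, 1, 2, 1, 2, 1, 3, 1, 2, 1, 2, 1, 3, 12, 13, 12, 13, 8, 8, 10])))))) (.node 401 (.node 396 (.node 394 (.node 393 (.leaf 78 0 [2, 1, 3, 1, 2, 1, 2, 1, 3, 1, 3, 1, 2, 1, 3, 1, 2, 1, 3, 1, 2, 1, 3, 1, 2, 1, 3, 1, 2, 1, 3, 1, 3, 1, 2, 1, 3, 1, 2, 1, 3, 1, 3, 1, 2, 1, 2, 1, 3, 1, 2, 1, 13, 8, 10, 10, 9, 11, 5, 7, 5, 6, 5, 5]) (.leaf 31 31 [2, 1, 3, 1, 2, 1, 3, 1, 3, 1, 2, 12, 10, 10, 8, 11, 9, 10, 4, 4, 6, 5, 5, 1, 3, 1, 2, 1, 3, 1, 2, 1, 2, 1, 3, 1, 3, 1, 2, 1, 3, 1, 3, 1, 2, 1, 2, 1, 3, 1, 3, 1, 2, 1])) (.node 395 (.leaf 34 52 [7, 5, 6, 5, 5, 5, 6, 1, 3, 1, 2, 1, 3, 1, 2, 1, 3, 1, 2, 1, 3, 1, 2, 1, 3, 1, 3, 1, 2, 1, 2, 1, 3, 1, 3, 1, 2, 1, 2, 1, 3, 1, 2, 1, 3, 1, 2, 1, 2, 1, 12, 10, 10, 8, 11, 8, 11, 8, 5]) (.leaf 54 46 [13, 12, 8, 8, 11, 9, 10, 8, 10, 5, 7, 5, 5, 6, 4, 7, 5, 2, 1, 2, 1, 2, 1, 3, 1, 2, 1, 3, 1, 2, 1, 3, 1, 2, 1, 2, 1, 3, 1, 2, 1, 3, 1, 3, 1, 2, 1, 2, 1, 3, 1, 2, 1, 2, 1, 3, 1, 3, 1, 2, 1, 3, 1]))) (.node 398 (.node 397 (.leaf 35 43 [12, 13, 8, 10, 10, 9, 11, 8, 11, 8, 4, 4, 7, 4, 6, 6, 5, 2, 1, 3, 1, 2, 1, 3, 1, 2, 1, 3, 1, 3, 1, 2, 1, 3, 1, 2, 1, 3, 1, 3, 1, 2, 1, 3, 1, 2, 1, 3, 1, 3, 1, 2, 1, 3, 1, 2, 1, 3, 1, 2]) (.leaf 81 10 [2, 1, 3, 1, 2, 1, 3, 1, 3, 1, 2, 1, 3, 1, 3, 1, 2, 1, 2, 1, 3, 1, 2, 1, 2, 1, 3, 1, 2, 1, 3, 1, 2, 1, 3, 1, 2, 1, 3, 1, 3, 1, 3, 12, 14, 12, 8, 10, 10, 9, 11, 8, 11, 8, 5, 5, 7, 5, 5, 7, 7, 4, 3, 1, 2, 1, 2, 1, 3, 1, 3, 1])) (.node 399 (.leaf 34 50 [8, 5, 7, 5, 6, 5, 5, 5, 6, 1, 3, 1, 2, 1, 3, 1, 2, 1, 3, 1, 2, 1, 3, 1, 2, 1, 3, 1, 3, 1, 2, 1, 2, 1, 3, 1, 3, 1, 2, 1, 2, 1, 3, 1, 2, 1, 3, 1, 2, 1, 2, 1, 12, 10, 10, 8, 11, 8, 11]) (.node 400 (.leaf 49 48 [8, 11, 8, 11, 5, 5, 7, 7, 7, 5, 7, 1, 3, 1, 2, 1, 3, 1, 2, 1, 3, 1, 2, 1, 2, 1, 3, 1, 3, 1, 2, 1, 2, 1, 3, 1, 2, 1, 2, 1, 3, 1, 2, 1, 3, 1, 2, 1, 2, 1, 3, 1, 3, 1, 2, 1, 12, 14, 10]) (.leaf 37 50 [10, 10, 8, 8, 4, 4, 6, 4, 6, 4, 1, 3, 1, 2, 1, 3, 1, 2, 1, 3, 1, 3, 1, 2, 1, 3, 1, 2, 1, 3, 1, 2, 1, 3, 1, 2, 1, 3, 1, 3, 1, 2, 1, 2, 1, 3, 1, 2, 1, 2, 1, 3, 1, 2, 12, 13, 9, 10, 10, 9]))))) (.node 405 (.node 403 (.node 402 (.leaf 63 59 [5, 7, 7, 2, 1, 2, 1, 2, 1, 3, 1, 3, 1, 2, 1, 2, 1, 3, 1, 2, 1, 3, 1, 3, 1, 2, 1, 2, 1, 3, 1, 2, 1, 2, 1, 3, 1, 2, 1, 3, 1, 3, 1, 2, 1, 2, 1, 3, 1, 3, 1, 3, 14, 14, 8, 11, 8, 10, 8, 4, 7, 7]) (.leaf 70 46 [2, 1, 3, 1, 3, 14, 9, 10, 10, 8, 10, 9, 10, 9, 5, 6, 5, 7, 5, 5, 7, 5, 2, 1, 2, 1, 2, 1, 3, 1, 2, 1, 3, 1, 3, 1, 2, 1, 2, 1, 3, 1, 2, 1, 3, 1, 2, 1, 3, 1, 2, 1, 2, 1, 3, 1, 3, 1, 2, 1, 3, 1, 2, 1, 3, 1, 3, 1])) (.node 404 (.leaf 31 45 [8, 11, 9, 10, 4, 4, 6, 5, 5, 1, 3, 1, 2, 1, 3, 1, 2, 1, 2, 1, 3, 1, 3, 1, 2, 1, 3, 1, 3, 1, 2, 1, 2, 1, 3, 1, 3, 1, 2, 1, 2, 1, 3, 1, 2, 1, 3, 1, 3, 1, 2, 12, 10, 10]) (.leaf 23 45 [10, 9, 11, 8, 8, 4, 6, 6, 5, 6, 2, 1, 3, 1, 2, 1, 3, 1, 2, 1, 3, 1, 2, 1, 3, 1, 3, 1, 2, 1, 3, 1, 2, 1, 3, 1, 3, 1, 2, 1, 2, 1, 3, 1, 3, 1, 2, 1, 3, 13, 12, 13, 8, 10, 8]))) (.node 407 (.node 406 (.leaf 77 60 [4, 6, 5, 7, 5, 5, 6, 1, 2, 1, 3, 1, 2, 1, 3, 1, 2, 1, 2, 1, 3, 1, 2, 1, 3, 1, 3, 1, 2, 1, 2, 1, 3, 1, 2, 1, 3, 1, 3, 1, 2, 1, 3, 1, 2, 1, 3, 1, 3, 1, 2, 1, 3, 1, 2, 1, 2, 1, 3, 12, 8, 8, 10, 9, 10, 10, 6]) (.leaf 34 44 [10, 10, 8, 11, 8, 11, 8, 5, 7, 5, 6, 5, 5, 5, 6, 1, 3, 1, 2, 1, 3, 1, 2, 1, 3, 1, 2, 1, 3, 1, 2, 1, 3, 1, 3, 1, 2, 1, 2, 1, 3, 1, 3, 1, 2, 1, 2, 1, 3, 1, 2, 1, 3, 1, 2, 1, 2, 1, 12])) (.node 408 (.leaf 68 67 [7, 1, 3, 1, 3, 1, 2, 1, 3, 1, 2, 1, 3, 1, 2, 1, 3, 1, 2, 1, 3, 1, 2, 1, 3, 1, 2, 1, 3, 1, 3, 1, 2, 1, 2, 1, 3, 1, 2, 1, 2, 1, 3, 1, 3, 1, 2, 1, 2, 1, 3, 12, 8, 10, 9, 11, 8, 11, 8, 10, 10, 5, 5, 6, 6, 5, 7, 7]) (.node 409 (.leaf 77 53 [8, 8, 10, 9, 10, 10, 6, 4, 6, 5, 7, 5, 5, 6, 1, 2, 1, 3, 1, 2, 1, 3, 1, 2, 1, 2, 1, 3, 1, 2, 1, 3, 1, 3, 1, 2, 1, 2, 1, 3, 1, 2, 1, 3, 1, 3, 1, 2, 1, 3, 1, 2, 1, 3, 1, 3, 1, 2, 1, 3, 1, 2, 1, 2, 1, 3, 12]) (.leaf 67 49 [13, 13, 8, 8, 11, 9, 10, 8, 10, 5, 7, 4, 7, 1, 3, 1, 2, 1, 2, 1, 3, 1, 3, 1, 2, 1, 3, 1, 2, 1, 3, 1, 2, 1, 2, 1, 3, 1, 2, 1, 3, 1, 2, 1, 3, 1, 2, 1, 3, 1, 2, 1, 3, 1, 2, 1, 2, 1, 3, 1, 3, 1]))))))))) (.node 478 (.node 444 (.node 427 (.node 418 (.node 414 (.node 412 (.node 411 (.leaf 15 43 [6, 1, 2, 1, 2, 1, 3, 1, 2, 1, 3, 1, 3, 1, 2, 1, 3, 1, 2, 1, 2, 1, 3, 1, 2, 1, 3, 1, 2, 13, 13, 9, 10, 10, 9, 11, 8, 11, 6, 4, 7, 4, 7, 5]) (.leaf 46 46 [13, 8, 10, 10, 8, 11, 8, 6, 6, 5, 5, 7, 7, 5, 2, 1, 2, 1, 3, 1, 3, 1, 2, 1, 3, 1, 2, 1, 2, 1, 3, 1, 2, 1, 3, 1, 2, 1, 3, 1, 2, 1, 3, 1, 3, 1, 2, 1, 2, 1, 3, 1, 3, 1, 2, 1, 3, 1, 3, 13])) (.node 413 (.leaf 31 50 [4, 6, 5, 5, 1, 3, 1, 2, 1, 3, 1, 2, 1, 2, 1, 3, 1, 3, 1, 2, 1, 3, 1, 3, 1, 2, 1, 2, 1, 3, 1, 3, 1, 2, 1, 2, 1, 3, 1, 2, 1, 3, 1, 3, 1, 2, 12, 10, 10, 8, 11, 9, 10, 4]) (.leaf 43 44 [12, 13, 12, 8, 10, 10, 8, 8, 10, 10, 8, 6, 5, 6, 4, 7, 4, 7, 7, 2, 1, 2, 1, 3, 1, 2, 1, 3, 1, 3, 1, 2, 1, 3, 1, 2, 1, 3, 1, 3, 1, 2, 1, 2, 1, 3, 1, 3, 1, 2, 1, 2, 1, 3, 1, 2, 1, 3, 1, 2, 1, 3, 1]))) (.node 416 (.node 415 (.leaf 50 51 [10, 7, 7, 7, 4, 6, 4, 7, 3, 1, 2, 1, 3, 1, 3, 1, 2, 1, 3, 1, 2, 1, 2, 1, 3, 1, 2, 1, 3, 1, 2, 1, 3, 1, 2, 1, 3, 1, 2, 1, 3, 1, 2, 1, 3, 1, 2, 1, 3, 1, 3, 1, 3, 12, 13, 12, 9, 10, 9]) (.leaf 20 46 [11, 5, 5, 5, 6, 6, 4, 4, 3, 1, 2, 1, 3, 1, 2, 1, 2, 1, 3, 1, 2, 1, 3, 1, 3, 1, 2, 1, 2, 1, 3, 1, 2, 1, 3, 1, 3, 1, 2, 1, 2, 1, 3, 1, 3, 12, 13, 11, 8, 10, 10, 9, 11, 8])) (.node 417 (.leaf 23 39 [13, 12, 13, 8, 10, 8, 10, 9, 11, 8, 8, 4, 6, 6, 5, 6, 2, 1, 3, 1, 2, 1, 3, 1, 2, 1, 3, 1, 2, 1, 3, 1, 3, 1, 2, 1, 3, 1, 2, 1, 3, 1, 3, 1, 2, 1, 2, 1, 3, 1, 3, 1, 2, 1, 3]) (.leaf 41 49 [11, 8, 8, 11, 9, 10, 5, 7, 4, 6, 6, 5, 6, 1, 3, 1, 2, 1, 2, 1, 3, 1, 2, 1, 3, 1, 3, 1, 2, 1, 2, 1, 3, 1, 2, 1, 3, 1, 2, 1, 3, 1, 2, 1, 2, 1, 3, 1, 3, 1, 2, 1, 2, 1, 3, 1, 3, 12, 13, 12, 13, 8])))) (.node 422 (.node 420 (.node 419 (.leaf 25 45 [8, 10, 10, 6, 6, 6, 5, 6, 4, 3, 1, 2, 1, 3, 1, 2, 1, 2, 1, 3, 1, 3, 1, 2, 1, 3, 1, 2, 1, 2, 1, 3, 1, 2, 1, 2, 1, 3, 1, 2, 1, 3, 1, 3, 1, 2, 1, 2, 1, 2, 11, 8, 10, 10]) (.leaf 62 49 [12, 9, 10, 8, 10, 10, 8, 5, 5, 7, 5, 5, 7, 1, 3, 1, 2, 1, 3, 1, 2, 1, 2, 1, 3, 1, 2, 1, 3, 1, 2, 1, 3, 1, 2, 1, 3, 1, 2, 1, 2, 1, 3, 1, 3, 1, 2, 1, 2, 1, 3, 1, 2, 1, 2, 1, 3, 1, 2, 1, 3, 13])) (.node 421 (.leaf 25 50 [6, 5, 6, 4, 3, 1, 2, 1, 3, 1, 2, 1, 2, 1, 3, 1, 3, 1, 2, 1, 3, 1, 2, 1, 2, 1, 3, 1, 2, 1, 2, 1, 3, 1, 2, 1, 3, 1, 3, 1, 2, 1, 2, 1, 2, 11, 8, 10, 10, 8, 10, 10, 6, 6]) (.leaf 29 43 [14, 11, 8, 11, 8, 10, 9, 4, 4, 7, 5, 6, 5, 7, 2, 1, 2, 1, 2, 1, 3, 1, 3, 1, 2, 1, 3, 1, 2, 1, 2, 1, 3, 1, 2, 1, 3, 1, 2, 1, 3, 1, 2, 1, 3, 1, 2, 1, 3, 1, 3, 1, 2, 1, 2, 1, 12]))) (.node 424 (.node 423 (.leaf 52 54 [6, 4, 6, 5, 7, 7, 2, 1, 2, 1, 3, 1, 3, 1, 2, 1, 3, 1, 3, 1, 2, 1, 2, 1, 3, 1, 3, 1, 2, 1, 3, 1, 2, 1, 3, 1, 3, 1, 2, 1, 3, 1, 2, 1, 3, 1, 3, 1, 2, 1, 2, 1, 14, 11, 8, 11, 8, 10, 9, 11]) (.leaf 85 55 [10, 10, 9, 10, 9, 10, 9, 4, 7, 5, 6, 5, 7, 4, 2, 1, 3, 1, 3, 1, 2, 1, 3, 1, 2, 1, 2, 1, 3, 1, 2, 1, 3, 1, 3, 1, 2, 1, 3, 1, 2, 1, 3, 1, 3, 1, 2, 1, 2, 1, 3, 1, 2, 1, 2, 1, 3, 1, 3, 1, 2, 1, 3, 1, 2, 1, 3, 14, 14])) (.node 425 (.leaf 85 54 [14, 10, 10, 9, 10, 9, 10, 9, 4, 7, 5, 6, 5, 7, 4, 2, 1, 3, 1, 3, 1, 2, 1, 3, 1, 2, 1, 2, 1, 3, 1, 2, 1, 3, 1, 3, 1, 2, 1, 3, 1, 2, 1, 3, 1, 3, 1, 2, 1, 2, 1, 3, 1, 2, 1, 2, 1, 3, 1, 3, 1, 2, 1, 3, 1, 2, 1, 3, 14]) (.node 426 (.leaf 25 46 [10, 10, 6, 6, 6, 5, 6, 4, 3, 1, 2, 1, 3, 1, 2, 1, 2, 1, 3, 1, 3, 1, 2, 1, 3, 1, 2, 1, 2, 1, 3, 1, 2, 1, 2, 1, 3, 1, 2, 1, 3, 1, 3, 1, 2, 1, 2, 1, 2, 11, 8, 10, 10, 8]) (.leaf 34 49 [11, 8, 5, 7, 5, 6, 5, 5, 5, 6, 1, 3, 1, 2, 1, 3, 1, 2, 1, 3, 1, 2, 1, 3, 1, 2, 1, 3, 1, 3, 1, 2, 1, 2, 1, 3, 1, 3, 1, 2, 1, 2, 1, 3, 1, 2, 1, 3, 1, 2, 1, 2, 1, 12, 10, 10, 8, 11, 8])))))) (.node 435 (.node 431 (.node 429 (.node 428 (.leaf 82 60 [9, 4, 7, 5, 5, 7, 7, 7, 5, 1, 3, 1, 2, 1, 3, 1, 3, 1, 2, 1, 3, 1, 2, 1, 3, 1, 2, 1, 2, 1, 3, 1, 2, 1, 3, 1, 2, 1, 3, 1, 2, 1, 3, 1, 3, 1, 2, 1, 2, 1, 3, 1, 2, 1, 3, 1, 3, 1, 2, 1, 2, 1, 13, 12, 10, 8, 11, 9, 10]) (.leaf 15 29 [13, 9, 10, 10, 9, 11, 8, 11, 6, 4, 7, 4, 7, 5, 6, 1, 2, 1, 2, 1, 3, 1, 2, 1, 3, 1, 3, 1, 2, 1, 3, 1, 2, 1, 2, 1, 3, 1, 2, 1, 3, 1, 2, 13])) (.node 430 (.leaf 89 56 [8, 11, 9, 10, 9, 10, 10, 8, 10, 5, 6, 5, 7, 5, 6, 4, 1, 3, 1, 2, 1, 3, 1, 2, 1, 3, 1, 3, 1, 2, 1, 3, 1, 3, 1, 2, 1, 2, 1, 3, 1, 3, 1, 2, 1, 3, 1, 2, 1, 2, 1, 3, 1, 3, 1, 2, 1, 2, 1, 3, 1, 2, 1, 3, 1, 3, 1, 2, 1, 2, 1, 13]) (.leaf 35 44 [13, 8, 10, 10, 9, 11, 8, 11, 8, 4, 4, 7, 4, 6, 6, 5, 2, 1, 3, 1, 2, 1, 3, 1, 2, 1, 3, 1, 3, 1, 2, 1, 3, 1, 2, 1, 3, 1, 3, 1, 2, 1, 3, 1, 2, 1, 3, 1, 3, 1, 2, 1, 3, 1, 2, 1, 3, 1, 2, 12]))) (.node 433 (.node 432 (.leaf 55 48 [10, 8, 8, 10, 10, 9, 11, 8, 10, 4, 4, 7, 7, 5, 1, 3, 1, 3, 1, 2, 1, 2, 1, 3, 1, 3, 1, 2, 1, 3, 1, 2, 1, 2, 1, 3, 1, 2, 1, 3, 1, 3, 1, 2, 1, 3, 1, 2, 1, 3, 1, 2, 1, 3, 1, 2, 1, 3, 1, 2, 1, 12]) (.leaf 85 56 [10, 9, 10, 9, 10, 9, 4, 7, 5, 6, 5, 7, 4, 2, 1, 3, 1, 3, 1, 2, 1, 3, 1, 2, 1, 2, 1, 3, 1, 2, 1, 3, 1, 3, 1, 2, 1, 3, 1, 2, 1, 3, 1, 3, 1, 2, 1, 2, 1, 3, 1, 2, 1, 2, 1, 3, 1, 3, 1, 2, 1, 3, 1, 2, 1, 3, 14, 14, 10])) (.node 434 (.leaf 88 62 [11, 9, 4, 7, 4, 6, 6, 6, 5, 2, 1, 2, 1, 2, 1, 3, 1, 3, 1, 2, 1, 3, 1, 3, 1, 2, 1, 3, 1, 2, 1, 3, 1, 3, 1, 2, 1, 2, 1, 3, 1, 2, 1, 2, 1, 3, 1, 2, 1, 3, 1, 2, 1, 3, 1, 2, 1, 3, 1, 2, 1, 3, 1, 2, 10, 9, 10, 9, 11, 8, 8]) (.leaf 19 49 [6, 5, 1, 2, 1, 3, 1, 2, 1, 2, 1, 3, 1, 3, 1, 2, 1, 2, 1, 3, 1, 3, 1, 2, 1, 3, 1, 2, 1, 3, 1, 2, 1, 3, 1, 2, 1, 3, 1, 13, 12, 13, 10, 9, 10, 8, 11, 5, 5, 6, 6])))) (.node 439 (.node 437 (.node 436 (.leaf 29 53 [5, 6, 5, 7, 2, 1, 2, 1, 2, 1, 3, 1, 3, 1, 2, 1, 3, 1, 2, 1, 2, 1, 3, 1, 2, 1, 3, 1, 2, 1, 3, 1, 2, 1, 3, 1, 2, 1, 3, 1, 3, 1, 2, 1, 2, 1, 12, 14, 11, 8, 11, 8, 10, 9, 4, 4, 7]) (.leaf 75 61 [11, 6, 6, 5, 7, 7, 5, 2, 1, 2, 1, 3, 1, 2, 1, 3, 1, 3, 1, 2, 1, 2, 1, 3, 1, 3, 1, 2, 1, 3, 1, 2, 1, 2, 1, 3, 1, 2, 1, 3, 1, 3, 1, 2, 1, 2, 1, 3, 1, 2, 1, 3, 1, 3, 1, 2, 1, 3, 1, 12, 14, 12, 8, 11, 8, 10, 10, 8])) (.node 438 (.leaf 62 50 [9, 10, 8, 10, 10, 8, 5, 5, 7, 5, 5, 7, 1, 3, 1, 2, 1, 3, 1, 2, 1, 2, 1, 3, 1, 2, 1, 3, 1, 2, 1, 3, 1, 2, 1, 3, 1, 2, 1, 2, 1, 3, 1, 3, 1, 2, 1, 2, 1, 3, 1, 2, 1, 2, 1, 3, 1, 2, 1, 3, 13, 12]) (.leaf 90 20 [3, 1, 3, 1, 2, 1, 2, 1, 3, 1, 2, 1, 3, 1, 2, 1, 3, 1, 3, 1, 2, 1, 3, 1, 2, 1, 3, 1, 2, 1, 3, 1, 2, 1, 3, 13, 9, 11, 9, 10, 4, 7, 5, 5, 7, 7, 7, 2, 1, 3, 1, 2, 1, 3, 1, 2, 1, 2, 1, 3, 1, 2, 1, 3, 1, 2, 1]))) (.node 441 (.node 440 (.leaf 30 56 [5, 7, 4, 7, 1, 2, 1, 3, 1, 2, 1, 3, 1, 2, 1, 2, 1, 3, 1, 3, 1, 2, 1, 3, 1, 2, 1, 3, 1, 2, 1, 3, 1, 2, 1, 3, 1, 2, 1, 2, 1, 3, 1, 3, 1, 2, 12, 14, 14, 8, 8, 10, 8, 11, 9, 11, 4, 6, 6, 6]) (.leaf 33 45 [8, 8, 11, 8, 10, 8, 11, 6, 5, 7, 7, 5, 7, 4, 2, 1, 3, 1, 2, 1, 3, 1, 3, 1, 2, 1, 3, 1, 2, 1, 3, 1, 2, 1, 3, 1, 2, 1, 2, 1, 3, 1, 3, 1, 2, 1, 3, 1, 2, 1, 2, 1, 3, 1, 2, 1, 3, 12, 14])) (.node 442 (.leaf 29 47 [8, 10, 9, 4, 4, 7, 5, 6, 5, 7, 2, 1, 2, 1, 2, 1, 3, 1, 3, 1, 2, 1, 3, 1, 2, 1, 2, 1, 3, 1, 2, 1, 3, 1, 2, 1, 3, 1, 2, 1, 3, 1, 2, 1, 3, 1, 3, 1, 2, 1, 2, 1, 12, 14, 11, 8, 11]) (.node 443 (.leaf 24 43 [13, 8, 10, 8, 10, 10, 9, 10, 9, 10, 4, 7, 5, 5, 6, 6, 6, 6, 1, 3, 1, 3, 1, 2, 1, 3, 1, 3, 1, 2, 1, 2, 1, 3, 1, 2, 1, 3, 1, 2, 1, 3, 1, 3, 1, 2, 1, 3, 1, 2, 1, 3, 1, 2, 1, 2, 1, 3, 1, 13, 12]) (.leaf 70 54 [10, 8, 10, 9, 10, 9, 5, 6, 5, 7, 5, 5, 7, 5, 2, 1, 2, 1, 2, 1, 3, 1, 2, 1, 3, 1, 3, 1, 2, 1, 2, 1, 3, 1, 2, 1, 3, 1, 2, 1, 3, 1, 2, 1, 2, 1, 3, 1, 3, 1, 2, 1, 3, 1, 2, 1, 3, 1, 3, 1, 2, 1, 3, 1, 3, 14, 9, 10]))))))) (.node 461 (.node 452 (.node 448 (.node 446 (.node 445 (.leaf 89 14 [1, 3, 1, 3, 1, 2, 1, 2, 1, 3, 1, 3, 1, 2, 1, 3, 1, 2, 1, 2, 1, 3, 1, 3, 1, 2, 1, 2, 1, 3, 1, 2, 1, 3, 1, 3, 1, 2, 1, 2, 1, 13, 8, 11, 9, 10, 9, 10, 10, 8, 10, 5, 6, 5, 7, 5, 6, 4, 1, 3, 1, 2, 1, 3, 1, 2, 1, 3, 1, 3, 1, 2]) (.leaf 69 61 [11, 6, 5, 6, 5, 5, 5, 7, 7, 3, 1, 3, 1, 2, 1, 2, 1, 3, 1, 2, 1, 3, 1, 2, 1, 2, 1, 3, 1, 3, 1, 2, 1, 3, 1, 2, 1, 2, 1, 3, 1, 2, 1, 3, 1, 2, 1, 2, 1, 3, 1, 3, 1, 2, 1, 2, 1, 3, 1, 2, 12, 14, 12, 9, 10, 10, 9, 11, 8, 8])) (.node 447 (.leaf 74 52 [13, 9, 11, 8, 10, 10, 8, 11, 4, 4, 7, 4, 7, 4, 1, 3, 1, 3, 1, 2, 1, 2, 1, 3, 1, 3, 1, 2, 1, 2, 1, 3, 1, 2, 1, 3, 1, 2, 1, 2, 1, 3, 1, 2, 1, 3, 1, 3, 1, 2, 1, 3, 1, 2, 1, 3, 1, 2, 1, 3, 1, 2, 1, 2, 1, 12]) (.leaf 86 63 [7, 4, 7, 4, 7, 7, 1, 2, 1, 3, 1, 3, 1, 2, 1, 2, 1, 3, 1, 2, 1, 3, 1, 2, 1, 2, 1, 3, 1, 3, 1, 2, 1, 2, 1, 3, 1, 2, 1, 3, 1, 2, 1, 3, 1, 3, 1, 2, 1, 3, 1, 2, 1, 3, 1, 2, 1, 3, 1, 2, 12, 14, 9, 11, 8, 11, 8, 8, 4]))) (.node 450 (.node 449 (.leaf 29 44 [11, 8, 11, 8, 10, 9, 4, 4, 7, 5, 6, 5, 7, 2, 1, 2, 1, 2, 1, 3, 1, 3, 1, 2, 1, 3, 1, 2, 1, 2, 1, 3, 1, 2, 1, 3, 1, 2, 1, 3, 1, 2, 1, 3, 1, 2, 1, 3, 1, 3, 1, 2, 1, 2, 1, 12, 14]) (.leaf 81 57 [10, 10, 9, 11, 8, 11, 8, 5, 5, 7, 5, 5, 7, 7, 4, 3, 1, 2, 1, 2, 1, 3, 1, 3, 1, 2, 1, 3, 1, 2, 1, 3, 1, 3, 1, 2, 1, 3, 1, 3, 1, 2, 1, 2, 1, 3, 1, 2, 1, 2, 1, 3, 1, 2, 1, 3, 1, 2, 1, 3, 1, 2, 1, 3, 1, 3, 1, 3, 12, 14, 12, 8])) (.node 451 (.leaf 21 40 [12, 10, 8, 11, 9, 10, 9, 10, 9, 7, 7, 7, 5, 6, 6, 5, 2, 1, 3, 1, 2, 1, 2, 1, 3, 1, 2, 1, 3, 1, 2, 1, 3, 1, 2, 1, 3, 1, 3, 1, 2, 1, 2, 1, 3, 1, 2, 1, 2, 1, 3, 1, 3, 1, 12, 13]) (.leaf 30 51 [11, 4, 6, 6, 6, 5, 7, 4, 7, 1, 2, 1, 3, 1, 2, 1, 3, 1, 2, 1, 2, 1, 3, 1, 3, 1, 2, 1, 3, 1, 2, 1, 3, 1, 2, 1, 3, 1, 2, 1, 3, 1, 2, 1, 2, 1, 3, 1, 3, 1, 2, 12, 14, 14, 8, 8, 10, 8, 11, 9])))) (.node 456 (.node 454 (.node 453 (.leaf 55 53 [9, 11, 8, 10, 4, 4, 7, 7, 5, 1, 3, 1, 3, 1, 2, 1, 2, 1, 3, 1, 3, 1, 2, 1, 3, 1, 2, 1, 2, 1, 3, 1, 2, 1, 3, 1, 3, 1, 2, 1, 3, 1, 2, 1, 3, 1, 2, 1, 3, 1, 2, 1, 3, 1, 2, 1, 12, 10, 8, 8, 10, 10]) (.leaf 27 46 [8, 8, 10, 9, 11, 8, 5, 7, 5, 7, 5, 7, 5, 6, 1, 3, 1, 2, 1, 2, 1, 3, 1, 3, 1, 2, 1, 2, 1, 3, 1, 2, 1, 3, 1, 2, 1, 3, 1, 2, 1, 2, 1, 3, 1, 3, 1, 2, 1, 2, 1, 3, 1, 3, 1, 12, 13, 13, 8, 10])) (.node 455 (.leaf 58 48 [14, 8, 8, 10, 9, 11, 8, 8, 11, 4, 7, 4, 4, 4, 4, 6, 5, 2, 1, 2, 1, 3, 1, 3, 1, 2, 1, 3, 1, 3, 1, 2, 1, 3, 1, 2, 1, 3, 1, 2, 1, 3, 1, 3, 1, 2, 1, 2, 1, 3, 1, 2, 1, 2, 1, 3, 1, 2, 1, 3, 1, 3, 1, 3, 14]) (.leaf 87 7 [3, 1, 2, 1, 3, 1, 2, 1, 3, 1, 3, 1, 2, 1, 3, 1, 2, 1, 3, 1, 2, 1, 3, 1, 3, 1, 2, 1, 3, 1, 3, 1, 2, 1, 3, 1, 2, 1, 3, 1, 3, 1, 2, 1, 2, 1, 3, 1, 12, 11, 8, 11, 8, 11, 9, 5, 7, 4, 7, 4, 6, 5, 1, 2, 1, 3, 1, 2, 1]))) (.node 458 (.node 457 (.leaf 59 49 [8, 10, 10, 9, 11, 5, 7, 5, 6, 5, 5, 2, 1, 2, 1, 3, 1, 2, 1, 2, 1, 3, 1, 2, 1, 3, 1, 2, 1, 3, 1, 2, 1, 3, 1, 2, 1, 2, 1, 3, 1, 3, 1, 2, 1, 2, 1, 3, 1, 3, 1, 2, 1, 2, 1, 3, 1, 2, 1, 13]) (.leaf 78 22 [3, 1, 2, 1, 3, 1, 2, 1, 3, 1, 3, 1, 2, 1, 3, 1, 2, 1, 3, 1, 3, 1, 2, 1, 2, 1, 3, 1, 2, 1, 13, 8, 10, 10, 9, 11, 5, 7, 5, 6, 5, 5, 2, 1, 3, 1, 2, 1, 2, 1, 3, 1, 3, 1, 2, 1, 3, 1, 2, 1, 3, 1, 2, 1])) (.node 459 (.leaf 76 59 [5, 5, 6, 5, 6, 6, 4, 6, 3, 1, 2, 1, 3, 1, 3, 1, 2, 1, 3, 1, 2, 1, 3, 1, 3, 1, 2, 1, 3, 1, 2, 1, 3, 1, 2, 1, 2, 1, 3, 1, 2, 1, 3, 1, 2, 1, 2, 1, 3, 1, 2, 1, 3, 1, 3, 1, 2, 1, 2, 1, 10, 10, 8, 8, 11, 8, 10]) (.node 460 (.leaf 51 10 [1, 3, 1, 2, 1, 2, 1, 3, 1, 2, 1, 3, 1, 2, 1, 3, 1, 2, 1, 2, 1, 3, 1, 2, 1, 3, 1, 2, 1, 2, 1, 3, 1, 3, 1, 3, 8, 8, 10, 9, 10, 9, 11, 9, 4, 6, 6, 6, 5, 6, 6, 1, 3, 1, 2, 1, 3, 1, 2, 1, 3]) (.leaf 82 59 [10, 9, 4, 7, 5, 5, 7, 7, 7, 5, 1, 3, 1, 2, 1, 3, 1, 3, 1, 2, 1, 3, 1, 2, 1, 3, 1, 2, 1, 2, 1, 3, 1, 2, 1, 3, 1, 2, 1, 3, 1, 2, 1, 3, 1, 3, 1, 2, 1, 2, 1, 3, 1, 2, 1, 3, 1, 3, 1, 2, 1, 2, 1, 13, 12, 10, 8, 11, 9])))))) (.node 469 (.node 465 (.node 463 (.node 462 (.leaf 20 37 [12, 13, 11, 8, 10, 10, 9, 11, 8, 11, 5, 5, 5, 6, 6, 4, 4, 3, 1, 2, 1, 3, 1, 2, 1, 2, 1, 3, 1, 2, 1, 3, 1, 3, 1, 2, 1, 2, 1, 3, 1, 2, 1, 3, 1, 3, 1, 2, 1, 2, 1, 3, 1, 3]) (.leaf 27 42 [13, 13, 8, 10, 8, 8, 10, 9, 11, 8, 5, 7, 5, 7, 5, 7, 5, 6, 1, 3, 1, 2, 1, 2, 1, 3, 1, 3, 1, 2, 1, 2, 1, 3, 1, 2, 1, 3, 1, 2, 1, 3, 1, 2, 1, 2, 1, 3, 1, 3, 1, 2, 1, 2, 1, 3, 1, 3, 1, 12])) (.node 464 (.leaf 28 49 [11, 8, 6, 4, 4, 4, 4, 7, 3, 1, 2, 1, 2, 1, 3, 1, 3, 1, 2, 1, 3, 1, 3, 1, 2, 1, 3, 1, 2, 1, 3, 1, 2, 1, 2, 1, 3, 1, 2, 1, 3, 1, 3, 1, 2, 1, 2, 1, 3, 12, 14, 12, 9, 10, 8, 11, 8]) (.leaf 30 42 [12, 14, 14, 8, 8, 10, 8, 11, 9, 11, 4, 6, 6, 6, 5, 7, 4, 7, 1, 2, 1, 3, 1, 2, 1, 3, 1, 2, 1, 2, 1, 3, 1, 3, 1, 2, 1, 3, 1, 2, 1, 3, 1, 2, 1, 3, 1, 2, 1, 3, 1, 2, 1, 2, 1, 3, 1, 3, 1, 2]))) (.node 467 (.node 466 (.leaf 68 35 [3, 1, 2, 1, 2, 1, 3, 1, 3, 1, 2, 1, 2, 1, 3, 12, 8, 10, 9, 11, 8, 11, 8, 10, 10, 5, 5, 6, 6, 5, 7, 7, 7, 1, 3, 1, 3, 1, 2, 1, 3, 1, 2, 1, 3, 1, 2, 1, 3, 1, 2, 1, 3, 1, 2, 1, 3, 1, 2, 1, 3, 1, 3, 1, 2, 1, 2, 1]) (.leaf 78 63 [5, 2, 1, 3, 1, 2, 1, 2, 1, 3, 1, 3, 1, 2, 1, 3, 1, 2, 1, 3, 1, 2, 1, 3, 1, 2, 1, 3, 1, 2, 1, 3, 1, 3, 1, 2, 1, 3, 1, 2, 1, 3, 1, 3, 1, 2, 1, 2, 1, 3, 1, 2, 1, 13, 8, 10, 10, 9, 11, 5, 7, 5, 6, 5])) (.node 468 (.leaf 86 65 [7, 4, 7, 7, 1, 2, 1, 3, 1, 3, 1, 2, 1, 2, 1, 3, 1, 2, 1, 3, 1, 2, 1, 2, 1, 3, 1, 3, 1, 2, 1, 2, 1, 3, 1, 2, 1, 3, 1, 2, 1, 3, 1, 3, 1, 2, 1, 3, 1, 2, 1, 3, 1, 2, 1, 3, 1, 2, 12, 14, 9, 11, 8, 11, 8, 8, 4, 7, 4]) (.leaf 26 43 [12, 10, 8, 8, 10, 9, 11, 8, 11, 9, 4, 7, 4, 7, 4, 7, 7, 4, 2, 1, 2, 1, 3, 1, 3, 1, 2, 1, 3, 1, 2, 1, 3, 1, 2, 1, 3, 1, 2, 1, 3, 1, 2, 1, 2, 1, 3, 1, 2, 1, 3, 1, 3, 1, 2, 1, 3, 1, 3, 12, 13])))) (.node 473 (.node 471 (.node 470 (.leaf 32 45 [11, 9, 10, 9, 11, 8, 6, 4, 6, 5, 6, 5, 1, 3, 1, 2, 1, 3, 1, 3, 1, 2, 1, 3, 1, 3, 1, 2, 1, 2, 1, 3, 1, 2, 1, 3, 1, 2, 1, 3, 1, 2, 1, 2, 1, 3, 1, 3, 1, 2, 1, 3, 1, 3, 13, 12, 8]) (.leaf 34 48 [8, 11, 8, 5, 7, 5, 6, 5, 5, 5, 6, 1, 3, 1, 2, 1, 3, 1, 2, 1, 3, 1, 2, 1, 3, 1, 2, 1, 3, 1, 3, 1, 2, 1, 2, 1, 3, 1, 3, 1, 2, 1, 2, 1, 3, 1, 2, 1, 3, 1, 2, 1, 2, 1, 12, 10, 10, 8, 11])) (.node 472 (.leaf 35 51 [11, 8, 4, 4, 7, 4, 6, 6, 5, 2, 1, 3, 1, 2, 1, 3, 1, 2, 1, 3, 1, 3, 1, 2, 1, 3, 1, 2, 1, 3, 1, 3, 1, 2, 1, 3, 1, 2, 1, 3, 1, 3, 1, 2, 1, 3, 1, 2, 1, 3, 1, 2, 12, 13, 8, 10, 10, 9, 11, 8]) (.leaf 70 62 [5, 7, 5, 5, 7, 5, 2, 1, 2, 1, 2, 1, 3, 1, 2, 1, 3, 1, 3, 1, 2, 1, 2, 1, 3, 1, 2, 1, 3, 1, 2, 1, 3, 1, 2, 1, 2, 1, 3, 1, 3, 1, 2, 1, 3, 1, 2, 1, 3, 1, 3, 1, 2, 1, 3, 1, 3, 14, 9, 10, 10, 8, 10, 9, 10, 9, 5, 6]))) (.node 475 (.node 474 (.leaf 34 47 [11, 8, 11, 8, 5, 7, 5, 6, 5, 5, 5, 6, 1, 3, 1, 2, 1, 3, 1, 2, 1, 3, 1, 2, 1, 3, 1, 2, 1, 3, 1, 3, 1, 2, 1, 2, 1, 3, 1, 3, 1, 2, 1, 2, 1, 3, 1, 2, 1, 3, 1, 2, 1, 2, 1, 12, 10, 10, 8]) (.leaf 47 47 [8, 10, 9, 11, 8, 11, 9, 5, 6, 5, 6, 4, 7, 1, 3, 1, 2, 1, 3, 1, 2, 1, 2, 1, 3, 1, 2, 1, 3, 1, 3, 1, 2, 1, 3, 1, 2, 1, 2, 1, 3, 1, 2, 1, 3, 1, 2, 1, 3, 1, 3, 1, 2, 1, 2, 1, 3, 1, 12, 14])) (.node 476 (.leaf 55 54 [11, 8, 10, 4, 4, 7, 7, 5, 1, 3, 1, 3, 1, 2, 1, 2, 1, 3, 1, 3, 1, 2, 1, 3, 1, 2, 1, 2, 1, 3, 1, 2, 1, 3, 1, 3, 1, 2, 1, 3, 1, 2, 1, 3, 1, 2, 1, 3, 1, 2, 1, 3, 1, 2, 1, 12, 10, 8, 8, 10, 10, 9]) (.node 477 (.leaf 76 55 [8, 11, 8, 10, 5, 5, 6, 5, 6, 6, 4, 6, 3, 1, 2, 1, 3, 1, 3, 1, 2, 1, 3, 1, 2, 1, 3, 1, 3, 1, 2, 1, 3, 1, 2, 1, 3, 1, 2, 1, 2, 1, 3, 1, 2, 1, 3, 1, 2, 1, 2, 1, 3, 1, 2, 1, 3, 1, 3, 1, 2, 1, 2, 1, 10, 10, 8]) (.leaf 84 54 [14, 14, 10, 9, 10, 8, 8, 10, 5, 5, 7, 4, 7, 4, 2, 1, 3, 1, 3, 1, 2, 1, 3, 1, 2, 1, 2, 1, 3, 1, 2, 1, 3, 1, 2, 1, 3, 1, 3, 1, 2, 1, 3, 1, 2, 1, 3, 1, 3, 1, 2, 1, 2, 1, 3, 1, 2, 1, 2, 1, 3, 1, 3, 1, 2, 1, 3, 12])))))))) (.node 512 (.node 495 (.node 486 (.node 482 (.node 480 (.node 479 (.leaf 93 18 [3, 1, 2, 1, 2, 1, 3, 1, 3, 1, 2, 1, 3, 1, 2, 1, 3, 1, 2, 1, 3, 1, 2, 1, 2, 1, 3, 1, 2, 1, 3, 1, 3, 1, 2, 1, 3, 1, 14, 9, 10, 8, 8, 10, 8, 10, 10, 4, 7, 7, 5, 7, 7, 4, 7, 2, 1, 3, 1, 2, 1, 3, 1, 3, 1, 2, 1, 2, 1, 3, 1, 2, 1]) (.leaf 72 61 [7, 7, 7, 7, 5, 7, 2, 1, 2, 1, 2, 1, 3, 1, 2, 1, 3, 1, 3, 1, 2, 1, 3, 1, 2, 1, 2, 1, 3, 1, 2, 1, 3, 1, 3, 1, 2, 1, 3, 1, 2, 1, 3, 1, 2, 1, 2, 1, 3, 1, 3, 1, 2, 1, 2, 1, 3, 13, 12, 10, 10, 8, 11, 9, 10, 8, 5])) (.node 481 (.leaf 56 57 [4, 6, 6, 1, 3, 1, 2, 1, 2, 1, 3, 1, 2, 1, 3, 1, 2, 1, 3, 1, 2, 1, 3, 1, 3, 1, 2, 1, 2, 1, 3, 1, 3, 1, 2, 1, 3, 1, 2, 1, 3, 1, 2, 1, 2, 1, 3, 1, 3, 1, 12, 13, 12, 9, 11, 8, 10, 10, 6, 6]) (.leaf 15 31 [10, 10, 9, 11, 8, 11, 6, 4, 7, 4, 7, 5, 6, 1, 2, 1, 2, 1, 3, 1, 2, 1, 3, 1, 3, 1, 2, 1, 3, 1, 2, 1, 2, 1, 3, 1, 2, 1, 3, 1, 2, 13, 13, 9]))) (.node 484 (.node 483 (.leaf 82 55 [10, 8, 11, 9, 10, 9, 4, 7, 5, 5, 7, 7, 7, 5, 1, 3, 1, 2, 1, 3, 1, 3, 1, 2, 1, 3, 1, 2, 1, 3, 1, 2, 1, 2, 1, 3, 1, 2, 1, 3, 1, 2, 1, 3, 1, 2, 1, 3, 1, 3, 1, 2, 1, 2, 1, 3, 1, 2, 1, 3, 1, 3, 1, 2, 1, 2, 1, 13, 12]) (.leaf 92 9 [2, 1, 3, 1, 2, 1, 2, 1, 3, 1, 3, 1, 2, 1, 3, 1, 2, 1, 3, 1, 3, 1, 2, 1, 3, 1, 2, 1, 3, 1, 3, 1, 2, 1, 3, 1, 2, 1, 3, 1, 2, 1, 2, 1, 3, 1, 2, 12, 14, 14, 9, 10, 10, 8, 8, 11, 4, 4, 4, 7, 7, 5, 6, 6, 1, 3, 1, 2, 1, 2, 1, 3, 1])) (.node 485 (.leaf 65 50 [13, 13, 9, 10, 9, 10, 10, 8, 4, 4, 4, 7, 5, 6, 2, 1, 2, 1, 3, 1, 2, 1, 3, 1, 2, 1, 2, 1, 3, 1, 2, 1, 3, 1, 3, 1, 2, 1, 2, 1, 3, 1, 3, 1, 2, 1, 3, 1, 2, 1, 2, 1, 3, 1, 3, 1, 2, 1, 2, 1, 3, 1, 2, 12]) (.leaf 88 63 [9, 4, 7, 4, 6, 6, 6, 5, 2, 1, 2, 1, 2, 1, 3, 1, 3, 1, 2, 1, 3, 1, 3, 1, 2, 1, 3, 1, 2, 1, 3, 1, 3, 1, 2, 1, 2, 1, 3, 1, 2, 1, 2, 1, 3, 1, 2, 1, 3, 1, 2, 1, 3, 1, 2, 1, 3, 1, 2, 1, 3, 1, 2, 10, 9, 10, 9, 11, 8, 8, 11])))) (.node 490 (.node 488 (.node 487 (.leaf 88 9 [1, 2, 1, 3, 1, 3, 1, 2, 1, 3, 1, 2, 1, 3, 1, 3, 1, 2, 1, 2, 1, 3, 1, 2, 1, 2, 1, 3, 1, 2, 1, 3, 1, 2, 1, 3, 1, 2, 1, 3, 1, 2, 1, 3, 1, 2, 10, 9, 10, 9, 11, 8, 8, 11, 9, 4, 7, 4, 6, 6, 6, 5, 2, 1, 2, 1, 2, 1, 3, 1, 3]) (.leaf 55 56 [10, 4, 4, 7, 7, 5, 1, 3, 1, 3, 1, 2, 1, 2, 1, 3, 1, 3, 1, 2, 1, 3, 1, 2, 1, 2, 1, 3, 1, 2, 1, 3, 1, 3, 1, 2, 1, 3, 1, 2, 1, 3, 1, 2, 1, 3, 1, 2, 1, 3, 1, 2, 1, 12, 10, 8, 8, 10, 10, 9, 11, 8])) (.node 489 (.leaf 75 9 [1, 3, 1, 2, 1, 2, 1, 3, 1, 3, 1, 2, 1, 3, 1, 2, 1, 2, 1, 3, 1, 2, 1, 3, 1, 3, 1, 2, 1, 2, 1, 3, 1, 2, 1, 3, 1, 3, 1, 2, 1, 3, 1, 12, 14, 12, 8, 11, 8, 10, 10, 8, 11, 6, 6, 5, 7, 7, 5, 2, 1, 2, 1, 3, 1, 2, 1, 3]) (.leaf 47 48 [10, 9, 11, 8, 11, 9, 5, 6, 5, 6, 4, 7, 1, 3, 1, 2, 1, 3, 1, 2, 1, 2, 1, 3, 1, 2, 1, 3, 1, 3, 1, 2, 1, 3, 1, 2, 1, 2, 1, 3, 1, 2, 1, 3, 1, 2, 1, 3, 1, 3, 1, 2, 1, 2, 1, 3, 1, 12, 14, 8]))) (.node 492 (.node 491 (.leaf 27 41 [12, 13, 13, 8, 10, 8, 8, 10, 9, 11, 8, 5, 7, 5, 7, 5, 7, 5, 6, 1, 3, 1, 2, 1, 2, 1, 3, 1, 3, 1, 2, 1, 2, 1, 3, 1, 2, 1, 3, 1, 2, 1, 3, 1, 2, 1, 2, 1, 3, 1, 3, 1, 2, 1, 2, 1, 3, 1, 3, 1]) (.leaf 41 52 [11, 9, 10, 5, 7, 4, 6, 6, 5, 6, 1, 3, 1, 2, 1, 2, 1, 3, 1, 2, 1, 3, 1, 3, 1, 2, 1, 2, 1, 3, 1, 2, 1, 3, 1, 2, 1, 3, 1, 2, 1, 2, 1, 3, 1, 3, 1, 2, 1, 2, 1, 3, 1, 3, 12, 13, 12, 13, 8, 11, 8, 8])) (.node 493 (.leaf 58 53 [11, 8, 8, 11, 4, 7, 4, 4, 4, 4, 6, 5, 2, 1, 2, 1, 3, 1, 3, 1, 2, 1, 3, 1, 3, 1, 2, 1, 3, 1, 2, 1, 3, 1, 2, 1, 3, 1, 3, 1, 2, 1, 2, 1, 3, 1, 2, 1, 2, 1, 3, 1, 2, 1, 3, 1, 3, 1, 3, 14, 14, 8, 8, 10, 9]) (.node 494 (.leaf 73 58 [10, 10, 4, 4, 4, 4, 4, 6, 6, 4, 2, 1, 2, 1, 3, 1, 2, 1, 3, 1, 3, 1, 2, 1, 2, 1, 3, 1, 2, 1, 3, 1, 2, 1, 3, 1, 3, 1, 2, 1, 3, 1, 2, 1, 3, 1, 3, 1, 2, 1, 2, 1, 3, 1, 2, 1, 2, 1, 3, 1, 3, 12, 14, 14, 8, 8, 10, 8]) (.leaf 92 56 [12, 14, 14, 9, 10, 10, 8, 8, 11, 4, 4, 4, 7, 7, 5, 6, 6, 1, 3, 1, 2, 1, 2, 1, 3, 1, 2, 1, 3, 1, 2, 1, 2, 1, 3, 1, 3, 1, 2, 1, 3, 1, 2, 1, 3, 1, 3, 1, 2, 1, 3, 1, 2, 1, 3, 1, 3, 1, 2, 1, 3, 1, 2, 1, 3, 1, 2, 1, 2, 1, 3, 1, 2])))))) (.node 503 (.node 499 (.node 497 (.node 496 (.leaf 18 39 [10, 7, 7, 7, 4, 6, 4, 7, 3, 1, 3, 1, 2, 1, 2, 1, 3, 1, 2, 1, 3, 1, 3, 1, 2, 1, 3, 1, 2, 1, 3, 1, 2, 1, 3, 1, 2, 1, 2, 1, 3, 12, 13, 12, 9, 10, 9]) (.leaf 44 51 [10, 4, 4, 6, 6, 4, 2, 1, 3, 1, 3, 1, 2, 1, 2, 1, 3, 1, 2, 1, 3, 1, 2, 1, 3, 1, 2, 1, 2, 1, 3, 1, 2, 1, 3, 1, 2, 1, 3, 1, 2, 1, 3, 1, 2, 1, 2, 1, 3, 1, 12, 14, 12, 10, 10, 9, 10])) (.node 498 (.leaf 49 51 [11, 5, 5, 7, 7, 7, 5, 7, 1, 3, 1, 2, 1, 3, 1, 2, 1, 3, 1, 2, 1, 2, 1, 3, 1, 3, 1, 2, 1, 2, 1, 3, 1, 2, 1, 2, 1, 3, 1, 2, 1, 3, 1, 2, 1, 2, 1, 3, 1, 3, 1, 2, 1, 12, 14, 10, 8, 11, 8]) (.leaf 64 53 [8, 10, 9, 11, 9, 10, 10, 4, 4, 4, 7, 7, 2, 1, 3, 1, 2, 1, 3, 1, 2, 1, 2, 1, 3, 1, 3, 1, 2, 1, 2, 1, 3, 1, 3, 1, 2, 1, 3, 1, 2, 1, 2, 1, 3, 1, 3, 1, 2, 1, 2, 1, 3, 1, 3, 1, 2, 1, 2, 1, 3, 12, 13, 12, 8]))) (.node 501 (.node 500 (.leaf 51 29 [2, 1, 3, 1, 2, 1, 3, 1, 2, 1, 2, 1, 3, 1, 3, 1, 3, 8, 8, 10, 9, 10, 9, 11, 9, 4, 6, 6, 6, 5, 6, 6, 1, 3, 1, 2, 1, 3, 1, 2, 1, 3, 1, 3, 1, 2, 1, 2, 1, 3, 1, 2, 1, 3, 1, 2, 1, 3, 1, 2, 1]) (.leaf 28 43 [12, 9, 10, 8, 11, 8, 11, 8, 6, 4, 4, 4, 4, 7, 3, 1, 2, 1, 2, 1, 3, 1, 3, 1, 2, 1, 3, 1, 3, 1, 2, 1, 3, 1, 2, 1, 3, 1, 2, 1, 2, 1, 3, 1, 2, 1, 3, 1, 3, 1, 2, 1, 2, 1, 3, 12, 14])) (.node 502 (.leaf 37 45 [13, 9, 10, 10, 9, 10, 10, 8, 8, 4, 4, 6, 4, 6, 4, 1, 3, 1, 2, 1, 3, 1, 2, 1, 3, 1, 3, 1, 2, 1, 3, 1, 2, 1, 3, 1, 2, 1, 3, 1, 2, 1, 3, 1, 3, 1, 2, 1, 2, 1, 3, 1, 2, 1, 2, 1, 3, 1, 2, 12]) (.leaf 51 56 [6, 6, 5, 6, 6, 1, 3, 1, 2, 1, 3, 1, 2, 1, 3, 1, 3, 1, 2, 1, 2, 1, 3, 1, 2, 1, 3, 1, 2, 1, 3, 1, 2, 1, 2, 1, 3, 1, 2, 1, 3, 1, 2, 1, 2, 1, 3, 1, 3, 1, 3, 8, 8, 10, 9, 10, 9, 11, 9, 4, 6])))) (.node 507 (.node 505 (.node 504 (.leaf 57 51 [8, 8, 10, 9, 11, 4, 7, 7, 4, 4, 2, 1, 2, 1, 3, 1, 2, 1, 3, 1, 2, 1, 2, 1, 3, 1, 3, 1, 2, 1, 3, 1, 2, 1, 3, 1, 3, 1, 2, 1, 3, 1, 2, 1, 3, 1, 3, 1, 2, 1, 2, 1, 3, 1, 3, 1, 3, 13, 13, 8, 10]) (.leaf 78 16 [2, 1, 3, 1, 2, 1, 3, 1, 2, 1, 3, 1, 2, 1, 3, 1, 3, 1, 2, 1, 3, 1, 2, 1, 3, 1, 3, 1, 2, 1, 2, 1, 3, 1, 2, 1, 13, 8, 10, 10, 9, 11, 5, 7, 5, 6, 5, 5, 2, 1, 3, 1, 2, 1, 2, 1, 3, 1, 3, 1, 2, 1, 3, 1])) (.node 506 (.leaf 90 32 [3, 1, 2, 1, 3, 1, 3, 1, 2, 1, 3, 1, 2, 1, 3, 1, 2, 1, 3, 1, 2, 1, 3, 13, 9, 11, 9, 10, 4, 7, 5, 5, 7, 7, 7, 2, 1, 3, 1, 2, 1, 3, 1, 2, 1, 2, 1, 3, 1, 2, 1, 3, 1, 2, 1, 3, 1, 3, 1, 2, 1, 2, 1, 3, 1, 2, 1]) (.leaf 31 17 [3, 1, 3, 1, 2, 1, 2, 1, 3, 1, 3, 1, 2, 1, 2, 1, 3, 1, 2, 1, 3, 1, 3, 1, 2, 12, 10, 10, 8, 11, 9, 10, 4, 4, 6, 5, 5, 1, 3, 1, 2, 1, 3, 1, 2, 1, 2, 1, 3, 1, 3, 1, 2, 1]))) (.node 509 (.node 508 (.leaf 63 61 [7, 2, 1, 2, 1, 2, 1, 3, 1, 3, 1, 2, 1, 2, 1, 3, 1, 2, 1, 3, 1, 3, 1, 2, 1, 2, 1, 3, 1, 2, 1, 2, 1, 3, 1, 2, 1, 3, 1, 3, 1, 2, 1, 2, 1, 3, 1, 3, 1, 3, 14, 14, 8, 11, 8, 10, 8, 4, 7, 7, 5, 7]) (.leaf 55 49 [8, 8, 10, 10, 9, 11, 8, 10, 4, 4, 7, 7, 5, 1, 3, 1, 3, 1, 2, 1, 2, 1, 3, 1, 3, 1, 2, 1, 3, 1, 2, 1, 2, 1, 3, 1, 2, 1, 3, 1, 3, 1, 2, 1, 3, 1, 2, 1, 3, 1, 2, 1, 3, 1, 2, 1, 3, 1, 2, 1, 12, 10])) (.node 510 (.leaf 19 43 [8, 11, 5, 5, 6, 6, 6, 5, 1, 2, 1, 3, 1, 2, 1, 2, 1, 3, 1, 3, 1, 2, 1, 2, 1, 3, 1, 3, 1, 2, 1, 3, 1, 2, 1, 3, 1, 2, 1, 3, 1, 2, 1, 3, 1, 13, 12, 13, 10, 9, 10]) (.node 511 (.leaf 22 43 [8, 8, 10, 10, 9, 10, 9, 10, 4, 4, 7, 5, 6, 5, 5, 5, 3, 1, 2, 1, 2, 1, 3, 1, 3, 1, 2, 1, 3, 1, 2, 1, 2, 1, 3, 1, 2, 1, 2, 1, 3, 1, 2, 1, 3, 1, 2, 1, 3, 1, 2, 1, 3, 1, 3, 12, 13, 12, 10]) (.leaf 24 48 [10, 9, 10, 9, 10, 4, 7, 5, 5, 6, 6, 6, 6, 1, 3, 1, 3, 1, 2, 1, 3, 1, 3, 1, 2, 1, 2, 1, 3, 1, 2, 1, 3, 1, 2, 1, 3, 1, 3, 1, 2, 1, 3, 1, 2, 1, 3, 1, 2, 1, 2, 1, 3, 1, 13, 12, 13, 8, 10, 8, 10]))))))) (.node 529 (.node 520 (.node 516 (.node 514 (.node 513 (.leaf 28 50 [8, 6, 4, 4, 4, 4, 7, 3, 1, 2, 1, 2, 1, 3, 1, 3, 1, 2, 1, 3, 1, 3, 1, 2, 1, 3, 1, 2, 1, 3, 1, 2, 1, 2, 1, 3, 1, 2, 1, 3, 1, 3, 1, 2, 1, 2, 1, 3, 12, 14, 12, 9, 10, 8, 11, 8, 11]) (.leaf 59 53 [11, 5, 7, 5, 6, 5, 5, 2, 1, 2, 1, 3, 1, 2, 1, 2, 1, 3, 1, 2, 1, 3, 1, 2, 1, 3, 1, 2, 1, 3, 1, 2, 1, 2, 1, 3, 1, 3, 1, 2, 1, 2, 1, 3, 1, 3, 1, 2, 1, 2, 1, 3, 1, 2, 1, 13, 8, 10, 10, 9])) (.node 515 (.leaf 67 52 [8, 11, 9, 10, 8, 10, 5, 7, 4, 7, 1, 3, 1, 2, 1, 2, 1, 3, 1, 3, 1, 2, 1, 3, 1, 2, 1, 3, 1, 2, 1, 2, 1, 3, 1, 2, 1, 3, 1, 2, 1, 3, 1, 2, 1, 3, 1, 2, 1, 3, 1, 2, 1, 2, 1, 3, 1, 3, 1, 13, 13, 8]) (.leaf 80 61 [10, 5, 7, 4, 6, 6, 4, 2, 1, 2, 1, 2, 1, 3, 1, 3, 1, 2, 1, 3, 1, 3, 1, 2, 1, 3, 1, 2, 1, 2, 1, 3, 1, 2, 1, 3, 1, 3, 1, 2, 1, 3, 1, 3, 1, 2, 1, 3, 1, 2, 1, 3, 1, 3, 1, 2, 1, 2, 1, 3, 12, 13, 12, 13, 10, 9, 10, 9]))) (.node 518 (.node 517 (.leaf 91 63 [10, 6, 6, 4, 7, 5, 6, 4, 2, 1, 2, 1, 3, 1, 2, 1, 3, 1, 2, 1, 3, 1, 3, 1, 2, 1, 3, 1, 3, 1, 2, 1, 2, 1, 3, 1, 3, 1, 2, 1, 2, 1, 3, 1, 3, 1, 2, 1, 3, 1, 2, 1, 3, 1, 3, 1, 2, 1, 3, 1, 2, 1, 3, 14, 9, 10, 10, 9, 10, 8, 10]) (.leaf 91 44 [3, 1, 3, 1, 2, 1, 3, 1, 2, 1, 3, 14, 9, 10, 10, 9, 10, 8, 10, 10, 6, 6, 4, 7, 5, 6, 4, 2, 1, 2, 1, 3, 1, 2, 1, 3, 1, 2, 1, 3, 1, 3, 1, 2, 1, 3, 1, 3, 1, 2, 1, 2, 1, 3, 1, 3, 1, 2, 1, 2, 1, 3, 1, 3, 1, 2, 1, 3, 1, 2, 1])) (.node 519 (.leaf 95 66 [9, 6, 6, 4, 6, 4, 6, 4, 1, 2, 1, 3, 1, 2, 1, 2, 1, 3, 1, 2, 1, 3, 1, 2, 1, 3, 1, 2, 1, 3, 1, 2, 1, 3, 1, 3, 1, 2, 1, 3, 1, 2, 1, 2, 1, 3, 1, 3, 1, 2, 1, 3, 1, 2, 1, 3, 1, 2, 1, 2, 1, 3, 1, 2, 1, 12, 13, 8, 11, 8, 10, 9, 10, 10]) (.leaf 20 38 [13, 11, 8, 10, 10, 9, 11, 8, 11, 5, 5, 5, 6, 6, 4, 4, 3, 1, 2, 1, 3, 1, 2, 1, 2, 1, 3, 1, 2, 1, 3, 1, 3, 1, 2, 1, 2, 1, 3, 1, 2, 1, 3, 1, 3, 1, 2, 1, 2, 1, 3, 1, 3, 12])))) (.node 524 (.node 522 (.node 521 (.leaf 22 40 [13, 12, 10, 8, 8, 10, 10, 9, 10, 9, 10, 4, 4, 7, 5, 6, 5, 5, 5, 3, 1, 2, 1, 2, 1, 3, 1, 3, 1, 2, 1, 3, 1, 2, 1, 2, 1, 3, 1, 2, 1, 2, 1, 3, 1, 2, 1, 3, 1, 2, 1, 3, 1, 2, 1, 3, 1, 3, 12]) (.leaf 24 50 [10, 9, 10, 4, 7, 5, 5, 6, 6, 6, 6, 1, 3, 1, 3, 1, 2, 1, 3, 1, 3, 1, 2, 1, 2, 1, 3, 1, 2, 1, 3, 1, 2, 1, 3, 1, 3, 1, 2, 1, 3, 1, 2, 1, 3, 1, 2, 1, 2, 1, 3, 1, 13, 12, 13, 8, 10, 8, 10, 10, 9])) (.node 523 (.leaf 49 56 [7, 5, 7, 1, 3, 1, 2, 1, 3, 1, 2, 1, 3, 1, 2, 1, 2, 1, 3, 1, 3, 1, 2, 1, 2, 1, 3, 1, 2, 1, 2, 1, 3, 1, 2, 1, 3, 1, 2, 1, 2, 1, 3, 1, 3, 1, 2, 1, 12, 14, 10, 8, 11, 8, 11, 5, 5, 7, 7]) (.leaf 81 53 [12, 14, 12, 8, 10, 10, 9, 11, 8, 11, 8, 5, 5, 7, 5, 5, 7, 7, 4, 3, 1, 2, 1, 2, 1, 3, 1, 3, 1, 2, 1, 3, 1, 2, 1, 3, 1, 3, 1, 2, 1, 3, 1, 3, 1, 2, 1, 2, 1, 3, 1, 2, 1, 2, 1, 3, 1, 2, 1, 3, 1, 2, 1, 3, 1, 2, 1, 3, 1, 3, 1, 3]))) (.node 526 (.node 525 (.leaf 83 58 [10, 5, 7, 5, 6, 4, 1, 3, 1, 2, 1, 3, 1, 2, 1, 3, 1, 3, 1, 2, 1, 3, 1, 2, 1, 2, 1, 3, 1, 2, 1, 3, 1, 2, 1, 2, 1, 3, 1, 2, 1, 3, 1, 3, 1, 2, 1, 3, 1, 2, 1, 2, 1, 3, 1, 3, 1, 2, 1, 13, 12, 13, 8, 8]) (.leaf 93 56 [14, 9, 10, 8, 8, 10, 8, 10, 10, 4, 7, 7, 5, 7, 7, 4, 7, 2, 1, 3, 1, 2, 1, 3, 1, 3, 1, 2, 1, 2, 1, 3, 1, 2, 1, 3, 1, 2, 1, 2, 1, 3, 1, 3, 1, 2, 1, 3, 1, 2, 1, 3, 1, 2, 1, 3, 1, 2, 1, 2, 1, 3, 1, 2, 1, 3, 1, 3, 1, 2, 1, 3, 1])) (.node 527 (.leaf 67 50 [13, 8, 8, 11, 9, 10, 8, 10, 5, 7, 4, 7, 1, 3, 1, 2, 1, 2, 1, 3, 1, 3, 1, 2, 1, 3, 1, 2, 1, 3, 1, 2, 1, 2, 1, 3, 1, 2, 1, 3, 1, 2, 1, 3, 1, 2, 1, 3, 1, 2, 1, 3, 1, 2, 1, 2, 1, 3, 1, 3, 1, 13]) (.node 528 (.leaf 22 50 [10, 4, 4, 7, 5, 6, 5, 5, 5, 3, 1, 2, 1, 2, 1, 3, 1, 3, 1, 2, 1, 3, 1, 2, 1, 2, 1, 3, 1, 2, 1, 2, 1, 3, 1, 2, 1, 3, 1, 2, 1, 3, 1, 2, 1, 3, 1, 3, 12, 13, 12, 10, 8, 8, 10, 10, 9, 10, 9]) (.leaf 42 57 [4, 6, 5, 5, 6, 2, 1, 3, 1, 2, 1, 3, 1, 3, 1, 2, 1, 2, 1, 3, 1, 3, 1, 2, 1, 3, 1, 2, 1, 3, 1, 2, 1, 3, 1, 3, 1, 2, 1, 3, 1, 2, 1, 3, 1, 3, 1, 2, 1, 13, 12, 13, 8, 11, 9, 10, 8, 11, 8, 11, 4, 7])))))) (.node 538 (.node 533 (.node 531 (.node 530 (.leaf 22 52 [4, 7, 5, 6, 5, 5, 5, 3, 1, 2, 1, 2, 1, 3, 1, 3, 1, 2, 1, 3, 1, 2, 1, 2, 1, 3, 1, 2, 1, 2, 1, 3, 1, 2, 1, 3, 1, 2, 1, 3, 1, 2, 1, 3, 1, 3, 12, 13, 12, 10, 8, 8, 10, 10, 9, 10, 9, 10, 4]) (.leaf 17 48 [7, 1, 2, 1, 3, 1, 3, 1, 2, 1, 2, 1, 3, 1, 3, 1, 2, 1, 3, 1, 2, 1, 3, 1, 2, 1, 2, 1, 3, 1, 2, 1, 2, 1, 12, 13, 12, 8, 11, 9, 10, 9, 10, 10, 8, 6, 6, 4, 4])) (.node 532 (.leaf 66 5 [2, 1, 3, 1, 2, 1, 2, 1, 3, 1, 2, 1, 3, 1, 2, 1, 3, 1, 2, 1, 3, 1, 2, 1, 3, 1, 2, 1, 3, 1, 2, 1, 3, 1, 3, 1, 2, 1, 2, 1, 3, 1, 2, 1, 12, 13, 12, 8, 11, 9, 10, 9, 10, 10, 8, 6, 6, 4, 4, 7, 1, 2, 1, 3, 1]) (.leaf 15 36 [11, 6, 4, 7, 4, 7, 5, 6, 1, 2, 1, 2, 1, 3, 1, 2, 1, 3, 1, 3, 1, 2, 1, 3, 1, 2, 1, 2, 1, 3, 1, 2, 1, 3, 1, 2, 13, 13, 9, 10, 10, 9, 11, 8]))) (.node 535 (.node 534 (.leaf 73 51 [12, 14, 14, 8, 8, 10, 8, 10, 10, 4, 4, 4, 4, 4, 6, 6, 4, 2, 1, 2, 1, 3, 1, 2, 1, 3, 1, 3, 1, 2, 1, 2, 1, 3, 1, 2, 1, 3, 1, 2, 1, 3, 1, 3, 1, 2, 1, 3, 1, 2, 1, 3, 1, 3, 1, 2, 1, 2, 1, 3, 1, 2, 1, 2, 1, 3, 1, 3]) (.leaf 76 66 [6, 3, 1, 2, 1, 3, 1, 3, 1, 2, 1, 3, 1, 2, 1, 3, 1, 3, 1, 2, 1, 3, 1, 2, 1, 3, 1, 2, 1, 2, 1, 3, 1, 2, 1, 3, 1, 2, 1, 2, 1, 3, 1, 2, 1, 3, 1, 3, 1, 2, 1, 2, 1, 10, 10, 8, 8, 11, 8, 10, 5, 5, 6, 5, 6, 6, 4])) (.node 536 (.leaf 92 72 [6, 1, 3, 1, 2, 1, 2, 1, 3, 1, 2, 1, 3, 1, 2, 1, 2, 1, 3, 1, 3, 1, 2, 1, 3, 1, 2, 1, 3, 1, 3, 1, 2, 1, 3, 1, 2, 1, 3, 1, 3, 1, 2, 1, 3, 1, 2, 1, 3, 1, 2, 1, 2, 1, 3, 1, 2, 12, 14, 14, 9, 10, 10, 8, 8, 11, 4, 4, 4, 7, 7, 5, 6]) (.node 537 (.leaf 26 42 [13, 12, 10, 8, 8, 10, 9, 11, 8, 11, 9, 4, 7, 4, 7, 4, 7, 7, 4, 2, 1, 2, 1, 3, 1, 3, 1, 2, 1, 3, 1, 2, 1, 3, 1, 2, 1, 3, 1, 2, 1, 3, 1, 2, 1, 2, 1, 3, 1, 2, 1, 3, 1, 3, 1, 2, 1, 3, 1, 3, 12]) (.leaf 52 53 [11, 6, 4, 6, 5, 7, 7, 2, 1, 2, 1, 3, 1, 3, 1, 2, 1, 3, 1, 3, 1, 2, 1, 2, 1, 3, 1, 3, 1, 2, 1, 3, 1, 2, 1, 3, 1, 3, 1, 2, 1, 3, 1, 2, 1, 3, 1, 3, 1, 2, 1, 2, 1, 14, 11, 8, 11, 8, 10, 9]))))) (.node 542 (.node 540 (.node 539 (.leaf 30 47 [10, 8, 11, 9, 11, 4, 6, 6, 6, 5, 7, 4, 7, 1, 2, 1, 3, 1, 2, 1, 3, 1, 2, 1, 2, 1, 3, 1, 3, 1, 2, 1, 3, 1, 2, 1, 3, 1, 2, 1, 3, 1, 2, 1, 3, 1, 2, 1, 2, 1, 3, 1, 3, 1, 2, 12, 14, 14, 8, 8]) (.leaf 17 41 [10, 10, 8, 6, 6, 4, 4, 7, 1, 2, 1, 3, 1, 3, 1, 2, 1, 2, 1, 3, 1, 3, 1, 2, 1, 3, 1, 2, 1, 3, 1, 2, 1, 2, 1, 3, 1, 2, 1, 2, 1, 12, 13, 12, 8, 11, 9, 10, 9])) (.node 541 (.leaf 21 48 [9, 7, 7, 7, 5, 6, 6, 5, 2, 1, 3, 1, 2, 1, 2, 1, 3, 1, 2, 1, 3, 1, 2, 1, 3, 1, 2, 1, 3, 1, 3, 1, 2, 1, 2, 1, 3, 1, 2, 1, 2, 1, 3, 1, 3, 1, 12, 13, 12, 10, 8, 11, 9, 10, 9, 10]) (.leaf 42 50 [10, 8, 11, 8, 11, 4, 7, 4, 6, 5, 5, 6, 2, 1, 3, 1, 2, 1, 3, 1, 3, 1, 2, 1, 2, 1, 3, 1, 3, 1, 2, 1, 3, 1, 2, 1, 3, 1, 2, 1, 3, 1, 3, 1, 2, 1, 3, 1, 2, 1, 3, 1, 3, 1, 2, 1, 13, 12, 13, 8, 11, 9]))) (.node 544 (.node 543 (.leaf 77 1 [2, 1, 3, 1, 2, 1, 3, 1, 2, 1, 2, 1, 3, 1, 2, 1, 3, 1, 3, 1, 2, 1, 2, 1, 3, 1, 2, 1, 3, 1, 3, 1, 2, 1, 3, 1, 2, 1, 3, 1, 3, 1, 2, 1, 3, 1, 2, 1, 2, 1, 3, 12, 8, 8, 10, 9, 10, 10, 6, 4, 6, 5, 7, 5, 5, 6, 1]) (.leaf 57 52 [8, 10, 9, 11, 4, 7, 7, 4, 4, 2, 1, 2, 1, 3, 1, 2, 1, 3, 1, 2, 1, 2, 1, 3, 1, 3, 1, 2, 1, 3, 1, 2, 1, 3, 1, 3, 1, 2, 1, 3, 1, 2, 1, 3, 1, 3, 1, 2, 1, 2, 1, 3, 1, 3, 1, 3, 13, 13, 8, 10, 8])) (.node 545 (.leaf 64 45 [1, 2, 1, 3, 12, 13, 12, 8, 8, 10, 9, 11, 9, 10, 10, 4, 4, 4, 7, 7, 2, 1, 3, 1, 2, 1, 3, 1, 2, 1, 2, 1, 3, 1, 3, 1, 2, 1, 2, 1, 3, 1, 3, 1, 2, 1, 3, 1, 2, 1, 2, 1, 3, 1, 3, 1, 2, 1, 2, 1, 3, 1, 3, 1, 2]) (.node 546 (.leaf 80 32 [2, 1, 3, 1, 3, 1, 2, 1, 3, 1, 2, 1, 3, 1, 3, 1, 2, 1, 2, 1, 3, 12, 13, 12, 13, 10, 9, 10, 9, 10, 5, 7, 4, 6, 6, 4, 2, 1, 2, 1, 2, 1, 3, 1, 3, 1, 2, 1, 3, 1, 3, 1, 2, 1, 3, 1, 2, 1, 2, 1, 3, 1, 2, 1, 3, 1, 3, 1]) (.leaf 66 11 [2, 1, 3, 1, 2, 1, 3, 1, 2, 1, 3, 1, 2, 1, 3, 1, 2, 1, 3, 1, 2, 1, 3, 1, 2, 1, 3, 1, 3, 1, 2, 1, 2, 1, 3, 1, 2, 1, 12, 13, 12, 8, 11, 9, 10, 9, 10, 10, 8, 6, 6, 4, 4, 7, 1, 2, 1, 3, 1, 2, 1, 3, 1, 2, 1])))))))))))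

theorem b0 : allR (guardB 96 (blk fc sc rt.get Cfsg.Agent.Lib.Helper3.Ru.INV isH)) 5 0 = true := by decide +kernel
theorem b1 : allR (guardB 96 (blk fc sc rt.get Cfsg.Agent.Lib.Helper3.Ru.INV isH)) 5 32 = true := by decide +kernel
theorem b2 : allR (guardB 96 (blk fc sc rt.get Cfsg.Agent.Lib.Helper3.Ru.INV isH)) 5 64 = true := by decide +kernel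
theorem b3 : allR (guardB 96 (blk fc sc rt.get Cfsg.Agent.Lib.Helper3.Ru.INV isH)) 5 96 = true := by decide +kernel
theorem c0 : allR (guardB 127 (cblk fc nc cc 24576 4060 79228162514264337593543950336 gens)) 5 0 = true := by decide +kernel
theorem c1 : allR (guardB 127 (cblk fc nc cc 24576 4060 79228162514264337593543950336 gens)) 5 32 = true := by decide +kernel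
theorem c2 : allR (guardB 127 (cblk fc nc cc 24576 4060 79228162514264337593543950336 gens)) 5 64 = true := by decide +kernel
theorem c3 : allR (guardB 127 (cblk fc nc cc 24576 4060 79228162514264337593543950336 gens)) 5 96 = true := by decide +kernel

theorem chkAll : ∀ j < 96, blk fc sc rt.get Cfsg.Agent.Lib.Helper3.Ru.INV isH j = true :=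
  guardB_spec (D := 7) (allR_join (allR_join b0 b1 (by norm_num)) (allR_join b2 b3 (by norm_num)) (by norm_num)) (by norm_num)

theorem clAll : ∀ jb < 127, cblk fc nc cc (256 * 96) 4060 79228162514264337593543950336 gens jb = true :=
  guardB_spec (D := 7) (allR_join (allR_join c0 c1 (by norm_num)) (allR_join c2 c3 (by norm_num)) (by norm_num)) (by norm_num)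

theorem hid_0 : BR_0.all (wordId (ntOf Cfsg.Agent.Lib.Helper3.Ru.ntl) 12) = true := by decide +kernel
theorem hid_1 : BR_1.all (wordId (ntOf Cfsg.Agent.Lib.Helper3.Ru.ntl) 12) = true := by decide +kernel
theorem hid_2 : BR_2.all (wordId (ntOf Cfsg.Agent.Lib.Helper3.Ru.ntl) 12) = true := by decide +kernel
theorem hid_3 : BR_3.all (wordId (ntOf Cfsg.Agent.Lib.Helper3.Ru.ntl) 12) = true := by decide +kernel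
theorem hid_4 : BR_4.all (wordId (ntOf Cfsg.Agent.Lib.Helper3.Ru.ntl) 12) = true := by decide +kernel
theorem hid : BR.all (wordId (ntOf Cfsg.Agent.Lib.Helper3.Ru.ntl) 12) = true := by
  simp only [BR, List.all_append, hid_0, hid_1, hid_2, hid_3, hid_4, Bool.and_self]

theorem card_eq : Nat.card (lgrp (vL Cfsg.Agent.Lib.Helper3.Ru.ntl Cfsg.Agent.Lib.Helper3.Ru.deg) gens) = 4060 * Nat.card (lgrp (vL Cfsg.Agent.Lib.Helper3.Ru.ntl Cfsg.Agent.Lib.Helper3.Ru.deg) hl) :=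
  Cfsg.Agent.Lib.Helper3.Ru.setup.level gens hl dl BR (by decide +kernel) (by decide +kernel) hid (by decide +kernel)
    (by decide +kernel) rt (by decide +kernel) isH (fun l h => of_decide_eq_true h) fc sc nc cc 96 127 4060 79228162514264337593543950336
    (by norm_num) (by norm_num) (by decide +kernel) (by decide) chkAll clAll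
    0 0 28 (by norm_num [Cfsg.Agent.Lib.Helper3.Ru.deg]) (by norm_num [Cfsg.Agent.Lib.Helper3.Ru.deg]) (by decide +kernel) (by decide +kernel)

theorem ub {M : Type*} [Group M] (w : ℕ → M) (h0 : w 0 = 1) (hinv : ∀ l, w (invL Cfsg.Agent.Lib.Helper3.Ru.INV l) = (w l)⁻¹)
    (hBR : ∀ r ∈ BR, (r.map w).prod = 1)
    (hdlr : ∀ r ∈ dl.map (fun p => p.1 ++ [p.2]), (r.map w).prod = 1) (N : ℕ) (hN : Bd w hl N) :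
    Bd w gens (4060 * N) :=
  level_bd w Cfsg.Agent.Lib.Helper3.Ru.INV h0 hinv gens hl dl BR (by decide +kernel) hdlr hBR (by decide +kernel) (by decide +kernel)
    rt (by decide +kernel) isH (fun l h => of_decide_eq_true h) fc sc nc cc 96 127 4060 79228162514264337593543950336
    (by norm_num) (by norm_num) (by decide +kernel) (by decide) chkAll clAll N hN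

end Cfsg.Agent.Lib.Helper3.Ru.L1
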