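import Cfsg.Agent.Lib.Helper3.Ru.L2D
import Cfsg.Agent.Lib.Helper3.Ru.Net

set_option autoImplicit false
set_option maxRecDepth 100000

namespace Cfsg.Agent.Lib.Helper3.Ru.L2

open Cfsg.Agent.Lib.Helper11 Cfsg.Agent.Lib.Helper3

set_option maxHeartbeats 0
set_option Elab.async false

noncomputable def fc (i : ℕ) : ℕ := (Bool.rec (fc0_0 i) (Bool.rec (fc0_1 i) (fc0_2 i) (Nat.ble 32 i)) (Nat.ble 16 i))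
noncomputable def sc (i : ℕ) : ℕ := (Bool.rec (sc0_0 i) (Bool.rec (sc0_1 i) (sc0_2 i) (Nat.ble 32 i)) (Nat.ble 16 i))
noncomputable def nc (i : ℕ) : ℕ := (nc0_0 i)
noncomputable def cc (i : ℕ) : ℕ := (Bool.rec (Bool.rec (cc0_0 i) (cc0_1 i) (Nat.ble 16 i)) (Bool.rec (cc0_2 i) (Bool.rec (cc0_3 i) (cc0_4 i) (Nat.ble 64 i)) (Nat.ble 48 i)) (Nat.ble 32 i))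

def isH (l : ℕ) : Bool := decide (l ∈ [8, 10])
def gens : List ℕ := [4, 6]
def hl : List ℕ := [8, 10]
def dl : List (List ℕ × ℕ) := [([4], 5), ([6], 7), ([4, 6, 4, 6], 9), ([9], 8), ([4, 4, 4, 7, 4, 7, 5, 6, 4], 11), ([11], 10), ([11, 8, 8, 10], 12), ([10, 8, 10, 9, 10, 8, 11, 8, 10], 14), ([14], 13)]
def BR_0 : List (List ℕ) := [[], [4, 6, 4, 6, 9], [4, 4, 4, 7, 4, 7, 5, 6, 4, 11], [11, 8, 8, 10, 12], [10, 8, 10, 9, 10, 8, 11, 8, 10, 14], [4, 4, 4, 4, 4, 4, 4, 4, 4, 4, 4, 4, 4], [5, 5, 5, 5, 5, 5, 5, 5, 5, 5, 5, 5, 5], [6, 6, 6, 6, 6, 6, 6, 6, 6, 6, 6, 6], [7, 7, 7, 7, 7, 7, 7, 7, 7, 7, 7, 7], [4, 6, 4, 6, 4, 6, 4, 6, 4, 6, 4, 6, 4, 6, 4, 6], [4, 7, 4, 7, 4, 7, 4, 7, 4, 7, 4, 7, 4, 7, 4, 7, 4, 7,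 4, 7, 4, 7, 4, 7], [5, 6, 5, 6, 5, 6, 5, 6, 5, 6, 5, 6, 5, 6, 5, 6, 5, 6, 5, 6, 5, 6, 5, 6], [5, 7, 5, 7, 5, 7, 5, 7, 5, 7, 5, 7, 5, 7, 5, 7], [4, 4, 6, 4, 4, 6, 4, 4, 6, 4, 4, 6, 4, 4, 6, 4, 4, 6, 4, 4, 6, 4, 4, 6], [5, 5, 7, 5, 5, 7, 5, 5, 7, 5, 5, 7, 5, 5, 7, 5, 5, 7, 5, 5, 7, 5, 5, 7], [4, 6, 5, 6, 4, 6, 5, 6, 4, 6, 5, 6, 4, 6, 5, 6, 4, 6, 5, 6, 4, 6, 5, 6, 4, 6, 5, 6, 4, 6, 5, 6], [4, 6, 5, 7, 4, 6, 5, 7, 4, 6, 5, 7, 4, 6, 5, 7, 4, 6, 5, 7, 4, 6, 5, 7, 4, 6, 5, 7, 4, 6, 5, 7], [4, 6, 6, 6, 4, 6, 6, 6, 4, 6, 6, 6, 4, 6, 6, 6, 4, 6, 6, 6, 4, 6, 6, 6, 4, 6, 6, 6, 4, 6, 6, 6], [4, 7, 5, 6, 4, 7, 5, 6, 4, 7, 5, 6, 4, 7, 5, 6, 4, 7, 5, 6, 4, 7, 5, 6, 4, 7, 5, 6, 4, 7, 5, 6], [4, 7, 5, 7, 4, 7, 5, 7,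 4, 7, 5, 7, 4, 7, 5, 7, 4, 7, 5, 7, 4, 7, 5, 7, 4, 7, 5, 7, 4, 7, 5, 7], [5, 7, 7, 7, 5, 7, 7, 7, 5, 7, 7, 7, 5, 7, 7, 7, 5, 7, 7, 7, 5, 7, 7, 7, 5, 7, 7, 7, 5, 7, 7, 7], [5, 6, 4, 7, 5, 12, 14, 12, 10, 8, 11, 8, 10], [7, 4, 7, 4, 6, 5, 6, 14, 14, 9, 11, 9, 11, 8, 11, 8, 11], [4, 6, 6, 6, 6, 6, 5, 6, 13, 12, 8, 10, 8, 11, 8, 8, 10], [6, 6, 6, 6, 5, 7, 7, 4, 12, 13, 13, 8, 11, 8, 11], [4, 4, 7, 7, 4, 6, 5, 6, 5, 13, 12, 13, 8, 10, 8, 10, 9, 11, 8, 11], [6, 4, 6, 6, 4, 6, 4, 7, 7, 14, 8, 8, 10, 10, 9, 10, 9], [6, 4, 6, 6, 6, 6, 5, 6, 5, 12, 10, 8, 8, 10], [7, 4, 4, 7, 4, 7, 5, 6, 6, 4, 13, 12, 9, 10, 8, 8, 11, 8], [7, 4, 6, 6, 4, 4, 6, 6, 6, 4, 14, 12, 8, 10, 8, 11, 8, 8, 11], [7, 7, 4, 7, 4, 4, 6,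 5, 5, 5, 12, 13, 12, 8, 11, 8, 10, 9, 11, 8], [4, 7, 7, 7, 7, 4, 6, 6, 6, 6, 12, 10, 8, 8, 11], [6, 6, 6, 4, 4, 6, 6, 6, 6, 6, 13, 11, 8, 11, 8, 10], [5, 6, 5, 7, 4, 4, 4, 6, 6, 4, 13, 12, 8, 11, 8, 8, 11, 9, 11, 8], [7, 7, 5, 6, 4, 4, 6, 6, 5, 7, 13, 8, 8, 10, 8], [4, 7, 5, 6, 5, 6, 5, 6, 6, 5, 12, 13, 12, 13, 11, 8, 11, 8, 11, 9], [5, 6, 5, 5, 6, 4, 4, 4, 7, 7, 13, 12, 9, 11, 9, 10, 8, 10], [6, 5, 5, 5, 7, 4, 6, 4, 4, 6, 6, 12, 14, 10, 10, 8, 11, 8, 8, 11, 8], [4, 4, 6, 5, 6, 6, 6, 4, 7, 7, 5, 12, 14, 14, 10, 9, 11, 9, 11, 8, 10], [7, 7, 4, 6, 5, 6, 4, 4, 4, 4, 7, 14, 12, 10, 8, 8, 10, 8], [6, 5, 5, 7, 5, 6, 6, 4, 4, 6, 4, 13, 10, 8, 10, 9, 11, 8, 10, 8], [6, 5, 6, 5, 6, 4, 6, 4, 6, 5, 5, 12, 13,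 13, 8, 10, 8, 11, 8, 8, 11, 9], [6, 4, 4, 7, 5, 6, 6, 5, 7, 7, 7, 12, 14, 10, 8, 8, 10, 8, 10, 9, 11, 8], [7, 7, 5, 6, 6, 6, 5, 7, 4, 4, 4, 13, 12, 13, 11, 8, 10], [6, 6, 5, 6, 6, 4, 6, 4, 6, 4, 4, 14, 14, 8, 8, 10, 10, 8, 10, 10], [6, 4, 7, 7, 7, 4, 7, 7, 5, 6, 5, 12, 14, 12, 10, 9, 10, 8, 10, 10], [5, 5, 7, 5, 5, 6, 6, 4, 7, 7, 4, 13, 13, 8, 8, 10, 8, 10, 9, 11, 8], [5, 7, 5, 7, 7, 4, 6, 4, 4, 6, 4, 14, 8, 11, 9, 10, 9, 10, 10, 9], [5, 7, 5, 6, 6, 6, 6, 4, 4, 4, 4, 13, 12, 10, 8, 8, 10, 9, 11, 8, 8, 10], [4, 7, 7, 4, 4, 6, 4, 4, 7, 5, 6, 12, 13, 12, 13, 8, 11, 8, 8], [5, 6, 6, 5, 7, 4, 7, 7, 4, 7, 4, 12, 8, 11, 9, 10, 8, 11, 9, 11], [6, 5, 7, 7, 4, 6, 6, 5, 5, 6, 5, 12, 14, 8, 10, 8, 11, 9, 11],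 [5, 5, 5, 7, 5, 6, 5, 5, 7, 7, 4, 12, 13, 9, 10, 10, 9, 10, 8], [4, 6, 6, 5, 6, 4, 7, 4, 4, 4, 7, 13, 13, 10, 10, 8, 8, 11, 8], [5, 7, 5, 6, 4, 4, 6, 5, 7, 7, 5, 13, 13, 9, 10, 8, 8], [5, 7, 7, 4, 6, 4, 7, 7, 7, 7, 4, 12, 13, 12, 9, 10, 10, 9, 10, 10], [4, 7, 4, 7, 4, 4, 6, 6, 4, 6, 5, 13, 12, 13, 8, 8, 10, 10, 8, 11], [4, 4, 6, 5, 7, 4, 6, 6, 4, 4, 4, 12, 14, 12, 8, 10, 10, 8, 10, 9, 10, 10], [7, 7, 4, 6, 4, 6, 6, 6, 5, 6, 6, 13, 12, 13, 10, 8, 8, 10, 8, 10, 9, 11, 8], [7, 4, 6, 5, 6, 4, 6, 5, 6, 4, 7, 12, 14, 14, 10, 9, 10, 9, 10, 10, 8], [4, 6, 6, 4, 6, 6, 6, 6, 5, 7, 7, 8, 11, 9, 11, 8], [5, 5, 5, 7, 4, 4, 4, 7, 7, 4, 7, 13, 11, 8, 11, 8, 11, 9]]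
def BR_1 : List (List ℕ) := [[5, 6, 5, 5, 7, 4, 6, 4, 6, 5, 7, 14, 12, 10, 10], [7, 7, 4, 4, 4, 6, 5, 6, 6, 4, 4, 13, 12, 13, 10, 10, 8, 11, 9, 10, 9, 11], [6, 4, 4, 6, 4, 4, 4, 7, 4, 7, 4, 14, 12, 8, 10, 9, 10, 9, 10, 9], [4, 7, 4, 6, 4, 6, 5, 6, 5, 6, 4, 12, 14, 8, 11, 9, 10], [6, 6, 5, 6, 4, 4, 4, 7, 7, 5, 5, 14, 14, 8, 11, 9, 10, 8, 11, 8, 10, 10], [4, 7, 5, 7, 5, 6, 5, 7, 4, 4, 7, 14, 14, 10, 8, 8, 10, 9, 11, 9], [6, 4, 7, 4, 7, 4, 6, 5, 5, 6, 4, 14, 9, 10, 8, 8, 11, 8], [6, 5, 5, 6, 4, 4, 7, 4, 4, 4, 4, 14, 10, 9, 10, 9, 11, 9, 10, 8], [6, 5, 5, 6, 4, 6, 6, 4, 7, 5, 6, 14, 12, 8, 8, 10, 10, 8, 11, 8], [4, 4, 6, 5, 7, 7, 4, 4, 7, 7, 5, 7, 12, 14, 8, 11, 9, 10, 9, 11, 8], [4, 4, 4, 7, 5, 6, 6,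 6, 5, 7, 5, 6, 12, 13, 8, 8, 10, 9, 10, 9, 11, 9], [6, 6, 5, 5, 7, 4, 4, 7, 5, 7, 7, 5, 12, 9, 11, 8, 10, 9], [6, 4, 4, 7, 7, 4, 4, 4, 6, 6, 6, 5, 12, 14, 14, 10, 9, 11, 8, 10, 10, 9], [5, 6, 6, 6, 4, 7, 4, 6, 4, 7, 5, 6, 12, 14, 14, 10, 10, 8, 8, 10], [5, 5, 6, 5, 6, 4, 6, 4, 4, 7, 5, 7, 12, 13, 12, 10, 8, 11, 9, 10, 9, 10], [5, 7, 5, 6, 4, 6, 6, 5, 6, 4, 6, 6, 12, 14, 14, 9, 10, 8, 10, 10, 9], [6, 5, 5, 6, 5, 6, 4, 4, 6, 6, 4, 7, 12, 14, 12, 9, 11, 8, 10, 9, 11], [6, 6, 4, 7, 4, 6, 4, 7, 7, 5, 5, 6, 14, 12, 10, 8, 8, 10, 8, 10, 9, 11], [6, 5, 5, 5, 5, 6, 6, 6, 6, 5, 5, 5, 12, 13, 12, 13, 8, 10, 10, 8, 10, 9, 11, 8, 11], [5, 6, 6, 4, 4, 4, 6, 4, 7, 4, 7, 4, 8, 10, 9, 11, 8, 8, 10, 8], [7, 4, 4, 4,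 6, 6, 5, 7, 7, 5, 5, 5, 12, 14, 12, 10, 10, 9, 10, 8, 11], [6, 4, 6, 5, 6, 4, 6, 5, 7, 5, 6, 5, 13, 8, 10, 8, 10, 10], [6, 6, 6, 5, 6, 4, 6, 5, 7, 5, 6, 6, 13, 12, 10, 9, 10, 8, 8, 11], [6, 5, 6, 4, 4, 6, 4, 6, 6, 5, 6, 4, 12, 14, 9, 10, 10, 9, 10, 8], [7, 7, 4, 6, 6, 4, 4, 4, 7, 5, 5, 6, 12, 13, 8, 11, 8, 11, 8, 8, 11, 8], [4, 4, 6, 6, 5, 6, 6, 6, 5, 6, 4, 7, 12, 10, 8, 8, 10, 10, 9, 10, 10, 9], [7, 7, 7, 4, 6, 6, 4, 4, 4, 6, 5, 5, 14, 12, 8, 8, 11, 8, 10, 10, 9], [7, 7, 7, 7, 4, 4, 7, 4, 4, 4, 7, 4, 12, 13, 8, 10, 8, 10, 9, 10, 8], [4, 4, 4, 6, 4, 6, 4, 4, 4, 7, 5, 5, 12, 13, 12, 8, 10, 8, 8, 10], [6, 5, 7, 5, 5, 6, 6, 4, 6, 5, 5, 6, 12, 14, 12, 8, 11, 8, 10, 8, 8, 10], [5, 6, 6, 6, 4, 4, 6, 4,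 4, 6, 4, 7, 14, 14, 8, 10, 9, 10, 10, 8, 8, 11], [7, 7, 4, 4, 6, 4, 6, 6, 5, 6, 6, 6, 12, 13, 12, 13, 8, 11, 9, 10, 8, 11, 9, 10], [6, 4, 6, 4, 7, 4, 7, 5, 6, 4, 6, 5, 13, 12, 10, 9, 11, 9, 11, 8, 10, 10], [5, 6, 6, 6, 6, 4, 4, 6, 4, 7, 5, 5, 14, 12, 10, 9, 10, 10, 8, 8], [4, 7, 5, 5, 7, 7, 4, 6, 6, 5, 5, 7, 14, 8, 10, 10, 8, 11], [6, 6, 6, 5, 6, 6, 6, 5, 6, 4, 7, 4, 12, 8, 10, 10, 8, 8, 10, 10], [4, 7, 7, 7, 4, 6, 6, 4, 6, 5, 5, 7, 14, 12, 8, 11, 8, 11, 8, 8, 11, 8, 11], [5, 7, 5, 7, 4, 6, 6, 4, 6, 4, 6, 6, 14, 12, 10, 10, 8, 8, 11, 8, 10, 8], [4, 7, 7, 4, 4, 4, 6, 5, 5, 6, 6, 5, 12, 8, 11, 8], [6, 4, 6, 5, 7, 7, 4, 4, 6, 5, 5, 6, 12, 13, 13, 8, 11, 8, 11, 8, 10, 10], [7, 7, 7, 5, 6, 4, 4, 4, 4,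 4, 6, 5, 12, 13, 13, 10, 8, 11, 8, 10, 10, 8, 11], [4, 7, 4, 6, 6, 4, 6, 5, 6, 4, 6, 5, 10, 10, 8, 11, 8, 11], [5, 5, 7, 7, 4, 6, 6, 4, 7, 5, 5, 5, 12, 13, 12, 10, 8, 10, 9, 11, 8, 10, 8], [7, 4, 4, 7, 5, 6, 4, 7, 5, 7, 7, 4, 14, 8, 10, 9, 10, 10, 9, 10, 9, 11], [4, 4, 4, 6, 4, 4, 6, 4, 4, 7, 7, 5, 14, 8, 10, 8, 10, 9, 11, 9], [4, 6, 6, 4, 6, 4, 4, 6, 4, 4, 4, 4, 14, 8, 11, 9], [4, 6, 6, 4, 6, 4, 6, 5, 5, 7, 4, 7, 12, 13, 10, 8, 10, 9, 11], [6, 5, 7, 7, 7, 4, 4, 7, 4, 6, 6, 6, 12, 14, 12, 11, 8, 11, 8, 10, 9], [5, 6, 6, 5, 6, 4, 4, 4, 4, 7, 4, 4, 13, 12, 8, 10, 10, 8, 10, 10, 8, 11], [5, 6, 5, 7, 7, 4, 4, 7, 5, 7, 5, 7, 12, 8, 11, 9, 10, 10, 9, 11, 9], [4, 7, 4, 4, 4, 6, 6, 6, 6, 6, 4, 7, 14, 12,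 9, 10, 9, 10], [6, 4, 4, 4, 7, 4, 4, 7, 4, 7, 4, 7, 12, 13, 10, 8, 8, 10, 9], [4, 6, 6, 4, 4, 4, 6, 5, 6, 4, 4, 4, 13, 10, 10, 9, 10, 8, 8], [4, 6, 6, 5, 7, 4, 4, 6, 6, 6, 5, 7, 13, 12, 13, 10, 9, 10, 8, 10, 10, 9, 10], [5, 7, 4, 7, 7, 4, 6, 4, 7, 5, 5, 6, 13, 13, 9, 10, 10, 9, 10, 8, 10], [5, 7, 7, 5, 6, 4, 4, 7, 5, 7, 5, 5, 14, 10, 10, 9, 11, 8, 10], [6, 6, 6, 4, 7, 4, 4, 6, 6, 4, 6, 4, 13, 10, 10, 9, 10, 8, 8, 10]]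
def BR_2 : List (List ℕ) := [[6, 4, 7, 7, 4, 4, 6, 6, 6, 4, 7, 4, 12, 14, 12, 9, 10, 10, 9, 11, 9, 10], [4, 7, 4, 4, 6, 6, 6, 6, 4, 6, 6, 6, 12, 10, 8, 8, 10], [5, 7, 7, 4, 6, 6, 6, 4, 7, 4, 6, 5, 12, 14, 14, 8, 11, 8], [4, 7, 4, 4, 6, 4, 6, 4, 4, 7, 7, 4, 13, 13, 8, 8, 10, 9, 11, 9, 10, 8], [7, 4, 4, 4, 7, 4, 4, 7, 7, 7, 5, 5, 13, 12, 13, 10, 8, 8, 10, 10, 9, 11, 8, 10], [6, 6, 4, 6, 6, 6, 4, 7, 4, 4, 6, 6, 12, 8, 8, 10, 10, 9, 10, 9, 11], [5, 5, 6, 6, 6, 6, 4, 4, 7, 5, 7, 7, 12, 13, 12, 9, 10, 10, 9, 11, 8, 11], [5, 7, 7, 7, 5, 6, 4, 6, 5, 5, 6, 5, 14, 8, 11, 9, 10, 9, 11], [4, 7, 5, 5, 5, 6, 4, 6, 5, 7, 7, 7, 12, 14, 14, 8, 11, 9, 10, 9, 10, 9, 11, 9], [6, 6, 4, 4, 6, 6, 6, 6, 4, 6, 6, 5, 12, 10,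 8, 8, 11], [7, 4, 4, 6, 6, 6, 6, 4, 6, 6, 6, 4, 13, 13, 8, 11, 9, 10, 10, 8, 8, 11], [4, 4, 7, 5, 7, 4, 6, 5, 5, 6, 5, 7, 13, 9, 10, 10, 8, 10, 9, 10, 9], [7, 7, 7, 4, 4, 6, 4, 6, 6, 6, 6, 5, 12, 10, 8, 8, 10, 8, 10, 10], [4, 4, 7, 4, 6, 6, 4, 4, 6, 6, 5, 5, 13, 13, 8, 11, 9, 10, 8, 8, 10], [4, 4, 7, 4, 6, 6, 6, 4, 4, 6, 5, 7, 13, 8, 10, 8, 11, 8, 11, 8, 8], [6, 6, 5, 7, 4, 4, 6, 6, 5, 5, 5, 7, 13, 12, 10, 8, 10, 9, 11], [6, 6, 5, 7, 4, 6, 4, 7, 5, 6, 4, 4, 13, 12, 13, 9, 11, 8, 10, 10, 8, 10], [5, 7, 7, 4, 7, 4, 4, 7, 5, 6, 4, 7, 12, 10, 10, 9, 10, 9, 10, 9], [6, 5, 6, 4, 6, 6, 4, 4, 7, 5, 5, 7, 14, 14, 8, 8, 10, 8, 8, 11], [7, 7, 5, 5, 5, 6, 5, 5, 7, 5, 5, 5, 12, 14, 14, 10, 8, 8, 10, 8, 11, 8,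 11, 8], [5, 5, 5, 6, 4, 6, 6, 4, 7, 4, 6, 6, 14, 9, 11, 8, 10, 9, 10, 10, 8, 11], [7, 4, 4, 7, 7, 4, 7, 4, 7, 5, 5, 6, 9, 11, 8, 8, 11, 9], [5, 5, 7, 5, 7, 4, 4, 6, 6, 4, 6, 6, 9, 10, 8, 8, 10, 9], [5, 7, 4, 4, 4, 4, 6, 4, 7, 7, 4, 7, 12, 8, 10, 8, 10, 9, 11, 8], [4, 7, 4, 6, 4, 4, 6, 6, 5, 6, 5, 5, 12, 13, 13, 11, 8, 10, 10, 9, 11, 8, 11, 8], [4, 4, 7, 7, 5, 6, 4, 6, 4, 6, 6, 4, 14, 14, 8, 10, 9, 10, 8, 8], [6, 4, 4, 4, 4, 4, 6, 5, 7, 7, 7, 5, 13, 13, 8, 11, 8, 10, 10, 9, 10, 10], [6, 4, 7, 4, 6, 6, 6, 4, 7, 4, 7, 4, 14, 12, 8, 11, 8, 10, 8, 8], [5, 5, 5, 6, 6, 6, 4, 6, 5, 7, 5, 5, 13, 9, 11, 8, 10, 9, 10, 10, 8, 8], [5, 7, 7, 4, 4, 6, 6, 4, 6, 4, 4, 4, 14, 8, 10, 10, 8, 10, 9, 11, 9], [5, 7, 4,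 7, 4, 4, 7, 4, 6, 4, 7, 4, 12, 13, 12, 8, 10, 10, 8, 11, 8, 10], [5, 5, 7, 7, 5, 6, 4, 7, 4, 7, 7, 5, 12, 13, 13, 8, 8, 10, 9, 10, 9], [4, 4, 7, 5, 5, 6, 4, 7, 5, 5, 6, 6, 12, 14, 12, 10, 8, 11, 9, 10, 8, 8, 11], [4, 4, 7, 5, 6, 6, 4, 7, 7, 7, 5, 5, 12, 14, 14, 10, 10, 8, 8, 11, 8, 10, 8], [6, 4, 4, 7, 4, 6, 5, 7, 7, 4, 6, 4, 14, 8, 10, 8, 8, 10, 8, 11, 9], [7, 7, 5, 7, 4, 4, 6, 4, 7, 4, 6, 6, 5, 14, 12, 9, 10, 8, 11, 8, 10, 9, 10], [7, 7, 7, 7, 4, 7, 4, 4, 7, 4, 6, 4, 4, 14, 12, 10, 8, 8, 10, 8, 8], [6, 6, 5, 5, 7, 5, 6, 6, 6, 5, 7, 5, 7, 12, 14, 14, 9, 10, 9, 11, 8, 11, 8, 10], [7, 7, 5, 6, 5, 6, 6, 4, 4, 7, 4, 6, 4, 12, 14, 9, 11, 8, 10, 10, 8, 11, 8], [5, 5, 7, 4, 7, 7, 4, 6, 4, 4, 4, 4, 4, 13,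 12, 13, 9, 11, 8, 10, 9], [6, 5, 6, 5, 6, 6, 6, 4, 7, 7, 5, 7, 7, 14, 14, 10, 8, 8, 10, 10, 8], [7, 7, 5, 7, 7, 7, 4, 6, 4, 4, 6, 6, 6, 14, 14, 8, 10, 8, 10, 10, 8], [6, 4, 6, 4, 6, 6, 4, 6, 4, 7, 7, 5, 7, 12, 14, 10, 8, 8, 10, 10, 9], [4, 4, 4, 6, 5, 5, 6, 5, 7, 4, 4, 7, 7, 12, 14, 10, 8, 11, 8, 11, 9, 11], [6, 6, 5, 6, 4, 7, 4, 7, 5, 7, 7, 4, 4, 12, 14, 11, 8, 10, 9, 10, 8, 11, 9], [6, 4, 4, 4, 6, 4, 6, 5, 7, 7, 4, 4, 4, 14, 12, 11, 8, 11, 8, 10, 8, 8, 11], [5, 5, 7, 7, 7, 4, 6, 5, 5, 5, 7, 5, 6, 13, 12, 13, 10, 8, 11, 9], [5, 5, 7, 5, 5, 5, 6, 6, 6, 5, 7, 7, 5, 13, 13, 10, 8, 8, 10, 9], [4, 4, 4, 6, 5, 6, 6, 6, 5, 7, 5, 5, 5, 14, 12, 10, 10, 9, 11, 8, 10], [5, 7, 5, 5, 6, 6, 6, 6, 4, 6, 4, 4, 7,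 14, 14, 8, 11, 8, 10, 10, 8, 11, 8, 11], [6, 4, 6, 4, 6, 4, 4, 7, 7, 4, 7, 5, 6, 12, 14, 12, 9, 10, 10, 9, 11, 8, 11], [4, 7, 4, 6, 5, 7, 4, 7, 5, 7, 5, 6, 4, 8, 10, 10, 8, 10, 9, 10, 9], [6, 5, 5, 5, 7, 7, 4, 4, 6, 6, 5, 5, 5, 14, 14, 8, 10, 9, 11, 8, 8, 10], [4, 4, 7, 5, 6, 4, 4, 6, 6, 5, 6, 6, 4, 12, 8, 8, 10, 8, 10], [6, 5, 5, 6, 5, 6, 6, 5, 6, 5, 5, 6, 4, 12, 8, 11, 8, 10, 8, 8, 10, 9, 10]]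
def BR_3 : List (List ℕ) := [[4, 4, 4, 6, 6, 4, 4, 7, 4, 7, 4, 4, 7, 14, 8, 8, 11, 9, 10, 9, 10, 10], [6, 6, 4, 7, 4, 6, 6, 6, 4, 4, 6, 6, 5, 12, 13, 10, 9, 11, 8, 10, 8, 8], [6, 6, 6, 4, 6, 5, 6, 4, 4, 6, 5, 6, 4, 13, 13, 8, 10, 10, 8, 10, 10, 8, 11], [4, 6, 6, 5, 6, 6, 4, 6, 6, 6, 4, 6, 4, 13, 12, 8, 10, 8, 10, 9, 10], [5, 5, 6, 4, 4, 7, 4, 4, 4, 7, 7, 5, 6, 12, 14, 8, 10, 9, 10, 9, 10, 8, 10], [7, 4, 6, 5, 5, 6, 6, 4, 7, 4, 6, 6, 4, 12, 13, 12, 13, 8, 8, 10, 9, 10, 9, 10], [6, 5, 6, 6, 6, 6, 4, 4, 7, 5, 5, 5, 6, 14, 12, 8, 8], [5, 7, 4, 7, 7, 7, 4, 7, 4, 4, 7, 7, 4, 13, 12, 9, 10, 10, 9, 11, 9, 10], [6, 4, 4, 6, 5, 5, 6, 5, 5, 5, 5, 5, 6, 12, 13, 12, 8, 10, 8, 10, 9, 10, 9], [4, 7, 7, 7, 5, 6,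 4, 6, 6, 6, 6, 5, 5, 14, 14, 10, 10, 9, 10, 8, 8, 10], [7, 4, 6, 4, 7, 4, 4, 4, 6, 4, 7, 7, 7, 12, 8, 10, 8, 8, 10, 8, 11], [4, 7, 7, 7, 4, 4, 6, 4, 4, 7, 7, 7, 4, 12, 8, 8, 10, 9, 10, 10], [6, 5, 7, 4, 4, 4, 4, 7, 4, 6, 6, 4, 7, 12, 14, 14, 8, 8, 11, 9, 10, 9], [6, 4, 7, 4, 6, 4, 6, 5, 7, 5, 6, 4, 4, 10, 8, 8, 10, 10, 9, 11, 8], [6, 5, 6, 4, 6, 5, 6, 6, 5, 6, 6, 5, 7, 12, 13, 12, 11, 8, 10, 9, 10, 8, 8], [6, 5, 6, 4, 6, 4, 4, 6, 4, 4, 7, 4, 7, 12, 14, 12, 10, 10, 8, 10], [4, 4, 7, 5, 5, 5, 6, 6, 5, 7, 7, 7, 4, 12, 10, 10, 9, 10, 10, 9], [6, 5, 5, 7, 4, 6, 4, 4, 7, 4, 4, 6, 4, 12, 13, 10, 8, 8, 10, 8, 10, 9, 11], [4, 4, 7, 7, 5, 7, 4, 4, 4, 6, 5, 7, 7, 12, 14, 10, 8, 8, 10, 10], [5, 5, 6, 6, 6, 4,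 4, 7, 4, 4, 4, 6, 5, 14, 12, 9, 11, 8, 11, 8, 11, 9, 10], [4, 4, 4, 4, 4, 7, 4, 7, 4, 4, 6, 5, 5, 14, 9, 10, 10, 9, 10, 10, 8, 8], [7, 7, 5, 7, 7, 4, 6, 6, 5, 6, 4, 4, 7, 14, 12, 9, 11, 8, 10, 10, 8, 8], [5, 5, 7, 7, 5, 5, 6, 5, 7, 4, 6, 4, 4, 13, 8, 11, 8, 10, 8, 8, 10, 10], [5, 5, 7, 7, 4, 4, 4, 4, 6, 4, 4, 7, 7, 14, 10, 8, 10], [5, 5, 7, 7, 4, 4, 6, 6, 4, 6, 5, 5, 5, 12, 14, 9, 10, 9, 11, 9, 10, 8, 10], [6, 6, 5, 6, 5, 5, 6, 4, 7, 4, 6, 4, 7, 14, 14, 8, 11, 8, 10, 9, 11, 8], [5, 5, 6, 6, 4, 7, 4, 6, 4, 7, 5, 6, 6, 12, 9, 11, 8, 10, 10], [5, 5, 6, 5, 5, 6, 4, 6, 6, 5, 5, 6, 6, 12, 13, 9, 10, 9, 11, 8, 10], [4, 4, 4, 6, 4, 6, 6, 5, 7, 5, 5, 5, 5, 13, 12, 13, 8, 10, 10, 8, 11, 8, 10, 9], [6, 4, 6,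 4, 4, 6, 6, 4, 6, 6, 4, 6, 4, 12, 13, 12, 13, 8, 11, 8, 10, 9, 11], [5, 6, 5, 7, 7, 7, 4, 6, 5, 6, 6, 4, 7, 14, 10, 8, 8, 10, 9, 11, 9], [7, 7, 4, 4, 6, 4, 4, 7, 7, 7, 4, 4, 7, 12, 14, 12, 10, 10, 8, 8, 11, 9, 10], [6, 5, 7, 4, 6, 4, 4, 6, 6, 6, 4, 6, 6, 12, 13, 12, 13, 8, 11, 8, 8, 10], [6, 5, 5, 5, 7, 5, 6, 5, 7, 5, 6, 6, 5, 14, 12, 8, 10, 9, 11, 8, 11], [6, 4, 4, 6, 4, 7, 4, 7, 4, 7, 7, 5, 5, 12, 14, 8, 8, 10, 9, 10, 9, 10, 8], [4, 4, 7, 4, 7, 5, 6, 5, 5, 7, 5, 7, 7, 13, 12, 8, 11, 9, 10, 10], [6, 6, 6, 4, 6, 6, 4, 6, 6, 6, 6, 5, 7, 13, 12, 8, 10, 8, 11, 8, 8, 10, 8], [6, 6, 6, 4, 6, 6, 6, 6, 4, 6, 6, 6, 5, 8], [5, 7, 4, 4, 7, 7, 4, 7, 4, 7, 4, 7, 7, 12, 11, 8, 11, 8, 11, 9], [5, 5, 5, 6, 5, 6,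 4, 7, 4, 6, 4, 6, 4, 14, 8, 8, 11, 8, 11, 8, 10, 10], [5, 7, 7, 7, 4, 6, 4, 4, 4, 7, 4, 4, 4, 12, 14, 14, 8, 11, 9, 11, 8, 10, 8], [5, 7, 7, 7, 4, 6, 6, 6, 5, 6, 6, 6, 4, 11, 8, 10, 10], [4, 4, 6, 4, 6, 4, 6, 5, 5, 6, 4, 6, 5, 12, 8, 11, 8, 10, 9, 10, 9], [4, 4, 6, 6, 4, 7, 4, 7, 4, 4, 6, 6, 6, 12, 14, 14, 8, 10, 8, 8, 10, 9, 11, 8], [4, 7, 5, 6, 6, 4, 4, 4, 6, 6, 6, 4, 4, 12, 14, 12, 9, 11, 8, 10, 9, 10, 10, 9, 11], [4, 7, 7, 7, 7, 5, 6, 6, 6, 4, 7, 7, 7, 14, 8, 10, 9, 10, 10, 8], [6, 5, 7, 5, 6, 4, 4, 7, 4, 4, 7, 5, 7, 8, 8, 10, 9, 10, 10, 9, 10], [7, 7, 5, 6, 6, 4, 6, 4, 4, 7, 5, 5, 5, 12, 13, 13, 10, 10, 8, 11, 9, 10, 8, 8], [5, 7, 7, 5, 7, 4, 6, 5, 6, 4, 7, 7, 5, 12, 9, 11, 8], [7, 7, 7, 4, 4,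 7, 4, 6, 4, 6, 5, 5, 5, 12, 14, 8, 11, 8, 11, 8, 11], [5, 6, 5, 6, 4, 4, 6, 5, 7, 7, 5, 5, 6, 12, 13, 10, 8, 8, 10, 10, 9, 11, 8, 10], [5, 6, 6, 5, 5, 6, 4, 7, 7, 7, 4, 7, 7, 13, 12, 13, 8, 8, 10, 9, 10, 10, 9, 10], [5, 6, 6, 5, 5, 6, 6, 5, 5, 7, 5, 5, 6, 14, 14, 8, 11, 9, 11, 8, 10, 10], [6, 4, 7, 5, 6, 4, 4, 7, 5, 5, 5, 6, 4, 12, 14, 12, 8, 8, 10, 10]]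
def BR_4 : List (List ℕ) := [[4, 4, 7, 7, 7, 7, 4, 4, 6, 5, 6, 5, 5, 12, 10, 10, 9, 10, 9, 11, 9], [5, 6, 6, 6, 5, 5, 6, 6, 6, 6, 5, 5, 7, 12, 13, 12, 8, 11, 8, 10, 10, 9, 10, 9, 10], [7, 7, 7, 4, 4, 4, 4, 7, 7, 4, 7, 5, 7, 12, 14, 8, 11, 9, 10, 9, 10, 10, 9], [7, 7, 7, 4, 4, 4, 6, 5, 7, 7, 7, 4, 7, 14, 11, 8, 10, 9, 10, 8, 11, 9, 11], [7, 4, 4, 6, 6, 4, 6, 4, 7, 5, 7, 7, 5, 13, 13, 10, 8], [6, 6, 4, 4, 4, 4, 4, 7, 7, 5, 6, 4, 7, 8, 8, 10, 10, 9, 10, 10], [7, 7, 4, 6, 6, 6, 6, 5, 6, 4, 7, 7, 7, 14, 8, 10, 9, 10, 10, 8], [6, 5, 7, 5, 5, 5, 6, 5, 5, 5, 6, 5, 5, 12, 10, 10, 9, 10, 9, 11, 9], [7, 4, 6, 6, 5, 6, 4, 7, 4, 6, 6, 5, 7, 13, 12, 9, 10, 9, 10, 10, 9], [5, 5, 6, 5, 7, 7, 4, 6, 4, 6, 5, 7, 7,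 13, 12, 13, 8, 11, 8, 10, 9, 10, 8, 10, 10], [7, 4, 6, 4, 4, 6, 6, 6, 6, 6, 4, 7, 4, 13, 8, 10, 9, 11, 9, 10], [6, 4, 7, 5, 6, 6, 6, 4, 6, 5, 5, 7, 7, 12, 14, 12, 8, 11, 8, 11, 8, 11], [4, 7, 4, 4, 7, 5, 6, 5, 7, 7, 5, 7, 7, 13, 13, 8, 8, 11, 9], [5, 7, 5, 5, 5, 6, 4, 4, 7, 5, 6, 6, 5, 12, 10, 10, 8, 11, 9], [6, 5, 7, 5, 7, 7, 4, 7, 4, 4, 7, 5, 5, 13, 9, 10, 9, 11, 9, 10], [5, 6, 6, 6, 4, 6, 6, 5, 6, 4, 6, 5, 7, 12, 14, 8, 11, 9, 10, 8, 8, 11], [6, 4, 7, 5, 5, 6, 4, 6, 5, 5, 6, 4, 4, 12, 14, 14, 10, 9, 10, 8, 8, 10, 9], [7, 7, 4, 6, 5, 7, 4, 7, 5, 5, 6, 4, 4, 12, 14, 12, 10, 9, 11, 9, 11], [5, 6, 5, 7, 4, 7, 4, 7, 7, 7, 5, 5, 7, 14, 12, 8, 10, 8, 10, 9, 10, 8, 11], [6, 4, 6, 6, 5, 6, 4, 4, 6, 6, 4,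 4, 7, 14, 14, 8, 10, 9], [4, 7, 5, 6, 4, 4, 4, 4, 6, 5, 6, 6, 4, 12, 14, 12, 8, 10, 8, 11, 8], [6, 4, 6, 5, 7, 4, 4, 6, 6, 4, 6, 5, 7, 14, 14, 9, 11, 8, 11, 8, 11, 9], [6, 4, 6, 5, 7, 4, 6, 4, 6, 4, 4, 7, 4, 13, 12, 13, 10, 10, 9, 10, 10, 9], [5, 5, 6, 5, 5, 5, 6, 5, 5, 7, 4, 4, 4, 13, 12, 13, 8, 10, 9, 10, 10, 8], [5, 5, 7, 4, 7, 4, 6, 6, 6, 6, 6, 4, 4, 12, 14, 14, 8, 10, 10, 8, 11, 8, 8], [5, 7, 5, 7, 5, 6, 6, 4, 4, 7, 4, 4, 4, 14, 14, 8, 8, 10, 8, 10, 9, 11], [6, 6, 4, 6, 4, 7, 4, 4, 6, 5, 5, 5, 6, 13, 12, 13, 8, 8, 10, 9, 11, 8], [7, 4, 4, 6, 4, 4, 6, 6, 4, 7, 7, 5, 5, 14, 12, 9, 10, 8, 8, 11, 8, 11], [5, 7, 4, 7, 4, 6, 4, 6, 5, 6, 4, 4, 7, 12, 8, 11, 8, 10, 9, 10, 10, 8], [5, 7, 4, 6, 6, 6, 4,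 4, 7, 4, 7, 5, 5, 12, 13, 8, 8, 10, 9, 10, 10], [6, 6, 4, 7, 4, 4, 4, 6, 6, 6, 5, 6, 4, 13, 13, 8, 8, 10, 9, 10, 10], [4, 6, 6, 4, 7, 4, 6, 4, 6, 6, 5, 5, 5, 12, 10, 9, 10, 8, 10, 10, 9], [7, 4, 4, 7, 7, 5, 6, 5, 5, 5, 5, 7, 7, 13, 13, 9, 11, 8, 10, 9, 10, 10, 8, 8], [6, 5, 5, 7, 7, 4, 6, 4, 4, 7, 4, 6, 5, 12, 8, 10, 8, 10, 9, 11, 8, 10], [7, 4, 4, 6, 4, 6, 6, 5, 7, 4, 6, 6, 5, 12, 13, 10, 8, 10, 9, 11, 9, 10], [4, 7, 5, 5, 6, 5, 6, 6, 6, 4, 7, 4, 4, 14, 12, 8, 10, 8, 10, 10, 9, 10, 8, 10], [6, 4, 6, 5, 6, 5, 6, 4, 6, 4, 4, 6, 5, 12, 13, 13, 9, 10, 8, 11, 8, 10, 10, 9], [5, 5, 5, 5, 7, 4, 6, 6, 6, 4, 4, 6, 6, 12, 8, 11, 9, 10, 9], [5, 5, 7, 4, 6, 5, 6, 5, 6, 6, 4, 7, 7, 12, 13, 12, 13, 8, 11, 8, 8,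 11, 9, 11], [4, 7, 7, 7, 5, 7, 4, 4, 6, 6, 6, 6, 4, 13, 12, 13, 9, 10, 10, 8, 10, 9, 11], [7, 4, 4, 4, 4, 6, 4, 7, 4, 4, 7, 7, 5, 12, 14, 14, 8, 10, 9, 10, 9, 10], [4, 4, 7, 4, 4, 4, 4, 4, 4, 7, 5, 6, 5, 14, 9, 10, 8, 10, 10, 8, 10], [4, 6, 6, 5, 5, 6, 6, 6, 5, 5, 5, 5, 6, 13, 13, 8, 10, 8, 8, 10, 8, 8], [6, 5, 7, 4, 4, 6, 6, 6, 5, 7, 4, 7, 7, 12, 14, 12, 8, 10, 8, 8, 10, 8, 10], [4, 6, 6, 4, 4, 6, 6, 6, 5, 7, 4, 7, 4, 13, 13, 10, 9, 11, 9, 11, 8, 10, 10], [7, 7, 7, 5, 6, 6, 4, 7, 7, 5, 5, 6, 5, 12, 14, 8, 10, 8, 11, 9, 11], [5, 6, 5, 7, 7, 5, 6, 5, 7, 4, 7, 4, 4, 12, 13, 12, 13, 8, 11, 8, 10, 8, 8, 10, 10], [6, 5, 7, 7, 5, 6, 6, 6, 6, 4, 4, 4, 7, 12, 13, 8, 11, 9, 10, 8, 11, 8], [4, 7, 5, 7, 4, 4,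 6, 5, 6, 6, 6, 4, 7, 12, 9, 10, 9, 10, 10], [5, 5, 5, 6, 5, 5, 6, 5, 6, 6, 6, 6, 4, 12, 8, 8, 10, 10, 8, 10, 10, 8], [4, 4, 6, 4, 4, 4, 4, 4, 7, 4, 4, 7, 7, 12, 13, 12, 13, 8, 10, 9, 11, 9, 10, 8, 10], [4, 4, 6, 4, 4, 4, 6, 4, 6, 5, 7, 5, 7, 8, 8, 10, 9, 11, 9, 10], [6, 4, 7, 7, 4, 7, 4, 7, 4, 7, 4, 7, 4, 12, 13, 12, 13, 8, 8, 10, 9, 11, 8, 10, 8], [6, 6, 5, 7, 4, 7, 4, 7, 4, 4, 7, 4, 7, 12, 14, 10, 8, 8, 10, 9]]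
def BR_5 : List (List ℕ) := [[5, 5, 5, 5, 5, 6, 6, 6, 5, 5, 6, 4, 4, 12, 14, 10, 8, 8, 10, 9, 11, 9], [4, 7, 4, 4, 7, 4, 4, 6, 6, 4, 7, 4, 4, 10, 10, 8, 11, 8], [6, 6, 4, 6, 6, 4, 6, 4, 6, 4, 6, 6, 6, 14, 14, 9, 10, 8, 11, 8, 8, 11], [5, 6, 5, 5, 6, 6, 4, 7, 4, 7, 7, 4, 7, 14, 8, 11, 8, 11, 8, 8], [4, 7, 5, 6, 6, 6, 6, 5, 5, 7, 4, 6, 5, 14, 10, 10, 8, 11, 8, 10], [5, 6, 6, 6, 5, 6, 4, 7, 7, 4, 7, 7, 4, 13, 11, 8, 10, 9, 10, 9], [6, 6, 4, 6, 5, 7, 4, 4, 7, 7, 7, 4, 4, 12, 13, 13, 9, 11, 8, 10, 10, 8], [7, 4, 6, 5, 6, 5, 6, 6, 6, 5, 6, 5, 7, 13, 12, 13, 8, 10, 8, 10, 9, 11, 9, 11], [6, 5, 6, 6, 5, 6, 6, 6, 6, 5, 5, 5, 6, 13, 9, 11, 9, 10, 8, 10], [6, 5, 7, 4, 7, 4, 4, 4, 6, 5, 6, 5, 7, 14, 12, 8, 8,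 10, 8, 10, 9, 11], [6, 5, 7, 4, 7, 4, 6, 4, 4, 4, 7, 5, 6, 12, 13, 12, 13, 10, 10, 9, 10, 10, 8], [5, 7, 4, 4, 4, 7, 4, 7, 7, 5, 7, 5, 6, 12, 13, 12, 11, 8, 10, 9, 10], [7, 4, 4, 6, 5, 5, 6, 4, 6, 4, 4, 4, 7, 12, 14, 14, 9, 10, 9, 11, 9, 10, 8], [5, 5, 5, 7, 7, 4, 6, 5, 6, 6, 5, 6, 6, 13, 12, 13, 8, 11, 8, 11, 8, 10, 8], [6, 4, 6, 4, 4, 4, 6, 4, 7, 5, 5, 5, 6, 14, 14, 8, 11, 8, 10, 10, 8, 11, 8, 11], [6, 6, 4, 7, 5, 6, 6, 4, 7, 5, 5, 5, 7, 14, 10, 8, 11, 8, 10, 9, 10], [5, 7, 4, 6, 6, 4, 4, 7, 5, 6, 4, 4, 4, 12, 14, 14, 9, 11, 8, 10, 9, 10], [5, 7, 4, 4, 4, 4, 4, 6, 4, 4, 4, 6, 4, 12, 13, 12, 13, 10, 9, 10, 8, 8, 10, 8], [6, 4, 4, 4, 7, 5, 6, 4, 4, 4, 6, 6, 6, 13, 12, 10, 10, 8, 11, 8, 10, 9, 10],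 [6, 5, 6, 6, 4, 4, 4, 7, 7, 5, 5, 6, 4, 11, 8, 11], [6, 5, 6, 6, 4, 4, 6, 5, 7, 5, 5, 7, 7, 13, 12, 8, 8, 10, 10, 9, 11, 8, 10], [6, 4, 4, 7, 5, 5, 6, 4, 7, 7, 5, 6, 6, 12, 13, 12, 8, 8, 10, 9, 10, 10, 8, 11, 9], [4, 4, 7, 4, 6, 5, 6, 5, 7, 4, 7, 5, 5, 13, 10, 10, 8, 8, 11, 8, 10], [6, 5, 5, 5, 6, 6, 4, 4, 4, 6, 4, 4, 7, 13, 9, 10, 8, 11, 8, 10, 10, 9], [4, 6, 6, 6, 4, 4, 6, 4, 4, 4, 7, 7, 5, 13, 12, 8, 10, 9, 10, 9, 10, 9], [6, 4, 4, 4, 4, 6, 4, 6, 4, 7, 7, 4, 4, 12, 13, 12, 13, 9, 11, 8, 10, 9, 10, 10, 8, 10], [5, 6, 5, 6, 6, 4, 4, 7, 5, 7, 5, 5, 7, 14, 12, 11, 8, 11, 8, 11], [5, 6, 5, 6, 6, 4, 6, 4, 6, 5, 5, 5, 6, 13, 12, 9, 11, 8, 10, 9, 10, 10, 8, 10], [7, 7, 4, 4, 7, 4, 4, 7, 7, 5, 5, 6, 6,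 12, 14, 12, 10, 10, 8, 11, 9, 10, 8, 8], [5, 5, 6, 4, 6, 4, 4, 7, 7, 5, 5, 5, 7, 12, 13, 13, 8, 11], [4, 4, 7, 4, 7, 4, 4, 7, 4, 7, 5, 5, 5, 13, 8, 10, 10, 9, 10], [4, 7, 7, 5, 7, 5, 6, 4, 7, 4, 7, 7, 7, 13, 13, 9, 10, 8, 8, 10], [4, 4, 7, 4, 6, 4, 6, 5, 7, 5, 6, 5, 5, 12, 13, 9, 10, 8, 11, 8, 10, 10, 8, 8], [7, 7, 7, 4, 6, 4, 6, 6, 4, 6, 4, 6, 5, 8, 8, 10, 9, 11, 8, 8], [5, 7, 7, 5, 6, 6, 6, 4, 6, 6, 4, 4, 7, 8, 11, 9, 10, 9, 10, 10, 9], [4, 4, 7, 5, 5, 6, 6, 5, 7, 7, 7, 5, 5, 12, 13, 8, 11, 9, 10, 9, 11, 8], [7, 7, 5, 6, 5, 5, 6, 6, 5, 7, 5, 7, 7, 12, 13, 12, 8, 11, 8, 11, 8, 11, 8], [4, 4, 4, 7, 7, 4, 4, 6, 6, 4, 6, 4, 4, 12, 13, 13, 11, 8, 10, 9, 10, 8], [7, 4, 4, 4, 7, 7, 4, 6, 5, 5, 7, 4, 4,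 13, 13, 10, 9, 10, 8, 8, 10], [7, 7, 4, 6, 4, 4, 4, 6, 6, 5, 5, 7, 7, 12, 13, 9, 11, 8, 10, 10, 8, 11], [7, 7, 4, 6, 4, 4, 6, 5, 5, 6, 4, 4, 7, 14, 14, 10, 10, 9, 10, 10, 8, 8], [5, 7, 4, 4, 4, 6, 4, 6, 5, 6, 4, 6, 4, 13, 13, 8, 11, 8, 11, 8, 11], [5, 7, 4, 4, 6, 6, 6, 6, 4, 4, 7, 7, 7, 13, 12, 13, 10, 8, 10], [5, 6, 6, 4, 4, 6, 4, 6, 4, 6, 6, 6, 5, 12, 14, 12, 8, 10, 10, 8, 10, 9, 11], [5, 5, 7, 4, 6, 6, 4, 4, 7, 4, 7, 5, 6, 12, 13, 13, 9, 10, 10], [4, 7, 5, 5, 5, 7, 4, 6, 5, 6, 5, 6, 5, 12, 8, 10, 8, 10, 10], [6, 6, 4, 6, 4, 4, 4, 6, 4, 6, 5, 6, 4, 13, 12, 13, 10, 8, 11, 8], [6, 6, 4, 4, 7, 7, 4, 7, 4, 7, 7, 7, 5, 12, 14, 8, 10, 8, 10, 9, 11, 8, 10, 10], [7, 7, 7, 4, 7, 5, 6, 4, 7, 7, 7, 4, 6, 5,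 14, 12, 8, 10, 10, 8, 10, 9, 11, 9], [6, 5, 5, 7, 7, 5, 6, 4, 4, 7, 5, 5, 6, 5, 12, 14, 10, 9, 10, 10, 8], [4, 7, 5, 6, 6, 5, 6, 6, 6, 5, 7, 7, 5, 5, 12, 13, 12, 8, 8, 10, 9, 11, 8, 8, 10], [6, 4, 4, 4, 7, 7, 4, 7, 5, 5, 5, 5, 5, 5, 12, 10, 10, 9, 11, 8, 10], [4, 4, 7, 5, 7, 4, 4, 6, 4, 7, 7, 4, 6, 4, 10, 10, 9, 10, 9, 11, 8, 8], [6, 4, 6, 4, 7, 5, 6, 4, 4, 6, 6, 5, 6, 4, 12, 13, 13, 10, 10, 8, 11, 8, 11, 9, 10, 8]]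
def BR_6 : List (List ℕ) := [[4, 4, 4, 4, 6, 6, 4, 4, 4, 6, 5, 7, 5, 5, 13, 9, 10, 10, 9, 10, 8, 10, 10], [7, 7, 5, 5, 7, 7, 4, 6, 5, 6, 4, 6, 5, 5, 13, 13, 8, 10, 9, 11, 8, 8, 10], [5, 5, 5, 5, 5, 6, 4, 4, 6, 5, 7, 7, 4, 7, 13, 13, 9, 10, 8, 11, 8, 11], [5, 5, 5, 5, 5, 6, 4, 6, 6, 4, 7, 4, 4, 7, 12, 13, 13, 11, 8, 10, 9, 10], [5, 7, 5, 5, 7, 4, 4, 6, 5, 5, 5, 7, 4, 7, 14, 12, 8, 10, 10, 8, 10, 9, 11, 9], [5, 5, 6, 5, 5, 6, 6, 4, 4, 7, 4, 4, 7, 4, 12, 14, 14, 8, 10, 8, 8, 10, 10], [5, 5, 6, 5, 5, 6, 6, 6, 5, 6, 5, 5, 6, 6, 12, 13, 13, 8, 8, 11, 8, 10, 10], [5, 5, 7, 4, 7, 5, 6, 6, 5, 7, 5, 7, 4, 4, 13, 12, 10, 9, 10, 8, 10, 10, 9, 11], [7, 7, 4, 4, 6, 6, 4, 6, 5, 6, 6, 5, 5, 5, 8, 10, 10, 8, 11, 8],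 [7, 7, 4, 4, 6, 6, 6, 4, 6, 4, 4, 4, 6, 5, 12, 13, 12, 9, 10, 10, 8, 10, 9, 10, 9], [4, 4, 6, 6, 4, 4, 6, 6, 5, 7, 5, 7, 7, 4, 12, 8, 10, 8, 10, 10, 8], [4, 4, 7, 7, 7, 5, 6, 4, 4, 6, 4, 7, 7, 5, 14, 9, 10, 9, 10, 10, 8, 10], [5, 7, 5, 7, 5, 5, 6, 6, 6, 4, 7, 7, 7, 4, 13, 13, 9, 11, 8, 10, 10, 8, 11], [6, 4, 6, 4, 6, 6, 6, 6, 4, 7, 5, 7, 4, 4, 12, 13, 12, 13, 10, 9, 10, 8, 10, 10], [6, 4, 4, 4, 6, 4, 4, 7, 7, 7, 5, 7, 5, 5, 13, 12, 8, 11, 9, 10, 9, 10], [4, 4, 6, 4, 4, 7, 7, 4, 4, 7, 5, 6, 4, 4, 12, 13, 12, 13, 8, 10, 8, 11, 8, 11, 8, 8], [7, 7, 4, 7, 5, 6, 4, 7, 7, 7, 4, 4, 6, 5, 13, 9, 10, 8, 8, 11, 9, 10], [7, 7, 4, 7, 5, 6, 6, 6, 4, 7, 4, 6, 5, 5, 12, 14, 14, 8, 10, 10, 8, 10, 10, 8, 11, 8, 11],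 [5, 7, 7, 7, 4, 7, 4, 4, 6, 4, 6, 4, 4, 4, 12, 14, 11, 8, 10, 9, 10, 8], [4, 7, 5, 6, 4, 6, 4, 4, 7, 5, 5, 5, 5, 6, 12, 13, 8, 8, 10, 10, 8, 10, 10], [7, 4, 4, 6, 4, 7, 4, 4, 4, 4, 6, 5, 6, 4, 12, 13, 13, 8, 8, 10, 9, 10, 8, 11, 8], [4, 7, 7, 4, 6, 4, 4, 4, 7, 4, 7, 5, 5, 7, 8, 11, 8, 10, 8, 8], [5, 5, 7, 4, 4, 4, 4, 4, 4, 6, 4, 7, 4, 4, 12, 13, 12, 9, 11, 9, 10], [4, 4, 4, 7, 7, 5, 6, 4, 4, 7, 7, 5, 6, 6, 14, 10, 10, 9, 10, 10, 8, 8], [6, 5, 6, 5, 5, 7, 4, 4, 4, 7, 4, 7, 4, 4, 12, 14, 14, 8, 11, 8], [7, 7, 7, 4, 7, 4, 4, 4, 4, 7, 5, 5, 6, 4, 13, 12, 8, 10, 8, 11, 9, 11, 8], [5, 7, 5, 6, 4, 7, 4, 7, 5, 5, 7, 5, 6, 4, 12, 13, 13, 10, 8, 10, 10, 9, 10, 8], [4, 7, 5, 6, 5, 7, 5, 6, 4, 7, 7, 7, 4, 4,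 12, 14, 14, 10, 10, 9, 10, 10, 9, 10], [6, 6, 5, 7, 7, 4, 4, 7, 7, 7, 5, 6, 4, 4, 14, 14, 8, 10, 10, 9, 10, 10, 8], [6, 6, 5, 7, 7, 4, 6, 6, 4, 7, 5, 6, 5, 7, 12, 14, 14, 10, 8, 11, 9, 10, 8], [4, 4, 6, 5, 6, 5, 6, 6, 4, 4, 4, 4, 7, 4, 12, 13, 12, 8, 8, 10, 9, 10, 10, 8, 11], [6, 5, 5, 7, 5, 7, 4, 6, 5, 6, 5, 5, 5, 7, 12, 10, 10, 9, 10, 9, 10], [5, 6, 5, 7, 4, 6, 5, 6, 5, 6, 6, 5, 7, 7, 13, 13, 10, 8, 8, 11, 9], [5, 7, 4, 6, 4, 4, 4, 7, 4, 7, 4, 7, 4, 4, 12, 14, 12, 9, 10, 9, 11, 8, 8, 10, 10], [5, 7, 7, 4, 4, 4, 4, 7, 7, 5, 7, 7, 5, 5, 14, 14, 8, 11, 8, 10, 9, 10, 8, 10], [5, 7, 7, 4, 4, 4, 6, 5, 6, 6, 6, 4, 6, 4, 12, 8, 10, 10, 9, 10, 10, 8, 10], [4, 7, 4, 4, 4, 7, 4, 6, 4, 7, 5, 5, 6, 5, 13, 12,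 13, 9, 10, 8, 8, 10, 9, 10], [4, 7, 5, 5, 7, 4, 7, 4, 7, 5, 7, 4, 6, 5, 12, 13, 9, 10, 8, 10, 10], [4, 4, 6, 6, 5, 6, 4, 4, 7, 5, 6, 4, 6, 4, 12, 8, 10, 9, 11, 9, 10, 10], [4, 7, 4, 4, 4, 6, 5, 6, 4, 6, 5, 7, 5, 6, 14, 14, 8, 10, 9, 11], [7, 4, 6, 6, 5, 5, 7, 4, 7, 7, 4, 4, 6, 6, 12, 14, 14, 8, 10, 8, 10, 10, 8, 8, 10], [4, 7, 7, 5, 6, 5, 5, 6, 5, 5, 7, 5, 6, 6, 13, 12, 8, 10, 9, 11, 9, 10, 8, 10], [5, 6, 5, 6, 4, 6, 4, 4, 7, 7, 7, 7, 5, 5, 12, 8, 10, 8, 11, 8, 8, 11, 8, 8], [4, 7, 5, 5, 5, 5, 6, 6, 5, 7, 7, 7, 4, 4, 13, 12, 10, 8, 8, 10, 8, 11, 8], [6, 4, 6, 4, 4, 7, 4, 4, 7, 5, 5, 7, 5, 7, 8, 10, 10, 8, 10, 9, 10], [6, 5, 6, 5, 7, 7, 5, 6, 4, 7, 4, 7, 5, 6, 12, 13, 13, 9, 11, 8, 8, 11, 9], [5, 5,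 6, 4, 6, 6, 4, 4, 7, 4, 7, 4, 4, 4, 13, 12, 9, 10, 8, 8, 10], [6, 6, 6, 5, 5, 6, 4, 4, 6, 4, 6, 5, 6, 6, 14, 12, 8, 10, 9, 11, 9, 11], [6, 4, 7, 4, 7, 7, 4, 6, 6, 4, 6, 5, 6, 6, 13, 13, 9, 10, 9, 10, 10], [4, 6, 6, 6, 5, 7, 5, 6, 6, 6, 6, 4, 6, 5, 12, 13, 13, 8, 10, 9, 10, 10, 8, 8], [6, 4, 4, 7, 4, 7, 4, 4, 4, 7, 5, 5, 6, 5, 12, 13, 10, 9, 11, 8]]
def BR_7 : List (List ℕ) := [[5, 6, 5, 7, 5, 5, 6, 6, 6, 6, 4, 7, 5, 5, 13, 8, 10, 8, 10, 10, 8, 8, 10], [6, 6, 4, 4, 6, 4, 4, 4, 7, 7, 4, 4, 4, 4, 12, 13, 12, 13, 8, 8, 10, 10, 9, 10], [6, 6, 4, 4, 6, 4, 6, 5, 7, 4, 4, 7, 5, 5, 12, 13, 13, 10, 10, 9, 10, 8, 11, 9], [5, 7, 4, 4, 6, 5, 6, 4, 4, 7, 4, 6, 5, 5, 12, 14, 12, 10, 10, 9, 10, 9, 11], [5, 7, 5,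 7, 4, 7, 4, 7, 5, 7, 5, 7, 7, 4, 13, 8, 10, 9, 11, 8, 11, 9, 10, 9], [6, 4, 4, 4, 6, 6, 4, 6, 6, 6, 4, 4, 7, 7, 13, 13, 8, 10, 9, 10], [6, 6, 6, 5, 6, 4, 4, 7, 4, 7, 7, 5, 6, 4, 14, 8, 10, 8, 8, 10, 8, 11], [6, 6, 4, 6, 4, 6, 6, 4, 6, 4, 6, 6, 5, 5, 12, 14, 12, 8, 11, 9, 10, 8, 8, 11], [6, 6, 4, 4, 4, 7, 4, 4, 4, 4, 4, 7, 4, 7, 13, 12, 8, 11, 9, 11, 8, 10, 8, 11], [4, 4, 6, 5, 6, 4, 4, 4, 4, 4, 4, 6, 6, 5, 13, 12, 13, 10, 8, 8, 10, 8, 10, 10], [4, 4, 6, 5, 6, 4, 4, 6, 4, 6, 6, 4, 7, 7, 12, 13, 13, 8, 8, 10, 8, 10, 9, 10], [6, 4, 4, 7, 4, 4, 4, 6, 5, 7, 7, 4, 6, 5, 14, 14, 10, 10, 8, 11, 9, 10, 8], [4, 4, 6, 6, 6, 4, 4, 4, 6, 5, 5, 5, 5, 5, 12, 14, 12, 10, 9, 10, 9, 10, 10, 8, 11], [5, 7, 5, 7, 5,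 7, 4, 4, 7, 4, 6, 5, 7, 7, 12, 9, 10, 8, 11, 8, 10, 9], [6, 5, 5, 5, 5, 5, 6, 4, 6, 4, 4, 7, 4, 4, 13, 13, 10, 10, 9, 10, 9, 10, 10, 8, 11], [6, 6, 6, 5, 5, 5, 6, 6, 4, 6, 5, 6, 5, 7, 12, 13, 12, 8, 8, 11], [4, 4, 4, 6, 6, 5, 7, 4, 4, 4, 7, 4, 6, 5, 12, 14, 8, 11, 9, 11, 8], [4, 7, 7, 7, 4, 6, 4, 6, 5, 7, 4, 4, 6, 6, 12, 13, 12, 13, 8, 11, 8, 10, 10, 9, 10], [7, 4, 6, 5, 5, 5, 6, 5, 7, 4, 6, 4, 7, 4, 12, 13, 10, 10, 9, 10, 10, 8, 11, 8], [5, 7, 5, 5, 5, 7, 4, 6, 5, 5, 5, 7, 5, 5, 12, 14, 14, 8, 11, 8, 10, 8, 8], [6, 4, 4, 6, 5, 6, 4, 7, 5, 7, 4, 6, 5, 5, 12, 13, 12, 13, 9, 10, 8, 8, 11, 9], [7, 7, 5, 5, 6, 6, 6, 5, 7, 4, 7, 7, 4, 4, 12, 14, 10, 9, 11, 8, 10, 9], [4, 4, 6, 4, 7, 7, 5, 6, 6, 5, 5, 6,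 6, 4, 13, 13, 8, 10, 9, 10, 9, 10, 8], [6, 5, 6, 4, 6, 4, 6, 4, 4, 7, 5, 7, 7, 4, 12, 13, 12, 13, 9, 11, 9, 10, 9, 10], [5, 6, 5, 5, 7, 5, 6, 5, 6, 6, 6, 5, 5, 5, 9, 11, 9, 11, 8, 11, 8, 11], [4, 7, 5, 7, 7, 7, 4, 6, 4, 4, 4, 7, 4, 4, 14, 12, 8, 10, 8, 8, 10, 8, 10], [6, 5, 5, 7, 4, 6, 6, 4, 4, 6, 5, 6, 4, 4, 12, 13, 13, 10, 9, 10, 8, 8], [6, 6, 4, 4, 4, 6, 6, 5, 7, 7, 5, 5, 5, 7, 8, 10, 10, 8, 10, 10, 8, 11, 8], [6, 5, 7, 7, 5, 7, 5, 6, 4, 4, 7, 5, 5, 6, 13, 12, 13, 8, 8, 10, 8, 10, 10, 9], [7, 7, 5, 7, 7, 4, 4, 6, 6, 6, 4, 4, 7, 4, 12, 14, 14, 8, 11, 8, 10, 9, 10, 10, 9], [4, 4, 7, 5, 6, 4, 6, 4, 6, 5, 7, 4, 7, 7, 12, 14, 12, 10, 9, 11, 9, 11, 8, 10], [4, 4, 7, 5, 6, 4, 6, 6, 4, 7, 7, 4, 6, 6, 13,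 11, 8, 10, 10, 9], [4, 7, 7, 5, 5, 6, 4, 6, 5, 5, 5, 5, 6, 5, 13, 12, 13, 8, 11, 8, 10, 9, 10], [4, 4, 4, 4, 6, 5, 7, 4, 7, 5, 5, 7, 7, 5, 13, 13, 8, 8, 10, 8, 11, 9, 11], [5, 7, 7, 4, 7, 4, 7, 4, 4, 4, 7, 5, 5, 7, 14, 8, 8, 11, 9, 10, 8, 10], [5, 5, 6, 4, 4, 4, 4, 6, 6, 4, 6, 6, 5, 7, 13, 12, 13, 9, 11, 8, 10, 10, 8, 11, 8], [4, 7, 4, 4, 6, 6, 4, 6, 4, 4, 4, 4, 6, 4, 12, 8, 8, 10, 8, 11, 9, 10, 8], [6, 6, 6, 5, 5, 6, 6, 5, 7, 5, 5, 6, 4, 4, 14, 8, 10, 9, 11, 9, 10, 10], [4, 7, 4, 6, 6, 6, 4, 6, 6, 5, 5, 7, 7, 5, 8, 11, 9, 10, 8, 8], [5, 5, 6, 6, 4, 4, 7, 4, 4, 6, 5, 5, 6, 6, 14, 12, 8, 11, 8, 10, 8, 8, 11], [5, 5, 7, 4, 4, 6, 6, 4, 6, 5, 5, 7, 5, 5, 12, 14, 12, 8, 10, 9, 10, 10, 8, 8, 11], [4, 7,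 7, 7, 4, 4, 4, 6, 5, 7, 4, 6, 5, 7, 13, 12, 13, 8, 10, 8, 10, 9, 11, 8], [5, 6, 5, 5, 7, 5, 5, 6, 6, 4, 4, 4, 6, 4, 14, 14, 8, 8, 10, 9, 10, 9, 10], [6, 4, 6, 5, 5, 5, 6, 6, 4, 4, 4, 6, 6, 5, 13, 12, 10, 8, 8, 10, 10, 8], [5, 6, 6, 5, 5, 5, 7, 4, 4, 4, 4, 6, 4, 7, 14, 14, 10, 9, 10, 9, 11, 9, 10, 8, 11], [6, 5, 7, 5, 5, 6, 4, 6, 5, 6, 5, 7, 4, 7, 14, 12, 8, 8, 10, 9, 10, 10, 8, 10], [5, 6, 6, 6, 4, 4, 4, 4, 6, 5, 5, 5, 6, 5, 12, 13, 12, 10, 10, 8, 8, 11, 9, 10], [5, 7, 4, 7, 5, 6, 5, 6, 6, 5, 5, 6, 4, 7, 13, 13, 9, 11, 8, 10, 9, 10], [4, 4, 4, 4, 4, 4, 6, 6, 6, 6, 4, 6, 5, 5, 12, 13, 12, 8, 10, 8, 11, 9, 11, 8, 11], [6, 5, 7, 4, 6, 4, 6, 4, 7, 7, 5, 7, 7, 4, 12, 13, 13, 10, 9, 10, 9, 10, 10, 8]]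
def BR_8 : List (List ℕ) := [[4, 4, 4, 4, 7, 7, 4, 4, 6, 6, 4, 6, 5, 5, 12, 13, 12, 10, 8, 10, 9, 11, 8, 10], [6, 5, 6, 6, 4, 6, 4, 6, 4, 4, 4, 4, 6, 6, 12, 11, 8, 11, 8, 10, 9, 10, 10], [7, 7, 4, 4, 7, 5, 6, 6, 6, 6, 6, 4, 4, 4, 12, 13, 13, 8, 10, 8, 8, 10, 8, 10, 10], [5, 5, 5, 7, 5, 5, 7, 4, 6, 4, 6, 4, 7, 4, 12, 14, 9, 10, 9, 11], [5, 5, 6, 5, 5, 7, 7, 4, 6, 6, 4, 7, 7, 7, 13, 12, 13, 11, 8, 10, 9, 10, 8, 11], [5, 7, 5, 7, 4, 6, 4, 6, 4, 7, 5, 7, 4, 4, 13, 12, 13, 10, 8, 11, 9, 10, 8, 8, 11], [6, 5, 5, 7, 7, 7, 4, 4, 4, 6, 5, 7, 4, 4, 12, 14, 9, 10, 9, 11, 9, 10], [5, 5, 5, 6, 5, 6, 6, 6, 4, 6, 6, 6, 5, 5, 13, 9, 10, 8, 8, 11, 8, 10, 10], [4, 7, 5, 7, 7, 4, 4, 7, 5, 6, 6, 6, 5, 5, 13, 12, 13,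 8, 8, 10, 9, 11, 8, 10], [4, 7, 5, 7, 7, 4, 6, 4, 7, 5, 5, 6, 5, 5, 12, 13, 9, 11, 9, 11, 8, 11, 8], [6, 5, 6, 5, 5, 5, 7, 4, 6, 5, 7, 5, 5, 6, 12, 14, 12, 10, 10, 8, 8, 10, 10, 8, 11], [6, 6, 4, 7, 5, 5, 6, 5, 7, 4, 4, 4, 7, 4, 12, 14, 8, 10, 9, 10, 9, 10, 8, 8], [4, 4, 4, 4, 6, 6, 5, 6, 6, 5, 6, 5, 7, 7, 13, 12, 13, 9, 11, 8], [6, 5, 7, 5, 6, 6, 4, 4, 4, 7, 7, 5, 6, 4, 13, 13, 9, 10, 9], [6, 5, 7, 7, 4, 7, 4, 4, 6, 4, 6, 6, 6, 4, 13, 12, 10, 9, 10, 10, 9], [4, 7, 5, 5, 7, 5, 5, 6, 5, 6, 6, 4, 6, 6, 13, 8, 10, 8, 11, 8], [5, 5, 5, 6, 5, 6, 5, 6, 5, 6, 4, 7, 4, 4, 13, 11, 8, 10, 8], [4, 4, 4, 6, 5, 6, 4, 4, 4, 7, 7, 7, 4, 7, 13, 13, 10, 8, 11, 9, 10, 9, 10, 9], [6, 5, 6, 5, 7, 5, 6, 4, 6, 6, 5, 7,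 7, 5, 12, 8, 10, 10, 9, 10, 9, 11, 9], [4, 7, 5, 7, 4, 6, 4, 4, 4, 7, 7, 4, 4, 4, 12, 13, 13, 10, 9, 10, 8, 8, 10, 8], [5, 7, 4, 4, 4, 6, 6, 6, 5, 7, 7, 5, 6, 4, 13, 8, 11, 8, 10, 9, 10, 8, 10], [6, 5, 6, 6, 6, 5, 6, 4, 4, 6, 6, 5, 6, 6, 12, 13, 8, 8, 10, 8, 11, 9, 10, 10], [4, 6, 6, 4, 7, 7, 4, 4, 6, 5, 6, 6, 5, 7, 12, 13, 12, 13, 8, 11, 9, 10, 8, 11, 8, 11], [4, 6, 6, 6, 4, 6, 4, 6, 6, 4, 4, 4, 6, 6, 13, 8, 8, 10, 9, 11, 8, 10], [4, 7, 7, 4, 6, 5, 6, 6, 5, 5, 5, 7, 7, 5, 12, 14, 14, 8, 10, 8, 8, 10, 10], [5, 6, 6, 4, 6, 5, 6, 5, 6, 5, 5, 7, 7, 5, 12, 14, 14, 10, 9, 11, 8, 10], [6, 6, 5, 5, 6, 4, 4, 7, 4, 7, 7, 7, 4, 4, 13, 12, 13, 9, 11, 9, 10, 8, 10, 9], [6, 4, 7, 4, 6, 5, 6, 6, 5, 7, 7, 4, 6,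 6, 12, 13, 13, 8, 8, 11, 9], [6, 5, 6, 5, 7, 4, 6, 4, 6, 6, 6, 5, 5, 6, 12, 13, 8, 10, 8, 11, 8, 8, 10], [5, 7, 4, 4, 6, 5, 7, 4, 4, 7, 5, 5, 5, 7, 12, 13, 12, 13, 8, 10, 8, 11, 8, 11, 8], [4, 4, 7, 5, 5, 7, 4, 4, 6, 6, 5, 5, 6, 4, 12, 13, 12, 8, 10, 10, 9, 10, 10, 8], [6, 6, 6, 4, 6, 4, 4, 7, 7, 5, 7, 5, 5, 7, 14, 14, 9, 10, 10], [4, 6, 6, 6, 5, 6, 4, 6, 6, 4, 6, 4, 6, 4, 12, 13, 8, 10, 10, 8, 8, 11], [7, 7, 4, 6, 5, 5, 6, 4, 6, 6, 4, 4, 7, 4, 13, 12, 10, 8, 8, 10, 9, 11, 8, 8, 11], [6, 5, 7, 5, 6, 4, 6, 4, 6, 5, 7, 5, 5, 7, 12, 14, 14, 8, 11, 8, 10, 9, 10, 8], [7, 7, 5, 6, 6, 4, 4, 4, 6, 5, 7, 7, 4, 4, 13, 13, 9, 10, 9, 10, 10], [5, 7, 7, 5, 7, 4, 4, 6, 4, 7, 4, 6, 5, 5, 12, 13, 12, 8, 10, 8, 10,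 9, 10, 9], [4, 4, 4, 6, 6, 6, 4, 6, 4, 4, 4, 4, 4, 4, 14, 14, 8, 10, 9, 10, 10, 9, 10, 9], [5, 6, 5, 6, 4, 4, 4, 7, 5, 6, 4, 4, 6, 5, 12, 14, 12, 8, 10, 10, 9, 10, 9, 11, 8], [6, 6, 6, 5, 7, 5, 6, 5, 6, 5, 5, 5, 6, 5, 13, 12, 13, 8, 11, 9, 11, 8, 10, 8], [4, 6, 6, 6, 4, 4, 4, 6, 5, 6, 6, 4, 4, 7, 12, 13, 13, 11, 8], [6, 4, 4, 4, 7, 4, 6, 4, 7, 5, 7, 7, 7, 5, 12, 10, 8, 8, 10, 10, 9, 10, 9, 10], [4, 7, 5, 7, 4, 6, 6, 6, 5, 6, 5, 7, 4, 4, 13, 12, 13, 8, 11, 8, 11, 8, 8, 11], [5, 6, 6, 6, 5, 6, 5, 6, 5, 7, 5, 5, 5, 6, 13, 12, 10, 10, 8, 11, 8, 10, 9], [7, 4, 4, 6, 6, 4, 4, 4, 6, 4, 6, 6, 4, 7, 12, 14, 14, 8, 8, 10, 10, 8, 10, 10, 9, 11], [4, 7, 4, 6, 4, 7, 7, 4, 6, 5, 6, 6, 6, 5, 12, 13, 12, 11, 8, 11,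 8, 11], [5, 5, 7, 5, 5, 7, 4, 4, 6, 4, 4, 7, 5, 5, 13, 12, 13, 8, 10, 10, 9, 11, 8, 11, 9], [7, 4, 6, 4, 6, 6, 4, 7, 7, 5, 5, 5, 6, 4, 12, 9, 10, 8, 10, 10, 8, 10, 10], [5, 6, 5, 7, 4, 6, 6, 5, 7, 7, 7, 7, 5, 5, 12, 13, 12, 13, 8, 10, 10, 8, 10, 9, 11, 8], [7, 4, 4, 4, 6, 4, 4, 6, 5, 5, 7, 7, 5, 5, 12, 13, 12, 10, 10, 8, 8, 10, 10, 9, 10, 10]]
def BR_9 : List (List ℕ) := [[7, 7, 4, 6, 6, 6, 4, 6, 4, 6, 5, 6, 4, 4, 12, 14, 12, 10, 8, 8, 10, 9, 11, 8, 8], [5, 5, 5, 7, 7, 7, 4, 4, 6, 5, 5, 6, 5, 5, 13, 12, 9, 11, 8, 11, 8, 11, 9, 10], [5, 7, 5, 6, 5, 6, 4, 6, 4, 4, 4, 7, 7, 4, 14, 11, 8, 11, 8, 10, 9, 10, 8, 11], [5, 6, 5, 6, 5, 6, 4, 4, 6, 5, 7, 7, 5, 5, 12, 14, 14, 8, 11, 8, 8, 11, 9], [4, 4, 6, 5,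 5, 7, 4, 4, 7, 4, 6, 6, 5, 5, 14, 14, 8, 10, 8, 10, 10, 8, 10, 10], [4, 4, 6, 5, 5, 7, 4, 6, 6, 4, 6, 6, 4, 4, 12, 14, 12, 8, 10, 10, 8, 10, 9, 10, 9, 11], [5, 7, 7, 7, 4, 6, 5, 6, 6, 5, 5, 6, 6, 6, 12, 13, 12, 13, 8, 11, 9, 10, 8, 11], [6, 4, 7, 4, 4, 6, 6, 5, 6, 6, 5, 7, 7, 5, 12, 14, 12, 11, 8, 11, 8, 10, 9, 10, 10]]
def BR : List (List ℕ) := BR_0 ++ BR_1 ++ BR_2 ++ BR_3 ++ BR_4 ++ BR_5 ++ BR_6 ++ BR_7 ++ BR_8 ++ BR_9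
set_option maxRecDepth 10000000 in
noncomputable def rt : RT := (.node 1013 (.node 506 (.node 253 (.node 126 (.node 63 (.node 31 (.node 15 (.node 7 (.node 3 (.node 1 (.leaf 0 0 []) (.node 2 (.leaf 1 2 [4, 6, 9, 4, 6]) (.leaf 1 4 [9, 4, 6, 4, 6]))) (.node 5 (.node 4 (.leaf 2 4 [4, 7, 5, 6, 4, 11, 4, 4, 4, 7]) (.leaf 5 6 [4, 4, 4, 4, 4, 4, 4, 4, 4, 4, 4, 4, 4])) (.node 6 (.leaf 2 9 [11, 4, 4, 4, 7, 4, 7, 5, 6, 4]) (.leaf 7 6 [6, 6, 6, 6, 6, 6, 6, 6, 6, 6, 6, 6])))) (.node 11 (.node 9 (.node 8 (.leaf 3 4 [12, 11, 8, 8, 10]) (.leaf 4 9 [14, 10, 8, 10, 9, 10, 8, 11, 8, 10])) (.node 10 (.leaf 21 2 [4, 7, 5, 12, 14, 12, 10, 8, 11, 8, 10, 5, 6]) (.leaf 5 7 [4, 4, 4, 4, 4, 4, 4, 4, 4, 4, 4, 4, 4]))) (.node 13 (.node 12 (.leaf 22 3 [4, 6, 5, 6, 14, 14, 9, 11, 9, 11, 8, 11, 8, 11, 7, 4, 7]) (.leaf 23 4 [6, 6, 5, 6, 13, 12, 8, 10, 8, 11, 8, 8, 10, 4, 6, 6, 6])) (.node 14 (.leaf 7 4 [6, 6, 6, 6, 6, 6, 6, 6, 6, 6, 6, 6]) (.leaf 24 3 [6, 5, 7, 7, 4, 12, 13, 13, 8, 11, 8, 11, 6, 6, 6]))))) (.node 23 (.node 19 (.node 17 (.node 16 (.leaf 25 4 [4, 6, 5, 6, 5, 13, 12, 13, 8, 10, 8, 10, 9, 11, 8, 11, 4, 4, 7, 7]) (.leaf 26 4 [4, 6, 4, 7, 7, 14, 8, 8, 10, 10, 9, 10, 9, 6, 4, 6, 6])) (.node 18 (.leaf 27 4 [6, 6, 5, 6, 5, 12, 10, 8, 8, 10, 6, 4, 6, 6]) (.leaf 7 5 [6, 6, 6, 6, 6, 6, 6, 6, 6, 6, 6, 6]))) (.node 21 (.node 20 (.leaf 28 4 [4, 7, 5, 6, 6, 4, 13, 12, 9, 10, 8, 8, 11, 8, 7, 4, 4, 7]) (.leaf 29 4 [4, 4, 6, 6, 6, 4, 14, 12, 8, 10, 8, 11, 8, 8, 11, 7, 4, 6, 6])) (.node 22 (.leaf 30 4 [4, 4, 6, 5, 5, 5, 12, 13, 12, 8, 11, 8, 10, 9, 11, 8, 7, 7, 4, 7]) (.leaf 31 5 [4, 6, 6, 6, 6, 12, 10, 8, 8, 11, 4, 7, 7, 7, 7])))) (.node 27 (.node 25 (.node 24 (.leaf 32 5 [6, 6, 6, 6, 6, 13, 11, 8, 11, 8, 10, 6, 6, 6, 4, 4]) (.leaf 7 11 [6, 6, 6, 6, 6, 6, 6, 6, 6, 6, 6, 6])) (.node 26 (.leaf 33 5 [4, 4, 6, 6, 4, 13, 12, 8, 11, 8, 8, 11, 9, 11, 8, 5, 6, 5, 7, 4]) (.leaf 34 4 [4, 4, 6, 6, 5, 7, 13, 8, 8, 10, 8, 7, 7, 5, 6]))) (.node 29 (.node 28 (.leaf 35 5 [6, 5, 6, 6, 5, 12, 13, 12, 13, 11, 8, 11, 8, 11, 9, 4, 7, 5, 6, 5]) (.leaf 36 5 [4, 4, 4, 7, 7, 13, 12, 9, 11, 9, 10, 8, 10, 5, 6, 5, 5, 6])) (.node 30 (.leaf 37 5 [4, 6, 4, 4, 6, 6, 12, 14, 10, 10, 8, 11, 8, 8, 11, 8, 6, 5, 5, 5, 7]) (.leaf 38 5 [6, 6, 4, 7, 7, 5, 12, 14, 14, 10, 9, 11, 9, 11, 8, 10, 4, 4, 6, 5, 6])))))) (.node 47 (.node 39 (.node 35 (.node 33 (.node 32 (.leaf 39 5 [6, 4, 4, 4, 4, 7, 14, 12, 10, 8, 8, 10, 8, 7, 7, 4, 6, 5]) (.leaf 40 5 [6, 6, 4, 4, 6, 4, 13, 10, 8, 10, 9, 11, 8, 10, 8, 6, 5, 5, 7, 5])) (.node 34 (.leaf 41 5 [4, 6, 4, 6, 5, 5, 12, 13, 13, 8, 10, 8, 11, 8, 8, 11, 9, 6, 5, 6, 5, 6]) (.leaf 42 5 [6, 6, 5, 7, 7, 7, 12, 14, 10, 8, 8, 10, 8, 10, 9, 11, 8, 6, 4, 4, 7, 5]))) (.node 37 (.node 36 (.leaf 43 5 [6, 5, 7, 4, 4, 4, 13, 12, 13, 11, 8, 10, 7, 7, 5, 6, 6]) (.leaf 44 5 [4, 6, 4, 6, 4, 4, 14, 14, 8, 8, 10, 10, 8, 10, 10, 6, 6, 5, 6, 6])) (.node 38 (.leaf 45 5 [4, 7, 7, 5, 6, 5, 12, 14, 12, 10, 9, 10, 8, 10, 10, 6, 4, 7, 7, 7]) (.leaf 46 5 [6, 6, 4, 7, 7, 4, 13, 13, 8, 8, 10, 8, 10, 9, 11, 8, 5, 5, 7, 5, 5])))) (.node 43 (.node 41 (.node 40 (.leaf 47 5 [4, 6, 4, 4, 6, 4, 14, 8, 11, 9, 10, 9, 10, 10, 9, 5, 7, 5, 7, 7]) (.leaf 48 5 [6, 6, 4, 4, 4, 4, 13, 12, 10, 8, 8, 10, 9, 11, 8, 8, 10, 5, 7, 5, 6, 6])) (.node 42 (.leaf 49 5 [6, 4, 4, 7, 5, 6, 12, 13, 12, 13, 8, 11, 8, 8, 4, 7, 7, 4, 4]) (.leaf 50 5 [4, 7, 7, 4, 7, 4, 12, 8, 11, 9, 10, 8, 11, 9, 11, 5, 6, 6, 5, 7]))) (.node 45 (.node 44 (.leaf 51 5 [6, 6, 5, 5, 6, 5, 12, 14, 8, 10, 8, 11, 9, 11, 6, 5, 7, 7, 4]) (.leaf 52 5 [6, 5, 5, 7, 7, 4, 12, 13, 9, 10, 10, 9, 10, 8, 5, 5, 5, 7, 5])) (.node 46 (.leaf 53 5 [4, 7, 4, 4, 4, 7, 13, 13, 10, 10, 8, 8, 11, 8, 4, 6, 6, 5, 6]) (.leaf 54 5 [4, 6, 5, 7, 7, 5, 13, 13, 9, 10, 8, 8, 5, 7, 5, 6, 4]))))) (.node 55 (.node 51 (.node 49 (.node 48 (.leaf 55 5 [4, 7, 7, 7, 7, 4, 12, 13, 12, 9, 10, 10, 9, 10, 10, 5, 7, 7, 4, 6]) (.leaf 56 5 [4, 6, 6, 4, 6, 5, 13, 12, 13, 8, 8, 10, 10, 8, 11, 4, 7, 4, 7, 4])) (.node 50 (.leaf 57 5 [4, 6, 6, 4, 4, 4, 12, 14, 12, 8, 10, 10, 8, 10, 9, 10, 10, 4, 4, 6, 5, 7]) (.leaf 58 5 [6, 6, 6, 5, 6, 6, 13, 12, 13, 10, 8, 8, 10, 8, 10, 9, 11, 8, 7, 7, 4, 6, 4]))) (.node 53 (.node 52 (.leaf 59 5 [4, 6, 5, 6, 4, 7, 12, 14, 14, 10, 9, 10, 9, 10, 10, 8, 7, 4, 6, 5, 6]) (.leaf 60 5 [6, 6, 6, 5, 7, 7, 8, 11, 9, 11, 8, 4, 6, 6, 4, 6])) (.node 54 (.leaf 61 5 [4, 4, 7, 7, 4, 7, 13, 11, 8, 11, 8, 11, 9, 5, 5, 5, 7, 4]) (.leaf 62 5 [4, 6, 4, 6, 5, 7, 14, 12, 10, 10, 5, 6, 5, 5, 7])))) (.node 59 (.node 57 (.node 56 (.leaf 63 5 [6, 5, 6, 6, 4, 4, 13, 12, 13, 10, 10, 8, 11, 9, 10, 9, 11, 7, 7, 4, 4, 4]) (.leaf 64 5 [4, 4, 7, 4, 7, 4, 14, 12, 8, 10, 9, 10, 9, 10, 9, 6, 4, 4, 6, 4])) (.node 58 (.leaf 65 5 [6, 5, 6, 5, 6, 4, 12, 14, 8, 11, 9, 10, 4, 7, 4, 6, 4]) (.leaf 66 5 [4, 4, 7, 7, 5, 5, 14, 14, 8, 11, 9, 10, 8, 11, 8, 10, 10, 6, 6, 5, 6, 4]))) (.node 61 (.node 60 (.leaf 67 5 [6, 5, 7, 4, 4, 7, 14, 14, 10, 8, 8, 10, 9, 11, 9, 4, 7, 5, 7, 5]) (.leaf 68 5 [4, 6, 5, 5, 6, 4, 14, 9, 10, 8, 8, 11, 8, 6, 4, 7, 4, 7])) (.node 62 (.leaf 69 5 [4, 7, 4, 4, 4, 4, 14, 10, 9, 10, 9, 11, 9, 10, 8, 6, 5, 5, 6, 4]) (.leaf 70 5 [6, 6, 4, 7, 5, 6, 14, 12, 8, 8, 10, 10, 8, 11, 8, 6, 5, 5, 6, 4]))))))) (.node 94 (.node 78 (.node 70 (.node 66 (.node 64 (.leaf 71 6 [4, 4, 7, 7, 5, 7, 12, 14, 8, 11, 9, 10, 9, 11, 8, 4, 4, 6, 5, 7, 7]) (.node 65 (.leaf 72 6 [6, 6, 5, 7, 5, 6, 12, 13, 8, 8, 10, 9, 10, 9, 11, 9, 4, 4, 4, 7, 5, 6]) (.leaf 73 5 [4, 4, 7, 5, 7, 7, 5, 12, 9, 11, 8, 10, 9, 6, 6, 5, 5, 7]))) (.node 68 (.node 67 (.leaf 74 5 [4, 4, 4, 6, 6, 6, 5, 12, 14, 14, 10, 9, 11, 8, 10, 10, 9, 6, 4, 4, 7, 7]) (.leaf 75 6 [4, 6, 4, 7, 5, 6, 12, 14, 14, 10, 10, 8, 8, 10, 5, 6, 6, 6, 4, 7])) (.node 69 (.leaf 76 6 [6, 4, 4, 7, 5, 7, 12, 13, 12, 10, 8, 11, 9, 10, 9, 10, 5, 5, 6, 5, 6, 4]) (.leaf 77 6 [6, 5, 6, 4, 6, 6, 12, 14, 14, 9, 10, 8, 10, 10, 9, 5, 7, 5, 6, 4, 6])))) (.node 74 (.node 72 (.node 71 (.leaf 78 6 [4, 4, 6, 6, 4, 7, 12, 14, 12, 9, 11, 8, 10, 9, 11, 6, 5, 5, 6, 5, 6]) (.leaf 79 6 [4, 7, 7, 5, 5, 6, 14, 12, 10, 8, 8, 10, 8, 10, 9, 11, 6, 6, 4, 7, 4, 6])) (.node 73 (.leaf 80 5 [6, 6, 6, 6, 5, 5, 5, 12, 13, 12, 13, 8, 10, 10, 8, 10, 9, 11, 8, 11, 6, 5, 5, 5, 5]) (.leaf 81 5 [4, 6, 4, 7, 4, 7, 4, 8, 10, 9, 11, 8, 8, 10, 8, 5, 6, 6, 4, 4]))) (.node 76 (.node 75 (.leaf 82 5 [6, 5, 7, 7, 5, 5, 5, 12, 14, 12, 10, 10, 9, 10, 8, 11, 7, 4, 4, 4, 6]) (.leaf 83 5 [4, 6, 5, 7, 5, 6, 5, 13, 8, 10, 8, 10, 10, 6, 4, 6, 5, 6])) (.node 77 (.leaf 84 6 [6, 5, 7, 5, 6, 6, 13, 12, 10, 9, 10, 8, 8, 11, 6, 6, 6, 5, 6, 4]) (.leaf 85 5 [6, 4, 6, 6, 5, 6, 4, 12, 14, 9, 10, 10, 9, 10, 8, 6, 5, 6, 4, 4]))))) (.node 86 (.node 82 (.node 80 (.node 79 (.leaf 86 5 [4, 4, 4, 7, 5, 5, 6, 12, 13, 8, 11, 8, 11, 8, 8, 11, 8, 7, 7, 4, 6, 6]) (.leaf 87 6 [6, 6, 5, 6, 4, 7, 12, 10, 8, 8, 10, 10, 9, 10, 10, 9, 4, 4, 6, 6, 5, 6])) (.node 81 (.leaf 88 5 [6, 4, 4, 4, 6, 5, 5, 14, 12, 8, 8, 11, 8, 10, 10, 9, 7, 7, 7, 4, 6]) (.leaf 89 5 [4, 7, 4, 4, 4, 7, 4, 12, 13, 8, 10, 8, 10, 9, 10, 8, 7, 7, 7, 7, 4]))) (.node 84 (.node 83 (.leaf 90 6 [4, 4, 4, 7, 5, 5, 12, 13, 12, 8, 10, 8, 8, 10, 4, 4, 4, 6, 4, 6]) (.leaf 91 6 [6, 4, 6, 5, 5, 6, 12, 14, 12, 8, 11, 8, 10, 8, 8, 10, 6, 5, 7, 5, 5, 6])) (.node 85 (.leaf 92 6 [6, 4, 4, 6, 4, 7, 14, 14, 8, 10, 9, 10, 10, 8, 8, 11, 5, 6, 6, 6, 4, 4]) (.leaf 93 6 [6, 6, 5, 6, 6, 6, 12, 13, 12, 13, 8, 11, 9, 10, 8, 11, 9, 10, 7, 7, 4, 4, 6, 4])))) (.node 90 (.node 88 (.node 87 (.leaf 94 5 [4, 7, 5, 6, 4, 6, 5, 13, 12, 10, 9, 11, 9, 11, 8, 10, 10, 6, 4, 6, 4, 7]) (.leaf 95 5 [4, 4, 6, 4, 7, 5, 5, 14, 12, 10, 9, 10, 10, 8, 8, 5, 6, 6, 6, 6])) (.node 89 (.leaf 96 6 [4, 6, 6, 5, 5, 7, 14, 8, 10, 10, 8, 11, 4, 7, 5, 5, 7, 7]) (.leaf 97 5 [6, 6, 5, 6, 4, 7, 4, 12, 8, 10, 10, 8, 8, 10, 10, 6, 6, 6, 5, 6]))) (.node 92 (.node 91 (.leaf 98 6 [6, 4, 6, 5, 5, 7, 14, 12, 8, 11, 8, 11, 8, 8, 11, 8, 11, 4, 7, 7, 7, 4, 6]) (.leaf 99 6 [6, 4, 6, 4, 6, 6, 14, 12, 10, 10, 8, 8, 11, 8, 10, 8, 5, 7, 5, 7, 4, 6])) (.node 93 (.leaf 100 6 [6, 5, 5, 6, 6, 5, 12, 8, 11, 8, 4, 7, 7, 4, 4, 4]) (.leaf 101 6 [4, 4, 6, 5, 5, 6, 12, 13, 13, 8, 11, 8, 11, 8, 10, 10, 6, 4, 6, 5, 7, 7])))))) (.node 110 (.node 102 (.node 98 (.node 96 (.node 95 (.leaf 102 5 [4, 4, 4, 4, 4, 6, 5, 12, 13, 13, 10, 8, 11, 8, 10, 10, 8, 11, 7, 7, 7, 5, 6]) (.leaf 103 6 [6, 5, 6, 4, 6, 5, 10, 10, 8, 11, 8, 11, 4, 7, 4, 6, 6, 4])) (.node 97 (.leaf 104 5 [6, 6, 4, 7, 5, 5, 5, 12, 13, 12, 10, 8, 10, 9, 11, 8, 10, 8, 5, 5, 7, 7, 4]) (.leaf 105 5 [6, 4, 7, 5, 7, 7, 4, 14, 8, 10, 9, 10, 10, 9, 10, 9, 11, 7, 4, 4, 7, 5]))) (.node 100 (.node 99 (.leaf 106 6 [6, 4, 4, 7, 7, 5, 14, 8, 10, 8, 10, 9, 11, 9, 4, 4, 4, 6, 4, 4]) (.leaf 107 6 [4, 6, 4, 4, 4, 4, 14, 8, 11, 9, 4, 6, 6, 4, 6, 4])) (.node 101 (.leaf 108 6 [6, 5, 5, 7, 4, 7, 12, 13, 10, 8, 10, 9, 11, 4, 6, 6, 4, 6, 4]) (.leaf 9 3 [6, 4, 6, 4, 6, 4, 6, 4, 6, 4, 6, 4, 6, 4, 6, 4])))) (.node 106 (.node 104 (.node 103 (.leaf 109 6 [4, 7, 4, 6, 6, 6, 12, 14, 12, 11, 8, 11, 8, 10, 9, 6, 5, 7, 7, 7, 4]) (.leaf 5 10 [4, 4, 4, 4, 4, 4, 4, 4, 4, 4, 4, 4, 4])) (.node 105 (.leaf 110 5 [4, 4, 4, 4, 7, 4, 4, 13, 12, 8, 10, 10, 8, 10, 10, 8, 11, 5, 6, 6, 5, 6]) (.leaf 111 6 [4, 7, 5, 7, 5, 7, 12, 8, 11, 9, 10, 10, 9, 11, 9, 5, 6, 5, 7, 7, 4]))) (.node 108 (.node 107 (.leaf 112 6 [6, 6, 6, 6, 4, 7, 14, 12, 9, 10, 9, 10, 4, 7, 4, 4, 4, 6]) (.leaf 7 8 [6, 6, 6, 6, 6, 6, 6, 6, 6, 6, 6, 6])) (.node 109 (.leaf 113 6 [4, 7, 4, 7, 4, 7, 12, 13, 10, 8, 8, 10, 9, 6, 4, 4, 4, 7, 4]) (.leaf 114 6 [6, 5, 6, 4, 4, 4, 13, 10, 10, 9, 10, 8, 8, 4, 6, 6, 4, 4, 4]))))) (.node 118 (.node 114 (.node 112 (.node 111 (.leaf 115 6 [4, 6, 6, 6, 5, 7, 13, 12, 13, 10, 9, 10, 8, 10, 10, 9, 10, 4, 6, 6, 5, 7, 4]) (.leaf 116 6 [6, 4, 7, 5, 5, 6, 13, 13, 9, 10, 10, 9, 10, 8, 10, 5, 7, 4, 7, 7, 4])) (.node 113 (.leaf 117 5 [4, 4, 7, 5, 7, 5, 5, 14, 10, 10, 9, 11, 8, 10, 5, 7, 7, 5, 6]) (.leaf 118 5 [4, 4, 6, 6, 4, 6, 4, 13, 10, 10, 9, 10, 8, 8, 10, 6, 6, 6, 4, 7]))) (.node 116 (.node 115 (.leaf 119 5 [4, 6, 6, 6, 4, 7, 4, 12, 14, 12, 9, 10, 10, 9, 11, 9, 10, 6, 4, 7, 7, 4]) (.leaf 120 6 [6, 6, 4, 6, 6, 6, 12, 10, 8, 8, 10, 4, 7, 4, 4, 6, 6])) (.node 117 (.leaf 121 5 [6, 6, 4, 7, 4, 6, 5, 12, 14, 14, 8, 11, 8, 5, 7, 7, 4, 6]) (.leaf 122 6 [6, 4, 4, 7, 7, 4, 13, 13, 8, 8, 10, 9, 11, 9, 10, 8, 4, 7, 4, 4, 6, 4])))) (.node 122 (.node 120 (.node 119 (.leaf 123 5 [4, 4, 7, 7, 7, 5, 5, 13, 12, 13, 10, 8, 8, 10, 10, 9, 11, 8, 10, 7, 4, 4, 4, 7]) (.leaf 124 6 [4, 7, 4, 4, 6, 6, 12, 8, 8, 10, 10, 9, 10, 9, 11, 6, 6, 4, 6, 6, 6])) (.node 121 (.leaf 125 6 [4, 4, 7, 5, 7, 7, 12, 13, 12, 9, 10, 10, 9, 11, 8, 11, 5, 5, 6, 6, 6, 6]) (.leaf 126 5 [6, 4, 6, 5, 5, 6, 5, 14, 8, 11, 9, 10, 9, 11, 5, 7, 7, 7, 5]))) (.node 124 (.node 123 (.leaf 127 6 [4, 6, 5, 7, 7, 7, 12, 14, 14, 8, 11, 9, 10, 9, 10, 9, 11, 9, 4, 7, 5, 5, 5, 6]) (.leaf 128 5 [6, 6, 6, 4, 6, 6, 5, 12, 10, 8, 8, 11, 6, 6, 4, 4, 6])) (.node 125 (.leaf 129 5 [6, 6, 4, 6, 6, 6, 4, 13, 13, 8, 11, 9, 10, 10, 8, 8, 11, 7, 4, 4, 6, 6]) (.leaf 130 6 [6, 5, 5, 6, 5, 7, 13, 9, 10, 10, 8, 10, 9, 10, 9, 4, 4, 7, 5, 7, 4])))))))) (.node 189 (.node 157 (.node 141 (.node 133 (.node 129 (.node 127 (.leaf 131 5 [6, 4, 6, 6, 6, 6, 5, 12, 10, 8, 8, 10, 8, 10, 10, 7, 7, 7, 4, 4]) (.node 128 (.leaf 132 6 [4, 4, 6, 6, 5, 5, 13, 13, 8, 11, 9, 10, 8, 8, 10, 4, 4, 7, 4, 6, 6]) (.leaf 133 6 [6, 4, 4, 6, 5, 7, 13, 8, 10, 8, 11, 8, 11, 8, 8, 4, 4, 7, 4, 6, 6]))) (.node 131 (.node 130 (.leaf 134 5 [4, 6, 6, 5, 5, 5, 7, 13, 12, 10, 8, 10, 9, 11, 6, 6, 5, 7, 4]) (.leaf 135 5 [6, 4, 7, 5, 6, 4, 4, 13, 12, 13, 9, 11, 8, 10, 10, 8, 10, 6, 6, 5, 7, 4])) (.node 132 (.leaf 136 6 [4, 7, 5, 6, 4, 7, 12, 10, 10, 9, 10, 9, 10, 9, 5, 7, 7, 4, 7, 4]) (.leaf 137 5 [6, 4, 4, 7, 5, 5, 7, 14, 14, 8, 8, 10, 8, 8, 11, 6, 5, 6, 4, 6])))) (.node 137 (.node 135 (.node 134 (.leaf 138 5 [6, 5, 5, 7, 5, 5, 5, 12, 14, 14, 10, 8, 8, 10, 8, 11, 8, 11, 8, 7, 7, 5, 5, 5]) (.leaf 139 6 [6, 4, 7, 4, 6, 6, 14, 9, 11, 8, 10, 9, 10, 10, 8, 11, 5, 5, 5, 6, 4, 6])) (.node 136 (.leaf 140 5 [4, 7, 4, 7, 5, 5, 6, 9, 11, 8, 8, 11, 9, 7, 4, 4, 7, 7]) (.leaf 141 6 [4, 6, 6, 4, 6, 6, 9, 10, 8, 8, 10, 9, 5, 5, 7, 5, 7, 4]))) (.node 139 (.node 138 (.leaf 142 6 [6, 4, 7, 7, 4, 7, 12, 8, 10, 8, 10, 9, 11, 8, 5, 7, 4, 4, 4, 4]) (.leaf 143 5 [4, 6, 6, 5, 6, 5, 5, 12, 13, 13, 11, 8, 10, 10, 9, 11, 8, 11, 8, 4, 7, 4, 6, 4])) (.node 140 (.leaf 144 6 [4, 6, 4, 6, 6, 4, 14, 14, 8, 10, 9, 10, 8, 8, 4, 4, 7, 7, 5, 6]) (.leaf 145 5 [4, 6, 5, 7, 7, 7, 5, 13, 13, 8, 11, 8, 10, 10, 9, 10, 10, 6, 4, 4, 4, 4]))))) (.node 149 (.node 145 (.node 143 (.node 142 (.leaf 146 5 [6, 6, 4, 7, 4, 7, 4, 14, 12, 8, 11, 8, 10, 8, 8, 6, 4, 7, 4, 6]) (.leaf 147 5 [6, 4, 6, 5, 7, 5, 5, 13, 9, 11, 8, 10, 9, 10, 10, 8, 8, 5, 5, 5, 6, 6])) (.node 144 (.leaf 148 5 [6, 6, 4, 6, 4, 4, 4, 14, 8, 10, 10, 8, 10, 9, 11, 9, 5, 7, 7, 4, 4]) (.leaf 149 5 [4, 7, 4, 6, 4, 7, 4, 12, 13, 12, 8, 10, 10, 8, 11, 8, 10, 5, 7, 4, 7, 4]))) (.node 147 (.node 146 (.leaf 150 5 [6, 4, 7, 4, 7, 7, 5, 12, 13, 13, 8, 8, 10, 9, 10, 9, 5, 5, 7, 7, 5]) (.leaf 151 6 [4, 7, 5, 5, 6, 6, 12, 14, 12, 10, 8, 11, 9, 10, 8, 8, 11, 4, 4, 7, 5, 5, 6])) (.node 148 (.leaf 152 5 [6, 4, 7, 7, 7, 5, 5, 12, 14, 14, 10, 10, 8, 8, 11, 8, 10, 8, 4, 4, 7, 5, 6]) (.leaf 153 5 [6, 5, 7, 7, 4, 6, 4, 14, 8, 10, 8, 8, 10, 8, 11, 9, 6, 4, 4, 7, 4])))) (.node 153 (.node 151 (.node 150 (.leaf 154 6 [6, 4, 7, 4, 6, 6, 5, 14, 12, 9, 10, 8, 11, 8, 10, 9, 10, 7, 7, 5, 7, 4, 4]) (.leaf 155 6 [4, 4, 7, 4, 6, 4, 4, 14, 12, 10, 8, 8, 10, 8, 8, 7, 7, 7, 7, 4, 7])) (.node 152 (.leaf 156 6 [6, 6, 6, 5, 7, 5, 7, 12, 14, 14, 9, 10, 9, 11, 8, 11, 8, 10, 6, 6, 5, 5, 7, 5]) (.leaf 157 6 [6, 4, 4, 7, 4, 6, 4, 12, 14, 9, 11, 8, 10, 10, 8, 11, 8, 7, 7, 5, 6, 5, 6]))) (.node 155 (.node 154 (.leaf 7 2 [6, 6, 6, 6, 6, 6, 6, 6, 6, 6, 6, 6]) (.leaf 158 6 [4, 6, 4, 4, 4, 4, 4, 13, 12, 13, 9, 11, 8, 10, 9, 5, 5, 7, 4, 7, 7])) (.node 156 (.leaf 159 6 [6, 4, 7, 7, 5, 7, 7, 14, 14, 10, 8, 8, 10, 10, 8, 6, 5, 6, 5, 6, 6]) (.leaf 160 6 [4, 6, 4, 4, 6, 6, 6, 14, 14, 8, 10, 8, 10, 10, 8, 7, 7, 5, 7, 7, 7])))))) (.node 173 (.node 165 (.node 161 (.node 159 (.node 158 (.leaf 161 6 [4, 6, 4, 7, 7, 5, 7, 12, 14, 10, 8, 8, 10, 10, 9, 6, 4, 6, 4, 6, 6]) (.leaf 162 6 [6, 5, 7, 4, 4, 7, 7, 12, 14, 10, 8, 11, 8, 11, 9, 11, 4, 4, 4, 6, 5, 5])) (.node 160 (.leaf 163 6 [4, 7, 5, 7, 7, 4, 4, 12, 14, 11, 8, 10, 9, 10, 8, 11, 9, 6, 6, 5, 6, 4, 7]) (.leaf 164 6 [6, 5, 7, 7, 4, 4, 4, 14, 12, 11, 8, 11, 8, 10, 8, 8, 11, 6, 4, 4, 4, 6, 4]))) (.node 163 (.node 162 (.leaf 165 6 [6, 5, 5, 5, 7, 5, 6, 13, 12, 13, 10, 8, 11, 9, 5, 5, 7, 7, 7, 4]) (.leaf 166 6 [6, 6, 6, 5, 7, 7, 5, 13, 13, 10, 8, 8, 10, 9, 5, 5, 7, 5, 5, 5])) (.node 164 (.leaf 7 10 [6, 6, 6, 6, 6, 6, 6, 6, 6, 6, 6, 6]) (.leaf 167 6 [6, 6, 5, 7, 5, 5, 5, 14, 12, 10, 10, 9, 11, 8, 10, 4, 4, 4, 6, 5, 6])))) (.node 169 (.node 167 (.node 166 (.leaf 168 6 [6, 6, 4, 6, 4, 4, 7, 14, 14, 8, 11, 8, 10, 10, 8, 11, 8, 11, 5, 7, 5, 5, 6, 6]) (.leaf 169 6 [4, 7, 7, 4, 7, 5, 6, 12, 14, 12, 9, 10, 10, 9, 11, 8, 11, 6, 4, 6, 4, 6, 4])) (.node 168 (.leaf 170 6 [4, 7, 5, 7, 5, 6, 4, 8, 10, 10, 8, 10, 9, 10, 9, 4, 7, 4, 6, 5, 7]) (.leaf 171 6 [4, 4, 6, 6, 5, 5, 5, 14, 14, 8, 10, 9, 11, 8, 8, 10, 6, 5, 5, 5, 7, 7]))) (.node 171 (.node 170 (.leaf 172 6 [4, 6, 6, 5, 6, 6, 4, 12, 8, 8, 10, 8, 10, 4, 4, 7, 5, 6, 4]) (.leaf 173 6 [6, 5, 6, 5, 5, 6, 4, 12, 8, 11, 8, 10, 8, 8, 10, 9, 10, 6, 5, 5, 6, 5, 6])) (.node 172 (.leaf 174 6 [4, 7, 4, 7, 4, 4, 7, 14, 8, 8, 11, 9, 10, 9, 10, 10, 4, 4, 4, 6, 6, 4]) (.leaf 175 6 [6, 6, 4, 4, 6, 6, 5, 12, 13, 10, 9, 11, 8, 10, 8, 8, 6, 6, 4, 7, 4, 6]))))) (.node 181 (.node 177 (.node 175 (.node 174 (.leaf 176 6 [6, 4, 4, 6, 5, 6, 4, 13, 13, 8, 10, 10, 8, 10, 10, 8, 11, 6, 6, 6, 4, 6, 5]) (.leaf 177 6 [4, 6, 6, 6, 4, 6, 4, 13, 12, 8, 10, 8, 10, 9, 10, 4, 6, 6, 5, 6, 6])) (.node 176 (.leaf 9 9 [6, 4, 6, 4, 6, 4, 6, 4, 6, 4, 6, 4, 6, 4, 6, 4]) (.leaf 178 6 [4, 4, 4, 7, 7, 5, 6, 12, 14, 8, 10, 9, 10, 9, 10, 8, 10, 5, 5, 6, 4, 4, 7]))) (.node 179 (.node 178 (.leaf 179 6 [6, 4, 7, 4, 6, 6, 4, 12, 13, 12, 13, 8, 8, 10, 9, 10, 9, 10, 7, 4, 6, 5, 5, 6]) (.leaf 180 6 [4, 4, 7, 5, 5, 5, 6, 14, 12, 8, 8, 6, 5, 6, 6, 6, 6])) (.node 180 (.leaf 181 6 [4, 7, 4, 4, 7, 7, 4, 13, 12, 9, 10, 10, 9, 11, 9, 10, 5, 7, 4, 7, 7, 7]) (.leaf 182 6 [6, 5, 5, 5, 5, 5, 6, 12, 13, 12, 8, 10, 8, 10, 9, 10, 9, 6, 4, 4, 6, 5, 5])))) (.node 185 (.node 183 (.node 182 (.leaf 183 6 [4, 6, 6, 6, 6, 5, 5, 14, 14, 10, 10, 9, 10, 8, 8, 10, 4, 7, 7, 7, 5, 6]) (.leaf 184 6 [4, 4, 6, 4, 7, 7, 7, 12, 8, 10, 8, 8, 10, 8, 11, 7, 4, 6, 4, 7, 4])) (.node 184 (.leaf 185 6 [6, 4, 4, 7, 7, 7, 4, 12, 8, 8, 10, 9, 10, 10, 4, 7, 7, 7, 4, 4]) (.leaf 186 6 [4, 7, 4, 6, 6, 4, 7, 12, 14, 14, 8, 8, 11, 9, 10, 9, 6, 5, 7, 4, 4, 4]))) (.node 187 (.node 186 (.leaf 187 6 [6, 5, 7, 5, 6, 4, 4, 10, 8, 8, 10, 10, 9, 11, 8, 6, 4, 7, 4, 6, 4]) (.leaf 188 6 [6, 6, 5, 6, 6, 5, 7, 12, 13, 12, 11, 8, 10, 9, 10, 8, 8, 6, 5, 6, 4, 6, 5])) (.node 188 (.leaf 189 6 [4, 6, 4, 4, 7, 4, 7, 12, 14, 12, 10, 10, 8, 10, 6, 5, 6, 4, 6, 4]) (.leaf 9 15 [6, 4, 6, 4, 6, 4, 6, 4, 6, 4, 6, 4, 6, 4, 6, 4]))))))) (.node 221 (.node 205 (.node 197 (.node 193 (.node 191 (.node 190 (.leaf 190 6 [6, 6, 5, 7, 7, 7, 4, 12, 10, 10, 9, 10, 10, 9, 4, 4, 7, 5, 5, 5]) (.leaf 191 6 [4, 4, 7, 4, 4, 6, 4, 12, 13, 10, 8, 8, 10, 8, 10, 9, 11, 6, 5, 5, 7, 4, 6])) (.node 192 (.leaf 192 6 [4, 4, 4, 6, 5, 7, 7, 12, 14, 10, 8, 8, 10, 10, 4, 4, 7, 7, 5, 7]) (.leaf 193 6 [4, 7, 4, 4, 4, 6, 5, 14, 12, 9, 11, 8, 11, 8, 11, 9, 10, 5, 5, 6, 6, 6, 4]))) (.node 195 (.node 194 (.leaf 194 6 [4, 7, 4, 4, 6, 5, 5, 14, 9, 10, 10, 9, 10, 10, 8, 8, 4, 4, 4, 4, 4, 7]) (.leaf 195 6 [6, 6, 5, 6, 4, 4, 7, 14, 12, 9, 11, 8, 10, 10, 8, 8, 7, 7, 5, 7, 7, 4])) (.node 196 (.leaf 196 6 [6, 5, 7, 4, 6, 4, 4, 13, 8, 11, 8, 10, 8, 8, 10, 10, 5, 5, 7, 7, 5, 5]) (.leaf 197 6 [4, 4, 6, 4, 4, 7, 7, 14, 10, 8, 10, 5, 5, 7, 7, 4, 4])))) (.node 201 (.node 199 (.node 198 (.leaf 5 8 [4, 4, 4, 4, 4, 4, 4, 4, 4, 4, 4, 4, 4]) (.leaf 198 6 [6, 6, 4, 6, 5, 5, 5, 12, 14, 9, 10, 9, 11, 9, 10, 8, 10, 5, 5, 7, 7, 4, 4])) (.node 200 (.leaf 199 6 [6, 4, 7, 4, 6, 4, 7, 14, 14, 8, 11, 8, 10, 9, 11, 8, 6, 6, 5, 6, 5, 5]) (.leaf 200 6 [4, 6, 4, 7, 5, 6, 6, 12, 9, 11, 8, 10, 10, 5, 5, 6, 6, 4, 7]))) (.node 203 (.node 202 (.leaf 201 6 [4, 6, 6, 5, 5, 6, 6, 12, 13, 9, 10, 9, 11, 8, 10, 5, 5, 6, 5, 5, 6]) (.leaf 202 6 [6, 5, 7, 5, 5, 5, 5, 13, 12, 13, 8, 10, 10, 8, 11, 8, 10, 9, 4, 4, 4, 6, 4, 6])) (.node 204 (.leaf 203 6 [6, 4, 6, 6, 4, 6, 4, 12, 13, 12, 13, 8, 11, 8, 10, 9, 11, 6, 4, 6, 4, 4, 6]) (.leaf 204 6 [4, 6, 5, 6, 6, 4, 7, 14, 10, 8, 8, 10, 9, 11, 9, 5, 6, 5, 7, 7, 7]))))) (.node 213 (.node 209 (.node 207 (.node 206 (.leaf 205 6 [4, 7, 7, 7, 4, 4, 7, 12, 14, 12, 10, 10, 8, 8, 11, 9, 10, 7, 7, 4, 4, 6, 4]) (.leaf 206 6 [4, 6, 6, 6, 4, 6, 6, 12, 13, 12, 13, 8, 11, 8, 8, 10, 6, 5, 7, 4, 6, 4])) (.node 208 (.leaf 207 6 [6, 5, 7, 5, 6, 6, 5, 14, 12, 8, 10, 9, 11, 8, 11, 6, 5, 5, 5, 7, 5]) (.leaf 208 6 [4, 7, 4, 7, 7, 5, 5, 12, 14, 8, 8, 10, 9, 10, 9, 10, 8, 6, 4, 4, 6, 4, 7]))) (.node 211 (.node 210 (.leaf 209 6 [6, 5, 5, 7, 5, 7, 7, 13, 12, 8, 11, 9, 10, 10, 4, 4, 7, 4, 7, 5]) (.leaf 210 6 [4, 6, 6, 6, 6, 5, 7, 13, 12, 8, 10, 8, 11, 8, 8, 10, 8, 6, 6, 6, 4, 6, 6])) (.node 212 (.leaf 211 6 [6, 6, 4, 6, 6, 6, 5, 8, 6, 6, 6, 4, 6, 6]) (.leaf 211 8 [4, 6, 6, 6, 5, 8, 6, 6, 6, 4, 6, 6, 6, 6])))) (.node 217 (.node 215 (.node 214 (.leaf 211 10 [6, 6, 5, 8, 6, 6, 6, 4, 6, 6, 6, 6, 4, 6]) (.leaf 211 1 [6, 6, 4, 6, 6, 6, 6, 4, 6, 6, 6, 5, 8, 6])) (.node 216 (.leaf 211 7 [6, 4, 6, 6, 6, 5, 8, 6, 6, 6, 4, 6, 6, 6]) (.leaf 211 13 [8, 6, 6, 6, 4, 6, 6, 6, 6, 4, 6, 6, 6, 5]))) (.node 219 (.node 218 (.leaf 211 3 [4, 6, 6, 6, 6, 4, 6, 6, 6, 5, 8, 6, 6, 6]) (.leaf 211 0 [6, 6, 6, 4, 6, 6, 6, 6, 4, 6, 6, 6, 5, 8])) (.node 220 (.leaf 7 3 [6, 6, 6, 6, 6, 6, 6, 6, 6, 6, 6, 6]) (.leaf 7 1 [6, 6, 6, 6, 6, 6, 6, 6, 6, 6, 6, 6])))))) (.node 237 (.node 229 (.node 225 (.node 223 (.node 222 (.leaf 212 6 [4, 7, 4, 7, 4, 7, 7, 12, 11, 8, 11, 8, 11, 9, 5, 7, 4, 4, 7, 7]) (.leaf 213 6 [4, 7, 4, 6, 4, 6, 4, 14, 8, 8, 11, 8, 11, 8, 10, 10, 5, 5, 5, 6, 5, 6])) (.node 224 (.leaf 214 6 [4, 4, 4, 7, 4, 4, 4, 12, 14, 14, 8, 11, 9, 11, 8, 10, 8, 5, 7, 7, 7, 4, 6]) (.leaf 215 6 [6, 6, 5, 6, 6, 6, 4, 11, 8, 10, 10, 5, 7, 7, 7, 4, 6]))) (.node 227 (.node 226 (.leaf 216 6 [6, 5, 5, 6, 4, 6, 5, 12, 8, 11, 8, 10, 9, 10, 9, 4, 4, 6, 4, 6, 4]) (.leaf 217 6 [4, 7, 4, 4, 6, 6, 6, 12, 14, 14, 8, 10, 8, 8, 10, 9, 11, 8, 4, 4, 6, 6, 4, 7])) (.node 228 (.leaf 218 6 [4, 4, 6, 6, 6, 4, 4, 12, 14, 12, 9, 11, 8, 10, 9, 10, 10, 9, 11, 4, 7, 5, 6, 6, 4]) (.leaf 219 6 [6, 6, 6, 4, 7, 7, 7, 14, 8, 10, 9, 10, 10, 8, 4, 7, 7, 7, 7, 5])))) (.node 233 (.node 231 (.node 230 (.leaf 220 6 [4, 7, 4, 4, 7, 5, 7, 8, 8, 10, 9, 10, 10, 9, 10, 6, 5, 7, 5, 6, 4]) (.leaf 221 6 [6, 4, 4, 7, 5, 5, 5, 12, 13, 13, 10, 10, 8, 11, 9, 10, 8, 8, 7, 7, 5, 6, 6, 4])) (.node 232 (.leaf 222 6 [6, 5, 6, 4, 7, 7, 5, 12, 9, 11, 8, 5, 7, 7, 5, 7, 4]) (.leaf 223 6 [4, 6, 4, 6, 5, 5, 5, 12, 14, 8, 11, 8, 11, 8, 11, 7, 7, 7, 4, 4, 7]))) (.node 235 (.node 234 (.leaf 224 6 [6, 5, 7, 7, 5, 5, 6, 12, 13, 10, 8, 8, 10, 10, 9, 11, 8, 10, 5, 6, 5, 6, 4, 4]) (.leaf 225 6 [4, 7, 7, 7, 4, 7, 7, 13, 12, 13, 8, 8, 10, 9, 10, 10, 9, 10, 5, 6, 6, 5, 5, 6])) (.node 236 (.leaf 226 6 [6, 5, 5, 7, 5, 5, 6, 14, 14, 8, 11, 9, 11, 8, 10, 10, 5, 6, 6, 5, 5, 6]) (.leaf 227 6 [4, 7, 5, 5, 5, 6, 4, 12, 14, 12, 8, 8, 10, 10, 6, 4, 7, 5, 6, 4]))))) (.node 245 (.node 241 (.node 239 (.node 238 (.leaf 228 6 [4, 4, 6, 5, 6, 5, 5, 12, 10, 10, 9, 10, 9, 11, 9, 4, 4, 7, 7, 7, 7]) (.leaf 229 6 [6, 6, 6, 6, 5, 5, 7, 12, 13, 12, 8, 11, 8, 10, 10, 9, 10, 9, 10, 5, 6, 6, 6, 5, 5])) (.node 240 (.leaf 230 6 [4, 7, 7, 4, 7, 5, 7, 12, 14, 8, 11, 9, 10, 9, 10, 10, 9, 7, 7, 7, 4, 4, 4]) (.leaf 231 6 [6, 5, 7, 7, 7, 4, 7, 14, 11, 8, 10, 9, 10, 8, 11, 9, 11, 7, 7, 7, 4, 4, 4]))) (.node 243 (.node 242 (.leaf 232 6 [6, 4, 7, 5, 7, 7, 5, 13, 13, 10, 8, 7, 4, 4, 6, 6, 4]) (.leaf 233 6 [4, 7, 7, 5, 6, 4, 7, 8, 8, 10, 10, 9, 10, 10, 6, 6, 4, 4, 4, 4])) (.node 244 (.leaf 234 6 [6, 5, 6, 4, 7, 7, 7, 14, 8, 10, 9, 10, 10, 8, 7, 7, 4, 6, 6, 6]) (.leaf 235 6 [6, 5, 5, 5, 6, 5, 5, 12, 10, 10, 9, 10, 9, 11, 9, 6, 5, 7, 5, 5, 5])))) (.node 249 (.node 247 (.node 246 (.leaf 236 6 [4, 7, 4, 6, 6, 5, 7, 13, 12, 9, 10, 9, 10, 10, 9, 7, 4, 6, 6, 5, 6]) (.leaf 237 6 [4, 6, 4, 6, 5, 7, 7, 13, 12, 13, 8, 11, 8, 10, 9, 10, 8, 10, 10, 5, 5, 6, 5, 7, 7])) (.node 248 (.leaf 238 6 [6, 6, 6, 6, 4, 7, 4, 13, 8, 10, 9, 11, 9, 10, 7, 4, 6, 4, 4, 6]) (.leaf 239 6 [6, 4, 6, 5, 5, 7, 7, 12, 14, 12, 8, 11, 8, 11, 8, 11, 6, 4, 7, 5, 6, 6]))) (.node 251 (.node 250 (.leaf 240 6 [6, 5, 7, 7, 5, 7, 7, 13, 13, 8, 8, 11, 9, 4, 7, 4, 4, 7, 5]) (.leaf 241 6 [4, 4, 7, 5, 6, 6, 5, 12, 10, 10, 8, 11, 9, 5, 7, 5, 5, 5, 6])) (.node 252 (.leaf 242 6 [4, 7, 4, 4, 7, 5, 5, 13, 9, 10, 9, 11, 9, 10, 6, 5, 7, 5, 7, 7]) (.leaf 243 6 [6, 5, 6, 4, 6, 5, 7, 12, 14, 8, 11, 9, 10, 8, 8, 11, 5, 6, 6, 6, 4, 6]))))))))) (.node 379 (.node 316 (.node 284 (.node 268 (.node 260 (.node 256 (.node 254 (.leaf 244 6 [4, 6, 5, 5, 6, 4, 4, 12, 14, 14, 10, 9, 10, 8, 8, 10, 9, 6, 4, 7, 5, 5, 6]) (.node 255 (.leaf 245 6 [4, 7, 5, 5, 6, 4, 4, 12, 14, 12, 10, 9, 11, 9, 11, 7, 7, 4, 6, 5, 7]) (.leaf 246 6 [4, 7, 7, 7, 5, 5, 7, 14, 12, 8, 10, 8, 10, 9, 10, 8, 11, 5, 6, 5, 7, 4, 7]))) (.node 258 (.node 257 (.leaf 247 6 [4, 4, 6, 6, 4, 4, 7, 14, 14, 8, 10, 9, 6, 4, 6, 6, 5, 6]) (.leaf 248 6 [4, 4, 6, 5, 6, 6, 4, 12, 14, 12, 8, 10, 8, 11, 8, 4, 7, 5, 6, 4, 4])) (.node 259 (.leaf 249 6 [4, 6, 6, 4, 6, 5, 7, 14, 14, 9, 11, 8, 11, 8, 11, 9, 6, 4, 6, 5, 7, 4]) (.leaf 250 6 [6, 4, 6, 4, 4, 7, 4, 13, 12, 13, 10, 10, 9, 10, 10, 9, 6, 4, 6, 5, 7, 4])))) (.node 264 (.node 262 (.node 261 (.leaf 251 6 [6, 5, 5, 7, 4, 4, 4, 13, 12, 13, 8, 10, 9, 10, 10, 8, 5, 5, 6, 5, 5, 5]) (.leaf 252 6 [6, 6, 6, 6, 6, 4, 4, 12, 14, 14, 8, 10, 10, 8, 11, 8, 8, 5, 5, 7, 4, 7, 4])) (.node 263 (.leaf 253 6 [6, 4, 4, 7, 4, 4, 4, 14, 14, 8, 8, 10, 8, 10, 9, 11, 5, 7, 5, 7, 5, 6]) (.leaf 254 6 [4, 4, 6, 5, 5, 5, 6, 13, 12, 13, 8, 8, 10, 9, 11, 8, 6, 6, 4, 6, 4, 7]))) (.node 266 (.node 265 (.leaf 255 6 [6, 6, 4, 7, 7, 5, 5, 14, 12, 9, 10, 8, 8, 11, 8, 11, 7, 4, 4, 6, 4, 4]) (.leaf 1 3 [6, 9, 4, 6, 4])) (.node 267 (.leaf 7 7 [6, 6, 6, 6, 6, 6, 6, 6, 6, 6, 6, 6]) (.leaf 211 4 [6, 6, 6, 6, 4, 6, 6, 6, 5, 8, 6, 6, 6, 4]))))) (.node 276 (.node 272 (.node 270 (.node 269 (.leaf 256 6 [4, 6, 5, 6, 4, 4, 7, 12, 8, 11, 8, 10, 9, 10, 10, 8, 5, 7, 4, 7, 4, 6]) (.leaf 257 6 [4, 4, 7, 4, 7, 5, 5, 12, 13, 8, 8, 10, 9, 10, 10, 5, 7, 4, 6, 6, 6])) (.node 271 (.leaf 258 6 [4, 6, 6, 6, 5, 6, 4, 13, 13, 8, 8, 10, 9, 10, 10, 6, 6, 4, 7, 4, 4]) (.leaf 259 6 [6, 4, 6, 6, 5, 5, 5, 12, 10, 9, 10, 8, 10, 10, 9, 4, 6, 6, 4, 7, 4]))) (.node 274 (.node 273 (.leaf 260 6 [6, 5, 5, 5, 5, 7, 7, 13, 13, 9, 11, 8, 10, 9, 10, 10, 8, 8, 7, 4, 4, 7, 7, 5]) (.leaf 261 6 [6, 4, 4, 7, 4, 6, 5, 12, 8, 10, 8, 10, 9, 11, 8, 10, 6, 5, 5, 7, 7, 4])) (.node 275 (.leaf 9 13 [6, 4, 6, 4, 6, 4, 6, 4, 6, 4, 6, 4, 6, 4, 6, 4]) (.leaf 262 6 [6, 5, 7, 4, 6, 6, 5, 12, 13, 10, 8, 10, 9, 11, 9, 10, 7, 4, 4, 6, 4, 6])))) (.node 280 (.node 278 (.node 277 (.leaf 263 6 [6, 6, 6, 4, 7, 4, 4, 14, 12, 8, 10, 8, 10, 10, 9, 10, 8, 10, 4, 7, 5, 5, 6, 5]) (.leaf 264 6 [6, 4, 6, 4, 4, 6, 5, 12, 13, 13, 9, 10, 8, 11, 8, 10, 10, 9, 6, 4, 6, 5, 6, 5])) (.node 279 (.leaf 265 6 [6, 6, 6, 4, 4, 6, 6, 12, 8, 11, 9, 10, 9, 5, 5, 5, 5, 7, 4]) (.leaf 266 6 [6, 5, 6, 6, 4, 7, 7, 12, 13, 12, 13, 8, 11, 8, 8, 11, 9, 11, 5, 5, 7, 4, 6, 5]))) (.node 282 (.node 281 (.leaf 267 6 [4, 4, 6, 6, 6, 6, 4, 13, 12, 13, 9, 10, 10, 8, 10, 9, 11, 4, 7, 7, 7, 5, 7]) (.leaf 268 6 [4, 7, 4, 4, 7, 7, 5, 12, 14, 14, 8, 10, 9, 10, 9, 10, 7, 4, 4, 4, 4, 6])) (.node 283 (.leaf 269 6 [4, 4, 4, 7, 5, 6, 5, 14, 9, 10, 8, 10, 10, 8, 10, 4, 4, 7, 4, 4, 4]) (.leaf 9 14 [4, 6, 4, 6, 4, 6, 4, 6, 4, 6, 4, 6, 4, 6, 4, 6])))))) (.node 300 (.node 292 (.node 288 (.node 286 (.node 285 (.leaf 270 6 [6, 6, 5, 5, 5, 5, 6, 13, 13, 8, 10, 8, 8, 10, 8, 8, 4, 6, 6, 5, 5, 6]) (.leaf 271 6 [6, 6, 5, 7, 4, 7, 7, 12, 14, 12, 8, 10, 8, 8, 10, 8, 10, 6, 5, 7, 4, 4, 6])) (.node 287 (.leaf 272 6 [6, 6, 5, 7, 4, 7, 4, 13, 13, 10, 9, 11, 9, 11, 8, 10, 10, 4, 6, 6, 4, 4, 6]) (.leaf 273 6 [4, 7, 7, 5, 5, 6, 5, 12, 14, 8, 10, 8, 11, 9, 11, 7, 7, 7, 5, 6, 6]))) (.node 290 (.node 289 (.leaf 274 6 [6, 5, 7, 4, 7, 4, 4, 12, 13, 12, 13, 8, 11, 8, 10, 8, 8, 10, 10, 5, 6, 5, 7, 7, 5]) (.leaf 275 6 [6, 6, 6, 4, 4, 4, 7, 12, 13, 8, 11, 9, 10, 8, 11, 8, 6, 5, 7, 7, 5, 6])) (.node 291 (.leaf 276 6 [6, 5, 6, 6, 6, 4, 7, 12, 9, 10, 9, 10, 10, 4, 7, 5, 7, 4, 4]) (.leaf 9 8 [4, 6, 4, 6, 4, 6, 4, 6, 4, 6, 4, 6, 4, 6, 4, 6])))) (.node 296 (.node 294 (.node 293 (.leaf 277 6 [6, 5, 6, 6, 6, 6, 4, 12, 8, 8, 10, 10, 8, 10, 10, 8, 5, 5, 5, 6, 5, 5]) (.leaf 278 6 [4, 4, 7, 4, 4, 7, 7, 12, 13, 12, 13, 8, 10, 9, 11, 9, 10, 8, 10, 4, 4, 6, 4, 4, 4])) (.node 295 (.leaf 279 6 [6, 4, 6, 5, 7, 5, 7, 8, 8, 10, 9, 11, 9, 10, 4, 4, 6, 4, 4, 4]) (.leaf 280 6 [4, 7, 4, 7, 4, 7, 4, 12, 13, 12, 13, 8, 8, 10, 9, 11, 8, 10, 8, 6, 4, 7, 7, 4, 7]))) (.node 298 (.node 297 (.leaf 10 16 [4, 7, 4, 7, 4, 7, 4, 7, 4, 7, 4, 7, 4, 7, 4, 7, 4, 7, 4, 7, 4, 7, 4, 7]) (.leaf 281 6 [4, 7, 4, 4, 7, 4, 7, 12, 14, 10, 8, 8, 10, 9, 6, 6, 5, 7, 4, 7])) (.node 299 (.leaf 282 6 [6, 6, 5, 5, 6, 4, 4, 12, 14, 10, 8, 8, 10, 9, 11, 9, 5, 5, 5, 5, 5, 6]) (.leaf 283 6 [4, 6, 6, 4, 7, 4, 4, 10, 10, 8, 11, 8, 4, 7, 4, 4, 7, 4]))))) (.node 308 (.node 304 (.node 302 (.node 301 (.leaf 284 6 [6, 4, 6, 4, 6, 6, 6, 14, 14, 9, 10, 8, 11, 8, 8, 11, 6, 6, 4, 6, 6, 4]) (.leaf 9 11 [6, 4, 6, 4, 6, 4, 6, 4, 6, 4, 6, 4, 6, 4, 6, 4])) (.node 303 (.leaf 285 6 [4, 7, 4, 7, 7, 4, 7, 14, 8, 11, 8, 11, 8, 8, 5, 6, 5, 5, 6, 6]) (.leaf 286 6 [6, 5, 5, 7, 4, 6, 5, 14, 10, 10, 8, 11, 8, 10, 4, 7, 5, 6, 6, 6]))) (.node 306 (.node 305 (.leaf 287 6 [4, 7, 7, 4, 7, 7, 4, 13, 11, 8, 10, 9, 10, 9, 5, 6, 6, 6, 5, 6]) (.leaf 288 6 [4, 4, 7, 7, 7, 4, 4, 12, 13, 13, 9, 11, 8, 10, 10, 8, 6, 6, 4, 6, 5, 7])) (.node 307 (.leaf 289 6 [6, 6, 6, 5, 6, 5, 7, 13, 12, 13, 8, 10, 8, 10, 9, 11, 9, 11, 7, 4, 6, 5, 6, 5]) (.leaf 290 6 [6, 6, 6, 5, 5, 5, 6, 13, 9, 11, 9, 10, 8, 10, 6, 5, 6, 6, 5, 6])))) (.node 312 (.node 310 (.node 309 (.leaf 291 6 [4, 4, 6, 5, 6, 5, 7, 14, 12, 8, 8, 10, 8, 10, 9, 11, 6, 5, 7, 4, 7, 4]) (.leaf 292 6 [6, 4, 4, 4, 7, 5, 6, 12, 13, 12, 13, 10, 10, 9, 10, 10, 8, 6, 5, 7, 4, 7, 4])) (.node 311 (.leaf 293 6 [4, 7, 7, 5, 7, 5, 6, 12, 13, 12, 11, 8, 10, 9, 10, 5, 7, 4, 4, 4, 7]) (.leaf 294 6 [6, 4, 6, 4, 4, 4, 7, 12, 14, 14, 9, 10, 9, 11, 9, 10, 8, 7, 4, 4, 6, 5, 5]))) (.node 314 (.node 313 (.leaf 295 6 [6, 5, 6, 6, 5, 6, 6, 13, 12, 13, 8, 11, 8, 11, 8, 10, 8, 5, 5, 5, 7, 7, 4]) (.leaf 296 6 [6, 4, 7, 5, 5, 5, 6, 14, 14, 8, 11, 8, 10, 10, 8, 11, 8, 11, 6, 4, 6, 4, 4, 4])) (.node 315 (.leaf 297 6 [6, 4, 7, 5, 5, 5, 7, 14, 10, 8, 11, 8, 10, 9, 10, 6, 6, 4, 7, 5, 6]) (.leaf 298 6 [4, 7, 5, 6, 4, 4, 4, 12, 14, 14, 9, 11, 8, 10, 9, 10, 5, 7, 4, 6, 6, 4]))))))) (.node 347 (.node 331 (.node 323 (.node 319 (.node 317 (.leaf 299 6 [4, 6, 4, 4, 4, 6, 4, 12, 13, 12, 13, 10, 9, 10, 8, 8, 10, 8, 5, 7, 4, 4, 4, 4]) (.node 318 (.leaf 300 6 [6, 4, 4, 4, 6, 6, 6, 13, 12, 10, 10, 8, 11, 8, 10, 9, 10, 6, 4, 4, 4, 7, 5]) (.leaf 301 6 [4, 7, 7, 5, 5, 6, 4, 11, 8, 11, 6, 5, 6, 6, 4, 4]))) (.node 321 (.node 320 (.leaf 301 15 [11, 6, 5, 6, 6, 4, 4, 4, 7, 7, 5, 5, 6, 4, 11, 8]) (.leaf 2 8 [4, 11, 4, 4, 4, 7, 4, 7, 5, 6])) (.node 322 (.leaf 302 6 [6, 5, 7, 5, 5, 7, 7, 13, 12, 8, 8, 10, 10, 9, 11, 8, 10, 6, 5, 6, 6, 4, 4]) (.leaf 303 6 [6, 4, 7, 7, 5, 6, 6, 12, 13, 12, 8, 8, 10, 9, 10, 10, 8, 11, 9, 6, 4, 4, 7, 5, 5])))) (.node 327 (.node 325 (.node 324 (.leaf 304 6 [6, 5, 7, 4, 7, 5, 5, 13, 10, 10, 8, 8, 11, 8, 10, 4, 4, 7, 4, 6, 5]) (.leaf 305 6 [4, 4, 4, 6, 4, 4, 7, 13, 9, 10, 8, 11, 8, 10, 10, 9, 6, 5, 5, 5, 6, 6])) (.node 326 (.leaf 306 6 [6, 4, 4, 4, 7, 7, 5, 13, 12, 8, 10, 9, 10, 9, 10, 9, 4, 6, 6, 6, 4, 4]) (.leaf 13 8 [6, 4, 4, 6, 4, 4, 6, 4, 4, 6, 4, 4, 6, 4, 4, 6, 4, 4, 6, 4, 4, 6, 4, 4]))) (.node 329 (.node 328 (.leaf 307 6 [4, 6, 4, 7, 7, 4, 4, 12, 13, 12, 13, 9, 11, 8, 10, 9, 10, 10, 8, 10, 6, 4, 4, 4, 4, 6]) (.leaf 308 6 [4, 7, 5, 7, 5, 5, 7, 14, 12, 11, 8, 11, 8, 11, 5, 6, 5, 6, 6, 4])) (.node 330 (.leaf 309 6 [6, 4, 6, 5, 5, 5, 6, 13, 12, 9, 11, 8, 10, 9, 10, 10, 8, 10, 5, 6, 5, 6, 6, 4]) (.leaf 310 6 [4, 7, 7, 5, 5, 6, 6, 12, 14, 12, 10, 10, 8, 11, 9, 10, 8, 8, 7, 7, 4, 4, 7, 4]))))) (.node 339 (.node 335 (.node 333 (.node 332 (.leaf 311 6 [4, 7, 7, 5, 5, 5, 7, 12, 13, 13, 8, 11, 5, 5, 6, 4, 6, 4]) (.leaf 312 6 [4, 7, 4, 7, 5, 5, 5, 13, 8, 10, 10, 9, 10, 4, 4, 7, 4, 7, 4])) (.node 334 (.leaf 313 6 [6, 4, 7, 4, 7, 7, 7, 13, 13, 9, 10, 8, 8, 10, 4, 7, 7, 5, 7, 5]) (.leaf 314 6 [6, 5, 7, 5, 6, 5, 5, 12, 13, 9, 10, 8, 11, 8, 10, 10, 8, 8, 4, 4, 7, 4, 6, 4]))) (.node 337 (.node 336 (.leaf 315 6 [6, 6, 4, 6, 4, 6, 5, 8, 8, 10, 9, 11, 8, 8, 7, 7, 7, 4, 6, 4]) (.leaf 316 6 [6, 4, 6, 6, 4, 4, 7, 8, 11, 9, 10, 9, 10, 10, 9, 5, 7, 7, 5, 6, 6])) (.node 338 (.leaf 211 9 [6, 6, 6, 5, 8, 6, 6, 6, 4, 6, 6, 6, 6, 4]) (.leaf 317 6 [6, 5, 7, 7, 7, 5, 5, 12, 13, 8, 11, 9, 10, 9, 11, 8, 4, 4, 7, 5, 5, 6])))) (.node 343 (.node 341 (.node 340 (.leaf 318 6 [6, 6, 5, 7, 5, 7, 7, 12, 13, 12, 8, 11, 8, 11, 8, 11, 8, 7, 7, 5, 6, 5, 5]) (.leaf 319 6 [4, 6, 6, 4, 6, 4, 4, 12, 13, 13, 11, 8, 10, 9, 10, 8, 4, 4, 4, 7, 7, 4])) (.node 342 (.leaf 320 6 [4, 6, 5, 5, 7, 4, 4, 13, 13, 10, 9, 10, 8, 8, 10, 7, 4, 4, 4, 7, 7]) (.leaf 321 6 [4, 6, 6, 5, 5, 7, 7, 12, 13, 9, 11, 8, 10, 10, 8, 11, 7, 7, 4, 6, 4, 4]))) (.node 345 (.node 344 (.leaf 322 6 [6, 5, 5, 6, 4, 4, 7, 14, 14, 10, 10, 9, 10, 10, 8, 8, 7, 7, 4, 6, 4, 4]) (.leaf 323 6 [4, 6, 5, 6, 4, 6, 4, 13, 13, 8, 11, 8, 11, 8, 11, 5, 7, 4, 4, 4, 6])) (.node 346 (.leaf 324 6 [6, 6, 4, 4, 7, 7, 7, 13, 12, 13, 10, 8, 10, 5, 7, 4, 4, 6, 6]) (.leaf 325 6 [4, 6, 4, 6, 6, 6, 5, 12, 14, 12, 8, 10, 10, 8, 10, 9, 11, 5, 6, 6, 4, 4, 6])))))) (.node 363 (.node 355 (.node 351 (.node 349 (.node 348 (.leaf 326 6 [4, 4, 7, 4, 7, 5, 6, 12, 13, 13, 9, 10, 10, 5, 5, 7, 4, 6, 6]) (.leaf 327 6 [4, 6, 5, 6, 5, 6, 5, 12, 8, 10, 8, 10, 10, 4, 7, 5, 5, 5, 7])) (.node 350 (.leaf 328 6 [4, 6, 4, 6, 5, 6, 4, 13, 12, 13, 10, 8, 11, 8, 6, 6, 4, 6, 4, 4]) (.leaf 329 6 [4, 7, 4, 7, 7, 7, 5, 12, 14, 8, 10, 8, 10, 9, 11, 8, 10, 10, 6, 6, 4, 4, 7, 7]))) (.node 353 (.node 352 (.leaf 330 6 [6, 4, 7, 7, 7, 4, 6, 5, 14, 12, 8, 10, 10, 8, 10, 9, 11, 9, 7, 7, 7, 4, 7, 5]) (.leaf 331 6 [6, 4, 4, 7, 5, 5, 6, 5, 12, 14, 10, 9, 10, 10, 8, 6, 5, 5, 7, 7, 5])) (.node 354 (.leaf 332 6 [6, 6, 6, 5, 7, 7, 5, 5, 12, 13, 12, 8, 8, 10, 9, 11, 8, 8, 10, 4, 7, 5, 6, 6, 5]) (.leaf 333 6 [4, 7, 5, 5, 5, 5, 5, 5, 12, 10, 10, 9, 11, 8, 10, 6, 4, 4, 4, 7, 7])))) (.node 359 (.node 357 (.node 356 (.leaf 334 7 [6, 4, 7, 7, 4, 6, 4, 10, 10, 9, 10, 9, 11, 8, 8, 4, 4, 7, 5, 7, 4, 4]) (.leaf 335 6 [6, 4, 4, 6, 6, 5, 6, 4, 12, 13, 13, 10, 10, 8, 11, 8, 11, 9, 10, 8, 6, 4, 6, 4, 7, 5])) (.node 358 (.leaf 336 7 [4, 4, 6, 5, 7, 5, 5, 13, 9, 10, 10, 9, 10, 8, 10, 10, 4, 4, 4, 4, 6, 6, 4]) (.leaf 337 6 [4, 6, 5, 6, 4, 6, 5, 5, 13, 13, 8, 10, 9, 11, 8, 8, 10, 7, 7, 5, 5, 7, 7]))) (.node 361 (.node 360 (.leaf 338 7 [4, 6, 5, 7, 7, 4, 7, 13, 13, 9, 10, 8, 11, 8, 11, 5, 5, 5, 5, 5, 6, 4]) (.leaf 339 7 [6, 6, 4, 7, 4, 4, 7, 12, 13, 13, 11, 8, 10, 9, 10, 5, 5, 5, 5, 5, 6, 4])) (.node 362 (.leaf 340 7 [6, 5, 5, 5, 7, 4, 7, 14, 12, 8, 10, 10, 8, 10, 9, 11, 9, 5, 7, 5, 5, 7, 4, 4]) (.leaf 341 7 [4, 4, 7, 4, 4, 7, 4, 12, 14, 14, 8, 10, 8, 8, 10, 10, 5, 5, 6, 5, 5, 6, 6]))))) (.node 371 (.node 367 (.node 365 (.node 364 (.leaf 342 7 [6, 5, 6, 5, 5, 6, 6, 12, 13, 13, 8, 8, 11, 8, 10, 10, 5, 5, 6, 5, 5, 6, 6]) (.leaf 343 6 [6, 6, 5, 7, 5, 7, 4, 4, 13, 12, 10, 9, 10, 8, 10, 10, 9, 11, 5, 5, 7, 4, 7, 5])) (.node 366 (.leaf 344 6 [4, 6, 5, 6, 6, 5, 5, 5, 8, 10, 10, 8, 11, 8, 7, 7, 4, 4, 6, 6]) (.leaf 345 6 [6, 4, 6, 4, 4, 4, 6, 5, 12, 13, 12, 9, 10, 10, 8, 10, 9, 10, 9, 7, 7, 4, 4, 6, 6]))) (.node 369 (.node 368 (.leaf 211 2 [6, 4, 6, 6, 6, 6, 4, 6, 6, 6, 5, 8, 6, 6]) (.leaf 346 7 [6, 5, 7, 5, 7, 7, 4, 12, 8, 10, 8, 10, 10, 8, 4, 4, 6, 6, 4, 4, 6])) (.node 370 (.leaf 347 7 [4, 4, 6, 4, 7, 7, 5, 14, 9, 10, 9, 10, 10, 8, 10, 4, 4, 7, 7, 7, 5, 6]) (.leaf 348 6 [6, 6, 6, 4, 7, 7, 7, 4, 13, 13, 9, 11, 8, 10, 10, 8, 11, 5, 7, 5, 7, 5, 5])))) (.node 375 (.node 373 (.node 372 (.leaf 215 16 [10, 5, 7, 7, 7, 4, 6, 6, 6, 5, 6, 6, 6, 4, 11, 8, 10]) (.leaf 349 6 [6, 6, 4, 7, 5, 7, 4, 4, 12, 13, 12, 13, 10, 9, 10, 8, 10, 10, 6, 4, 6, 4, 6, 6])) (.node 374 (.leaf 350 6 [4, 7, 7, 7, 5, 7, 5, 5, 13, 12, 8, 11, 9, 10, 9, 10, 6, 4, 4, 4, 6, 4]) (.leaf 351 7 [4, 4, 7, 5, 6, 4, 4, 12, 13, 12, 13, 8, 10, 8, 11, 8, 11, 8, 8, 4, 4, 6, 4, 4, 7, 7]))) (.node 377 (.node 376 (.leaf 352 6 [4, 7, 7, 7, 4, 4, 6, 5, 13, 9, 10, 8, 8, 11, 9, 10, 7, 7, 4, 7, 5, 6]) (.leaf 353 6 [6, 6, 4, 7, 4, 6, 5, 5, 12, 14, 14, 8, 10, 10, 8, 10, 10, 8, 11, 8, 11, 7, 7, 4, 7, 5, 6])) (.node 378 (.leaf 354 6 [4, 4, 6, 4, 6, 4, 4, 4, 12, 14, 11, 8, 10, 9, 10, 8, 5, 7, 7, 7, 4, 7]) (.leaf 355 7 [4, 7, 5, 5, 5, 5, 6, 12, 13, 8, 8, 10, 10, 8, 10, 10, 4, 7, 5, 6, 4, 6, 4])))))))) (.node 442 (.node 410 (.node 394 (.node 386 (.node 382 (.node 380 (.leaf 356 6 [4, 4, 4, 4, 6, 5, 6, 4, 12, 13, 13, 8, 8, 10, 9, 10, 8, 11, 8, 7, 4, 4, 6, 4, 7]) (.node 381 (.leaf 357 7 [4, 7, 4, 7, 5, 5, 7, 8, 11, 8, 10, 8, 8, 4, 7, 7, 4, 6, 4, 4]) (.leaf 358 6 [4, 4, 4, 6, 4, 7, 4, 4, 12, 13, 12, 9, 11, 9, 10, 5, 5, 7, 4, 4, 4]))) (.node 384 (.node 383 (.leaf 5 5 [4, 4, 4, 4, 4, 4, 4, 4, 4, 4, 4, 4, 4]) (.leaf 359 7 [4, 4, 7, 7, 5, 6, 6, 14, 10, 10, 9, 10, 10, 8, 8, 4, 4, 4, 7, 7, 5, 6])) (.node 385 (.leaf 360 6 [4, 4, 4, 7, 4, 7, 4, 4, 12, 14, 14, 8, 11, 8, 6, 5, 6, 5, 5, 7]) (.leaf 361 6 [4, 4, 4, 7, 5, 5, 6, 4, 13, 12, 8, 10, 8, 11, 9, 11, 8, 7, 7, 7, 4, 7, 4])))) (.node 390 (.node 388 (.node 387 (.leaf 362 6 [4, 7, 5, 5, 7, 5, 6, 4, 12, 13, 13, 10, 8, 10, 10, 9, 10, 8, 5, 7, 5, 6, 4, 7]) (.leaf 363 7 [6, 4, 7, 7, 7, 4, 4, 12, 14, 14, 10, 10, 9, 10, 10, 9, 10, 4, 7, 5, 6, 5, 7, 5])) (.node 389 (.leaf 364 6 [4, 7, 7, 7, 5, 6, 4, 4, 14, 14, 8, 10, 10, 9, 10, 10, 8, 6, 6, 5, 7, 7, 4]) (.leaf 365 6 [6, 6, 4, 7, 5, 6, 5, 7, 12, 14, 14, 10, 8, 11, 9, 10, 8, 6, 6, 5, 7, 7, 4]))) (.node 392 (.node 391 (.leaf 366 7 [6, 4, 4, 4, 4, 7, 4, 12, 13, 12, 8, 8, 10, 9, 10, 10, 8, 11, 4, 4, 6, 5, 6, 5, 6]) (.leaf 367 6 [4, 6, 5, 6, 5, 5, 5, 7, 12, 10, 10, 9, 10, 9, 10, 6, 5, 5, 7, 5, 7])) (.node 393 (.leaf 368 7 [6, 5, 6, 6, 5, 7, 7, 13, 13, 10, 8, 8, 11, 9, 5, 6, 5, 7, 4, 6, 5]) (.leaf 369 6 [4, 7, 4, 7, 4, 7, 4, 4, 12, 14, 12, 9, 10, 9, 11, 8, 8, 10, 10, 5, 7, 4, 6, 4, 4]))))) (.node 402 (.node 398 (.node 396 (.node 395 (.leaf 10 15 [7, 4, 7, 4, 7, 4, 7, 4, 7, 4, 7, 4, 7, 4, 7, 4, 7, 4, 7, 4, 7, 4, 7, 4]) (.leaf 370 6 [4, 7, 7, 5, 7, 7, 5, 5, 14, 14, 8, 11, 8, 10, 9, 10, 8, 10, 5, 7, 7, 4, 4, 4])) (.node 397 (.leaf 371 6 [6, 5, 6, 6, 6, 4, 6, 4, 12, 8, 10, 10, 9, 10, 10, 8, 10, 5, 7, 7, 4, 4, 4]) (.leaf 372 7 [6, 4, 7, 5, 5, 6, 5, 13, 12, 13, 9, 10, 8, 8, 10, 9, 10, 4, 7, 4, 4, 4, 7, 4]))) (.node 400 (.node 399 (.leaf 13 22 [4, 6, 4, 4, 6, 4, 4, 6, 4, 4, 6, 4, 4, 6, 4, 4, 6, 4, 4, 6, 4, 4, 6, 4]) (.leaf 373 7 [4, 7, 5, 7, 4, 6, 5, 12, 13, 9, 10, 8, 10, 10, 4, 7, 5, 5, 7, 4, 7])) (.node 401 (.leaf 374 7 [4, 7, 5, 6, 4, 6, 4, 12, 8, 10, 9, 11, 9, 10, 10, 4, 4, 6, 6, 5, 6, 4]) (.leaf 375 7 [6, 4, 6, 5, 7, 5, 6, 14, 14, 8, 10, 9, 11, 4, 7, 4, 4, 4, 6, 5])))) (.node 406 (.node 404 (.node 403 (.leaf 376 7 [4, 7, 7, 4, 4, 6, 6, 12, 14, 14, 8, 10, 8, 10, 10, 8, 8, 10, 7, 4, 6, 6, 5, 5, 7]) (.leaf 377 7 [6, 5, 5, 7, 5, 6, 6, 13, 12, 8, 10, 9, 11, 9, 10, 8, 10, 4, 7, 7, 5, 6, 5, 5])) (.node 405 (.leaf 378 6 [4, 4, 7, 7, 7, 7, 5, 5, 12, 8, 10, 8, 11, 8, 8, 11, 8, 8, 5, 6, 5, 6, 4, 6]) (.leaf 379 7 [6, 5, 7, 7, 7, 4, 4, 13, 12, 10, 8, 8, 10, 8, 11, 8, 4, 7, 5, 5, 5, 5, 6]))) (.node 408 (.node 407 (.leaf 17 4 [4, 6, 6, 6, 4, 6, 6, 6, 4, 6, 6, 6, 4, 6, 6, 6, 4, 6, 6, 6, 4, 6, 6, 6, 4, 6, 6, 6, 4, 6, 6, 6]) (.leaf 380 6 [4, 4, 7, 5, 5, 7, 5, 7, 8, 10, 10, 8, 10, 9, 10, 6, 4, 6, 4, 4, 7])) (.node 409 (.leaf 13 20 [6, 4, 4, 6, 4, 4, 6, 4, 4, 6, 4, 4, 6, 4, 4, 6, 4, 4, 6, 4, 4, 6, 4, 4]) (.leaf 381 7 [6, 4, 7, 4, 7, 5, 6, 12, 13, 13, 9, 11, 8, 8, 11, 9, 6, 5, 6, 5, 7, 7, 5])))))) (.node 426 (.node 418 (.node 414 (.node 412 (.node 411 (.leaf 382 6 [4, 4, 7, 4, 7, 4, 4, 4, 13, 12, 9, 10, 8, 8, 10, 5, 5, 6, 4, 6, 6]) (.leaf 383 7 [4, 6, 4, 6, 5, 6, 6, 14, 12, 8, 10, 9, 11, 9, 11, 6, 6, 6, 5, 5, 6, 4])) (.node 413 (.leaf 384 7 [6, 6, 4, 6, 5, 6, 6, 13, 13, 9, 10, 9, 10, 10, 6, 4, 7, 4, 7, 7, 4]) (.leaf 385 7 [6, 6, 6, 6, 4, 6, 5, 12, 13, 13, 8, 10, 9, 10, 10, 8, 8, 4, 6, 6, 6, 5, 7, 5]))) (.node 416 (.node 415 (.leaf 386 6 [4, 4, 4, 7, 5, 5, 6, 5, 12, 13, 10, 9, 11, 8, 6, 4, 4, 7, 4, 7]) (.leaf 387 6 [6, 6, 6, 6, 4, 7, 5, 5, 13, 8, 10, 8, 10, 10, 8, 8, 10, 5, 6, 5, 7, 5, 5])) (.node 417 (.leaf 388 6 [4, 4, 7, 7, 4, 4, 4, 4, 12, 13, 12, 13, 8, 8, 10, 10, 9, 10, 6, 6, 4, 4, 6, 4]) (.leaf 389 6 [6, 5, 7, 4, 4, 7, 5, 5, 12, 13, 13, 10, 10, 9, 10, 8, 11, 9, 6, 6, 4, 4, 6, 4])))) (.node 422 (.node 420 (.node 419 (.leaf 390 6 [6, 4, 4, 7, 4, 6, 5, 5, 12, 14, 12, 10, 10, 9, 10, 9, 11, 5, 7, 4, 4, 6, 5]) (.leaf 391 6 [4, 7, 5, 7, 5, 7, 7, 4, 13, 8, 10, 9, 11, 8, 11, 9, 10, 9, 5, 7, 5, 7, 4, 7])) (.node 421 (.leaf 392 7 [6, 6, 6, 4, 4, 7, 7, 13, 13, 8, 10, 9, 10, 6, 4, 4, 4, 6, 6, 4]) (.leaf 393 6 [4, 7, 4, 7, 7, 5, 6, 4, 14, 8, 10, 8, 8, 10, 8, 11, 6, 6, 6, 5, 6, 4]))) (.node 424 (.node 423 (.leaf 394 6 [6, 4, 6, 4, 6, 6, 5, 5, 12, 14, 12, 8, 11, 9, 10, 8, 8, 11, 6, 6, 4, 6, 4, 6]) (.leaf 395 6 [4, 4, 4, 4, 4, 7, 4, 7, 13, 12, 8, 11, 9, 11, 8, 10, 8, 11, 6, 6, 4, 4, 4, 7])) (.node 425 (.leaf 396 7 [4, 4, 4, 4, 6, 6, 5, 13, 12, 13, 10, 8, 8, 10, 8, 10, 10, 4, 4, 6, 5, 6, 4, 4]) (.leaf 397 7 [6, 4, 6, 6, 4, 7, 7, 12, 13, 13, 8, 8, 10, 8, 10, 9, 10, 4, 4, 6, 5, 6, 4, 4]))))) (.node 434 (.node 430 (.node 428 (.node 427 (.leaf 398 6 [4, 6, 5, 7, 7, 4, 6, 5, 14, 14, 10, 10, 8, 11, 9, 10, 8, 6, 4, 4, 7, 4, 4]) (.leaf 399 6 [4, 4, 6, 5, 5, 5, 5, 5, 12, 14, 12, 10, 9, 10, 9, 10, 10, 8, 11, 4, 4, 6, 6, 6, 4])) (.node 429 (.leaf 400 7 [4, 7, 4, 6, 5, 7, 7, 12, 9, 10, 8, 11, 8, 10, 9, 5, 7, 5, 7, 5, 7, 4]) (.leaf 401 6 [6, 4, 6, 4, 4, 7, 4, 4, 13, 13, 10, 10, 9, 10, 9, 10, 10, 8, 11, 6, 5, 5, 5, 5, 5]))) (.node 432 (.node 431 (.leaf 9 0 [4, 6, 4, 6, 4, 6, 4, 6, 4, 6, 4, 6, 4, 6, 4, 6]) (.leaf 5 12 [4, 4, 4, 4, 4, 4, 4, 4, 4, 4, 4, 4, 4])) (.node 433 (.leaf 402 6 [6, 6, 4, 6, 5, 6, 5, 7, 12, 13, 12, 8, 8, 11, 6, 6, 6, 5, 5, 5]) (.leaf 403 7 [4, 4, 4, 7, 4, 6, 5, 12, 14, 8, 11, 9, 11, 8, 4, 4, 4, 6, 6, 5, 7])))) (.node 438 (.node 436 (.node 435 (.leaf 404 7 [6, 5, 7, 4, 4, 6, 6, 12, 13, 12, 13, 8, 11, 8, 10, 10, 9, 10, 4, 7, 7, 7, 4, 6, 4]) (.leaf 60 12 [11, 9, 11, 8, 4, 6, 6, 4, 6, 6, 6, 6, 5, 7, 7, 8])) (.node 437 (.leaf 2 1 [4, 4, 7, 4, 7, 5, 6, 4, 11, 4]) (.leaf 405 6 [6, 5, 7, 4, 6, 4, 7, 4, 12, 13, 10, 10, 9, 10, 10, 8, 11, 8, 7, 4, 6, 5, 5, 5]))) (.node 440 (.node 439 (.leaf 279 17 [11, 9, 10, 4, 4, 6, 4, 4, 4, 6, 4, 6, 5, 7, 5, 7, 8, 8, 10, 9]) (.leaf 315 7 [6, 4, 6, 4, 6, 5, 8, 8, 10, 9, 11, 8, 8, 7, 7, 7, 4, 6, 4, 6])) (.node 441 (.leaf 406 6 [4, 6, 5, 5, 5, 7, 5, 5, 12, 14, 14, 8, 11, 8, 10, 8, 8, 5, 7, 5, 5, 5, 7]) (.leaf 407 6 [4, 7, 5, 7, 4, 6, 5, 5, 12, 13, 12, 13, 9, 10, 8, 8, 11, 9, 6, 4, 4, 6, 5, 6]))))))) (.node 474 (.node 458 (.node 450 (.node 446 (.node 444 (.node 443 (.leaf 408 6 [6, 5, 7, 4, 7, 7, 4, 4, 12, 14, 10, 9, 11, 8, 10, 9, 7, 7, 5, 5, 6, 6]) (.leaf 409 7 [6, 6, 5, 5, 6, 6, 4, 13, 13, 8, 10, 9, 10, 9, 10, 8, 4, 4, 6, 4, 7, 7, 5])) (.node 445 (.leaf 410 6 [6, 4, 4, 7, 5, 7, 7, 4, 12, 13, 12, 13, 9, 11, 9, 10, 9, 10, 6, 5, 6, 4, 6, 4]) (.leaf 411 6 [6, 5, 6, 6, 6, 5, 5, 5, 9, 11, 9, 11, 8, 11, 8, 11, 5, 6, 5, 5, 7, 5]))) (.node 448 (.node 447 (.leaf 412 7 [6, 4, 4, 4, 7, 4, 4, 14, 12, 8, 10, 8, 8, 10, 8, 10, 4, 7, 5, 7, 7, 7, 4]) (.leaf 413 6 [6, 4, 4, 6, 5, 6, 4, 4, 12, 13, 13, 10, 9, 10, 8, 8, 6, 5, 5, 7, 4, 6])) (.node 449 (.leaf 414 6 [6, 5, 7, 7, 5, 5, 5, 7, 8, 10, 10, 8, 10, 10, 8, 11, 8, 6, 6, 4, 4, 4, 6]) (.leaf 415 7 [6, 4, 4, 7, 5, 5, 6, 13, 12, 13, 8, 8, 10, 8, 10, 10, 9, 6, 5, 7, 7, 5, 7, 5])))) (.node 454 (.node 452 (.node 451 (.leaf 416 6 [4, 6, 6, 6, 4, 4, 7, 4, 12, 14, 14, 8, 11, 8, 10, 9, 10, 10, 9, 7, 7, 5, 7, 7, 4]) (.leaf 417 7 [4, 6, 5, 7, 4, 7, 7, 12, 14, 12, 10, 9, 11, 9, 11, 8, 10, 4, 4, 7, 5, 6, 4, 6])) (.node 453 (.leaf 418 7 [6, 4, 7, 7, 4, 6, 6, 13, 11, 8, 10, 10, 9, 4, 4, 7, 5, 6, 4, 6]) (.leaf 419 6 [4, 6, 5, 5, 5, 5, 6, 5, 13, 12, 13, 8, 11, 8, 10, 9, 10, 4, 7, 7, 5, 5, 6]))) (.node 456 (.node 455 (.leaf 7 9 [6, 6, 6, 6, 6, 6, 6, 6, 6, 6, 6, 6]) (.leaf 420 7 [4, 7, 5, 5, 7, 7, 5, 13, 13, 8, 8, 10, 8, 11, 9, 11, 4, 4, 4, 4, 6, 5, 7])) (.node 457 (.leaf 421 7 [4, 4, 4, 7, 5, 5, 7, 14, 8, 8, 11, 9, 10, 8, 10, 5, 7, 7, 4, 7, 4, 7]) (.leaf 422 7 [6, 6, 4, 6, 6, 5, 7, 13, 12, 13, 9, 11, 8, 10, 10, 8, 11, 8, 5, 5, 6, 4, 4, 4, 4]))))) (.node 466 (.node 462 (.node 460 (.node 459 (.leaf 423 7 [6, 4, 4, 4, 4, 6, 4, 12, 8, 8, 10, 8, 11, 9, 10, 8, 4, 7, 4, 4, 6, 6, 4]) (.leaf 141 12 [9, 10, 8, 8, 10, 9, 5, 5, 7, 5, 7, 4, 4, 6, 6, 4, 6, 6])) (.node 461 (.leaf 1 1 [6, 4, 6, 9, 4]) (.leaf 424 6 [6, 5, 7, 5, 5, 6, 4, 4, 14, 8, 10, 9, 11, 9, 10, 10, 6, 6, 6, 5, 5, 6]))) (.node 464 (.node 463 (.leaf 425 6 [4, 6, 6, 5, 5, 7, 7, 5, 8, 11, 9, 10, 8, 8, 4, 7, 4, 6, 6, 6]) (.leaf 426 7 [4, 4, 6, 5, 5, 6, 6, 14, 12, 8, 11, 8, 10, 8, 8, 11, 5, 5, 6, 6, 4, 4, 7])) (.node 465 (.leaf 427 6 [6, 4, 6, 5, 5, 7, 5, 5, 12, 14, 12, 8, 10, 9, 10, 10, 8, 8, 11, 5, 5, 7, 4, 4, 6]) (.leaf 428 7 [6, 5, 7, 4, 6, 5, 7, 13, 12, 13, 8, 10, 8, 10, 9, 11, 8, 4, 7, 7, 7, 4, 4, 4])))) (.node 470 (.node 468 (.node 467 (.leaf 16 27 [7, 4, 6, 5, 7, 4, 6, 5, 7, 4, 6, 5, 7, 4, 6, 5, 7, 4, 6, 5, 7, 4, 6, 5, 7, 4, 6, 5, 7, 4, 6, 5]) (.leaf 429 7 [6, 6, 4, 4, 4, 6, 4, 14, 14, 8, 8, 10, 9, 10, 9, 10, 5, 6, 5, 5, 7, 5, 5])) (.node 469 (.leaf 60 14 [11, 8, 4, 6, 6, 4, 6, 6, 6, 6, 5, 7, 7, 8, 11, 9]) (.leaf 3 1 [8, 8, 10, 12, 11]))) (.node 472 (.node 471 (.leaf 430 6 [6, 6, 4, 4, 4, 6, 6, 5, 13, 12, 10, 8, 8, 10, 10, 8, 6, 4, 6, 5, 5, 5]) (.leaf 431 7 [4, 4, 4, 4, 6, 4, 7, 14, 14, 10, 9, 10, 9, 11, 9, 10, 8, 11, 5, 6, 6, 5, 5, 5, 7])) (.node 473 (.leaf 432 6 [4, 6, 5, 6, 5, 7, 4, 7, 14, 12, 8, 8, 10, 9, 10, 10, 8, 10, 6, 5, 7, 5, 5, 6]) (.leaf 433 6 [4, 4, 6, 5, 5, 5, 6, 5, 12, 13, 12, 10, 10, 8, 8, 11, 9, 10, 5, 6, 6, 6, 4, 4])))))) (.node 490 (.node 482 (.node 478 (.node 476 (.node 475 (.leaf 434 7 [6, 6, 5, 5, 6, 4, 7, 13, 13, 9, 11, 8, 10, 9, 10, 5, 7, 4, 7, 5, 6, 5]) (.leaf 435 7 [6, 6, 6, 4, 6, 5, 5, 12, 13, 12, 8, 10, 8, 11, 9, 11, 8, 11, 4, 4, 4, 4, 4, 4, 6])) (.node 477 (.leaf 17 8 [4, 6, 6, 6, 4, 6, 6, 6, 4, 6, 6, 6, 4, 6, 6, 6, 4, 6, 6, 6, 4, 6, 6, 6, 4, 6, 6, 6, 4, 6, 6, 6]) (.leaf 436 6 [6, 4, 7, 7, 5, 7, 7, 4, 12, 13, 13, 10, 9, 10, 9, 10, 10, 8, 6, 5, 7, 4, 6, 4]))) (.node 480 (.node 479 (.leaf 437 7 [4, 6, 6, 4, 6, 5, 5, 12, 13, 12, 10, 8, 10, 9, 11, 8, 10, 4, 4, 4, 4, 7, 7, 4]) (.leaf 301 13 [11, 8, 11, 6, 5, 6, 6, 4, 4, 4, 7, 7, 5, 5, 6, 4])) (.node 481 (.leaf 2 3 [7, 4, 7, 5, 6, 4, 11, 4, 4, 4]) (.leaf 438 7 [6, 4, 4, 4, 4, 6, 6, 12, 11, 8, 11, 8, 10, 9, 10, 10, 6, 5, 6, 6, 4, 6, 4])))) (.node 486 (.node 484 (.node 483 (.leaf 439 6 [6, 6, 6, 6, 6, 4, 4, 4, 12, 13, 13, 8, 10, 8, 8, 10, 8, 10, 10, 7, 7, 4, 4, 7, 5]) (.leaf 440 7 [4, 6, 4, 6, 4, 7, 4, 12, 14, 9, 10, 9, 11, 5, 5, 5, 7, 5, 5, 7])) (.node 485 (.leaf 441 7 [4, 6, 6, 4, 7, 7, 7, 13, 12, 13, 11, 8, 10, 9, 10, 8, 11, 5, 5, 6, 5, 5, 7, 7]) (.leaf 442 6 [4, 6, 4, 7, 5, 7, 4, 4, 13, 12, 13, 10, 8, 11, 9, 10, 8, 8, 11, 5, 7, 5, 7, 4, 6]))) (.node 488 (.node 487 (.leaf 443 6 [4, 4, 4, 6, 5, 7, 4, 4, 12, 14, 9, 10, 9, 11, 9, 10, 6, 5, 5, 7, 7, 7]) (.leaf 444 6 [6, 6, 4, 6, 6, 6, 5, 5, 13, 9, 10, 8, 8, 11, 8, 10, 10, 5, 5, 5, 6, 5, 6])) (.node 489 (.leaf 445 6 [4, 7, 5, 6, 6, 6, 5, 5, 13, 12, 13, 8, 8, 10, 9, 11, 8, 10, 4, 7, 5, 7, 7, 4]) (.leaf 446 6 [6, 4, 7, 5, 5, 6, 5, 5, 12, 13, 9, 11, 9, 11, 8, 11, 8, 4, 7, 5, 7, 7, 4]))))) (.node 498 (.node 494 (.node 492 (.node 491 (.leaf 447 7 [4, 6, 5, 7, 5, 5, 6, 12, 14, 12, 10, 10, 8, 8, 10, 10, 8, 11, 6, 5, 6, 5, 5, 5, 7]) (.leaf 448 6 [6, 5, 7, 4, 4, 4, 7, 4, 12, 14, 8, 10, 9, 10, 9, 10, 8, 8, 6, 6, 4, 7, 5, 5])) (.node 493 (.leaf 449 7 [6, 6, 5, 6, 5, 7, 7, 13, 12, 13, 9, 11, 8, 4, 4, 4, 4, 6, 6, 5]) (.leaf 450 6 [4, 4, 4, 7, 7, 5, 6, 4, 13, 13, 9, 10, 9, 6, 5, 7, 5, 6, 6]))) (.node 496 (.node 495 (.leaf 215 15 [10, 10, 5, 7, 7, 7, 4, 6, 6, 6, 5, 6, 6, 6, 4, 11, 8]) (.leaf 83 12 [13, 8, 10, 8, 10, 10, 6, 4, 6, 5, 6, 4, 6, 5, 7, 5, 6, 5])) (.node 497 (.leaf 107 14 [11, 9, 4, 6, 6, 4, 6, 4, 4, 6, 4, 4, 4, 4, 14, 8]) (.leaf 451 6 [4, 4, 6, 4, 6, 6, 6, 4, 13, 12, 10, 9, 10, 10, 9, 6, 5, 7, 7, 4, 7])))) (.node 502 (.node 500 (.node 499 (.leaf 5 4 [4, 4, 4, 4, 4, 4, 4, 4, 4, 4, 4, 4, 4]) (.leaf 452 7 [6, 5, 6, 6, 4, 6, 6, 13, 8, 10, 8, 11, 8, 4, 7, 5, 5, 7, 5, 5])) (.node 501 (.leaf 453 7 [6, 5, 6, 4, 7, 4, 4, 13, 11, 8, 10, 8, 5, 5, 5, 6, 5, 6, 5]) (.leaf 454 7 [4, 4, 7, 7, 7, 4, 7, 13, 13, 10, 8, 11, 9, 10, 9, 10, 9, 4, 4, 4, 6, 5, 6, 4]))) (.node 504 (.node 503 (.leaf 455 6 [6, 4, 6, 6, 5, 7, 7, 5, 12, 8, 10, 10, 9, 10, 9, 11, 9, 6, 5, 6, 5, 7, 5]) (.leaf 456 7 [4, 4, 7, 7, 4, 4, 4, 12, 13, 13, 10, 9, 10, 8, 8, 10, 8, 4, 7, 5, 7, 4, 6, 4])) (.node 505 (.leaf 457 7 [6, 5, 7, 7, 5, 6, 4, 13, 8, 11, 8, 10, 9, 10, 8, 10, 5, 7, 4, 4, 4, 6, 6]) (.leaf 458 7 [4, 4, 6, 6, 5, 6, 6, 12, 13, 8, 8, 10, 8, 11, 9, 10, 10, 6, 5, 6, 6, 6, 5, 6])))))))))) (.node 759 (.node 632 (.node 569 (.node 537 (.node 521 (.node 513 (.node 509 (.node 507 (.leaf 459 7 [4, 6, 5, 6, 6, 5, 7, 12, 13, 12, 13, 8, 11, 9, 10, 8, 11, 8, 11, 4, 6, 6, 4, 7, 7, 4]) (.node 508 (.leaf 34 12 [8, 10, 8, 7, 7, 5, 6, 4, 4, 6, 6, 5, 7, 13, 8]) (.leaf 120 12 [12, 10, 8, 8, 10, 4, 7, 4, 4, 6, 6, 6, 6, 4, 6, 6, 6]))) (.node 511 (.node 510 (.leaf 73 17 [9, 6, 6, 5, 5, 7, 4, 4, 7, 5, 7, 7, 5, 12, 9, 11, 8, 10]) (.leaf 62 2 [5, 5, 7, 4, 6, 4, 6, 5, 7, 14, 12, 10, 10, 5, 6])) (.node 512 (.leaf 1 0 [4, 6, 4, 6, 9]) (.leaf 460 7 [6, 6, 4, 4, 4, 6, 6, 13, 8, 8, 10, 9, 11, 8, 10, 4, 6, 6, 6, 4, 6, 4])))) (.node 517 (.node 515 (.node 514 (.leaf 461 6 [6, 6, 5, 5, 5, 7, 7, 5, 12, 14, 14, 8, 10, 8, 8, 10, 10, 4, 7, 7, 4, 6, 5]) (.leaf 462 6 [6, 5, 6, 5, 5, 7, 7, 5, 12, 14, 14, 10, 9, 11, 8, 10, 5, 6, 6, 4, 6, 5])) (.node 516 (.leaf 463 6 [4, 7, 4, 7, 7, 7, 4, 4, 13, 12, 13, 9, 11, 9, 10, 8, 10, 9, 6, 6, 5, 5, 6, 4]) (.leaf 5 1 [4, 4, 4, 4, 4, 4, 4, 4, 4, 4, 4, 4, 4]))) (.node 519 (.node 518 (.leaf 464 7 [6, 5, 7, 7, 4, 6, 6, 12, 13, 13, 8, 8, 11, 9, 6, 4, 7, 4, 6, 5, 6]) (.leaf 465 7 [4, 6, 6, 6, 5, 5, 6, 12, 13, 8, 10, 8, 11, 8, 8, 10, 6, 5, 6, 5, 7, 4, 6])) (.node 520 (.leaf 466 7 [4, 4, 7, 5, 5, 5, 7, 12, 13, 12, 13, 8, 10, 8, 11, 8, 11, 8, 5, 7, 4, 4, 6, 5, 7]) (.leaf 467 7 [4, 6, 6, 5, 5, 6, 4, 12, 13, 12, 8, 10, 10, 9, 10, 10, 8, 4, 4, 7, 5, 5, 7, 4]))))) (.node 529 (.node 525 (.node 523 (.node 522 (.leaf 468 6 [4, 7, 7, 5, 7, 5, 5, 7, 14, 14, 9, 10, 10, 6, 6, 6, 4, 6, 4]) (.leaf 469 7 [6, 6, 4, 6, 4, 6, 4, 12, 13, 8, 10, 10, 8, 8, 11, 4, 6, 6, 6, 5, 6, 4])) (.node 524 (.leaf 8 4 [7, 7, 7, 7, 7, 7, 7, 7, 7, 7, 7, 7]) (.leaf 470 6 [6, 4, 6, 6, 4, 4, 7, 4, 13, 12, 10, 8, 8, 10, 9, 11, 8, 8, 11, 7, 7, 4, 6, 5, 5]))) (.node 527 (.node 526 (.leaf 471 6 [6, 4, 6, 5, 7, 5, 5, 7, 12, 14, 14, 8, 11, 8, 10, 9, 10, 8, 6, 5, 7, 5, 6, 4]) (.leaf 472 6 [4, 4, 6, 5, 7, 7, 4, 4, 13, 13, 9, 10, 9, 10, 10, 7, 7, 5, 6, 6, 4])) (.node 528 (.leaf 473 6 [4, 6, 4, 7, 4, 6, 5, 5, 12, 13, 12, 8, 10, 8, 10, 9, 10, 9, 5, 7, 7, 5, 7, 4]) (.leaf 474 7 [6, 4, 4, 4, 4, 4, 4, 14, 14, 8, 10, 9, 10, 10, 9, 10, 9, 4, 4, 4, 6, 6, 6, 4])))) (.node 533 (.node 531 (.node 530 (.leaf 425 17 [10, 8, 8, 4, 7, 4, 6, 6, 6, 4, 6, 6, 5, 5, 7, 7, 5, 8, 11, 9]) (.leaf 32 10 [13, 11, 8, 11, 8, 10, 6, 6, 6, 4, 4, 6, 6, 6, 6, 6])) (.node 532 (.leaf 222 13 [12, 9, 11, 8, 5, 7, 7, 5, 7, 4, 6, 5, 6, 4, 7, 7, 5]) (.leaf 100 14 [11, 8, 4, 7, 7, 4, 4, 4, 6, 5, 5, 6, 6, 5, 12, 8]))) (.node 535 (.node 534 (.leaf 180 13 [14, 12, 8, 8, 6, 5, 6, 6, 6, 6, 4, 4, 7, 5, 5, 5, 6]) (.leaf 100 2 [7, 4, 4, 4, 6, 5, 5, 6, 6, 5, 12, 8, 11, 8, 4, 7])) (.node 536 (.leaf 70 16 [10, 8, 11, 8, 6, 5, 5, 6, 4, 6, 6, 4, 7, 5, 6, 14, 12, 8, 8, 10]) (.leaf 8 1 [7, 7, 7, 7, 7, 7, 7, 7, 7, 7, 7, 7])))))) (.node 553 (.node 545 (.node 541 (.node 539 (.node 538 (.leaf 174 13 [14, 8, 8, 11, 9, 10, 9, 10, 10, 4, 4, 4, 6, 6, 4, 4, 7, 4, 7, 4, 4, 7]) (.leaf 211 11 [6, 5, 8, 6, 6, 6, 4, 6, 6, 6, 6, 4, 6, 6])) (.node 540 (.leaf 444 22 [10, 5, 5, 5, 6, 5, 6, 6, 6, 4, 6, 6, 6, 5, 5, 13, 9, 10, 8, 8, 11, 8, 10]) (.leaf 34 10 [13, 8, 8, 10, 8, 7, 7, 5, 6, 4, 4, 6, 6, 5, 7]))) (.node 543 (.node 542 (.leaf 114 12 [13, 10, 10, 9, 10, 8, 8, 4, 6, 6, 4, 4, 4, 6, 5, 6, 4, 4, 4]) (.leaf 215 11 [6, 4, 11, 8, 10, 10, 5, 7, 7, 7, 4, 6, 6, 6, 5, 6, 6])) (.node 544 (.leaf 2 2 [4, 7, 4, 7, 5, 6, 4, 11, 4, 4]) (.leaf 54 4 [4, 4, 6, 5, 7, 7, 5, 13, 13, 9, 10, 8, 8, 5, 7, 5, 6])))) (.node 549 (.node 547 (.node 546 (.leaf 2 5 [7, 5, 6, 4, 11, 4, 4, 4, 7, 4]) (.leaf 475 6 [4, 7, 5, 6, 4, 4, 6, 5, 12, 14, 12, 8, 10, 10, 9, 10, 9, 11, 8, 5, 6, 5, 6, 4, 4])) (.node 548 (.leaf 476 6 [6, 5, 6, 5, 5, 5, 6, 5, 13, 12, 13, 8, 11, 9, 11, 8, 10, 8, 6, 6, 6, 5, 7, 5]) (.leaf 477 7 [6, 5, 6, 6, 4, 4, 7, 12, 13, 13, 11, 8, 4, 6, 6, 6, 4, 4, 4]))) (.node 551 (.node 550 (.leaf 478 6 [6, 4, 7, 5, 7, 7, 7, 5, 12, 10, 8, 8, 10, 10, 9, 10, 9, 10, 6, 4, 4, 4, 7, 4]) (.leaf 479 7 [6, 5, 6, 5, 7, 4, 4, 13, 12, 13, 8, 11, 8, 11, 8, 8, 11, 4, 7, 5, 7, 4, 6, 6])) (.node 552 (.leaf 215 13 [11, 8, 10, 10, 5, 7, 7, 7, 4, 6, 6, 6, 5, 6, 6, 6, 4]) (.leaf 211 5 [6, 6, 6, 4, 6, 6, 6, 5, 8, 6, 6, 6, 4, 6]))))) (.node 561 (.node 557 (.node 555 (.node 554 (.leaf 100 7 [5, 5, 6, 6, 5, 12, 8, 11, 8, 4, 7, 7, 4, 4, 4, 6]) (.leaf 480 7 [6, 5, 7, 5, 5, 5, 6, 13, 12, 10, 10, 8, 11, 8, 10, 9, 5, 6, 6, 6, 5, 6, 5])) (.node 556 (.leaf 481 6 [4, 4, 6, 4, 6, 6, 4, 7, 12, 14, 14, 8, 8, 10, 10, 8, 10, 10, 9, 11, 7, 4, 4, 6, 6, 4]) (.leaf 482 7 [4, 6, 5, 6, 6, 6, 5, 12, 13, 12, 11, 8, 11, 8, 11, 4, 7, 4, 6, 4, 7, 7]))) (.node 559 (.node 558 (.leaf 483 6 [4, 4, 6, 4, 4, 7, 5, 5, 13, 12, 13, 8, 10, 10, 9, 11, 8, 11, 9, 5, 5, 7, 5, 5, 7]) (.leaf 484 6 [4, 7, 7, 5, 5, 5, 6, 4, 12, 9, 10, 8, 10, 10, 8, 10, 10, 7, 4, 6, 4, 6, 6])) (.node 560 (.leaf 380 15 [10, 10, 8, 10, 9, 10, 6, 4, 6, 4, 4, 7, 4, 4, 7, 5, 5, 7, 5, 7, 8]) (.leaf 27 9 [12, 10, 8, 8, 10, 6, 4, 6, 6, 6, 6, 5, 6, 5])))) (.node 565 (.node 563 (.node 562 (.leaf 128 16 [11, 6, 6, 4, 4, 6, 6, 6, 6, 4, 6, 6, 5, 12, 10, 8, 8]) (.leaf 344 18 [11, 8, 7, 7, 4, 4, 6, 6, 4, 6, 5, 6, 6, 5, 5, 5, 8, 10, 10, 8])) (.node 564 (.leaf 2 6 [5, 6, 4, 11, 4, 4, 4, 7, 4, 7]) (.leaf 100 15 [8, 4, 7, 7, 4, 4, 4, 6, 5, 5, 6, 6, 5, 12, 8, 11]))) (.node 567 (.node 566 (.leaf 485 6 [6, 5, 7, 7, 7, 7, 5, 5, 12, 13, 12, 13, 8, 10, 10, 8, 10, 9, 11, 8, 5, 6, 5, 7, 4, 6]) (.leaf 486 6 [4, 6, 5, 5, 7, 7, 5, 5, 12, 13, 12, 10, 10, 8, 8, 10, 10, 9, 10, 10, 7, 4, 4, 4, 6, 4])) (.node 568 (.leaf 487 6 [4, 6, 4, 6, 5, 6, 4, 4, 12, 14, 12, 10, 8, 8, 10, 9, 11, 8, 8, 7, 7, 4, 6, 6, 6]) (.leaf 488 6 [4, 4, 6, 5, 5, 6, 5, 5, 13, 12, 9, 11, 8, 11, 8, 11, 9, 10, 5, 5, 5, 7, 7, 7]))))))) (.node 600 (.node 584 (.node 576 (.node 572 (.node 570 (.leaf 489 6 [4, 6, 4, 4, 4, 7, 7, 4, 14, 11, 8, 11, 8, 10, 9, 10, 8, 11, 5, 7, 5, 6, 5, 6]) (.node 571 (.leaf 490 6 [4, 4, 6, 5, 7, 7, 5, 5, 12, 14, 14, 8, 11, 8, 8, 11, 9, 5, 6, 5, 6, 5, 6]) (.leaf 491 7 [4, 7, 4, 6, 6, 5, 5, 14, 14, 8, 10, 8, 10, 10, 8, 10, 10, 4, 4, 6, 5, 5, 7, 4]))) (.node 574 (.node 573 (.leaf 492 7 [6, 6, 4, 6, 6, 4, 4, 12, 14, 12, 8, 10, 10, 8, 10, 9, 10, 9, 11, 4, 4, 6, 5, 5, 7, 4]) (.leaf 493 7 [6, 6, 5, 5, 6, 6, 6, 12, 13, 12, 13, 8, 11, 9, 10, 8, 11, 5, 7, 7, 7, 4, 6, 5])) (.node 575 (.leaf 494 6 [6, 5, 6, 6, 5, 7, 7, 5, 12, 14, 12, 11, 8, 11, 8, 10, 9, 10, 10, 6, 4, 7, 4, 4, 6]) (.leaf 228 17 [10, 9, 11, 9, 4, 4, 7, 7, 7, 7, 4, 4, 6, 5, 6, 5, 5, 12, 10, 10, 9])))) (.node 580 (.node 578 (.node 577 (.leaf 276 3 [7, 4, 4, 6, 5, 6, 6, 6, 4, 7, 12, 9, 10, 9, 10, 10, 4, 7, 5]) (.leaf 316 12 [7, 8, 11, 9, 10, 9, 10, 10, 9, 5, 7, 7, 5, 6, 6, 6, 4, 6, 6, 4, 4])) (.node 579 (.leaf 133 12 [13, 8, 10, 8, 11, 8, 11, 8, 8, 4, 4, 7, 4, 6, 6, 6, 4, 4, 6, 5, 7]) (.leaf 212 13 [12, 11, 8, 11, 8, 11, 9, 5, 7, 4, 4, 7, 7, 4, 7, 4, 7, 4, 7, 7]))) (.node 582 (.node 581 (.leaf 286 3 [6, 6, 6, 6, 5, 5, 7, 4, 6, 5, 14, 10, 10, 8, 11, 8, 10, 4, 7, 5]) (.leaf 344 4 [6, 6, 4, 6, 5, 6, 6, 5, 5, 5, 8, 10, 10, 8, 11, 8, 7, 7, 4, 4])) (.node 583 (.leaf 360 14 [12, 14, 14, 8, 11, 8, 6, 5, 6, 5, 5, 7, 4, 4, 4, 7, 4, 7, 4, 4]) (.leaf 411 16 [9, 11, 8, 11, 8, 11, 5, 6, 5, 5, 7, 5, 6, 5, 6, 6, 6, 5, 5, 5, 9, 11]))))) (.node 592 (.node 588 (.node 586 (.node 585 (.leaf 3 3 [10, 12, 11, 8, 8]) (.leaf 31 14 [11, 4, 7, 7, 7, 7, 4, 6, 6, 6, 6, 12, 10, 8, 8])) (.node 587 (.leaf 121 10 [6, 5, 12, 14, 14, 8, 11, 8, 5, 7, 7, 4, 6, 6, 6, 4, 7, 4]) (.leaf 190 14 [10, 10, 9, 10, 10, 9, 4, 4, 7, 5, 5, 5, 6, 6, 5, 7, 7, 7, 4, 12]))) (.node 590 (.node 589 (.leaf 202 15 [13, 8, 10, 10, 8, 11, 8, 10, 9, 4, 4, 4, 6, 4, 6, 6, 5, 7, 5, 5, 5, 5, 13, 12]) (.leaf 22 8 [14, 9, 11, 9, 11, 8, 11, 8, 11, 7, 4, 7, 4, 6, 5, 6, 14])) (.node 591 (.leaf 140 6 [7, 4, 7, 5, 5, 6, 9, 11, 8, 8, 11, 9, 7, 4, 4, 7, 7, 4]) (.leaf 453 6 [5, 6, 5, 6, 4, 7, 4, 4, 13, 11, 8, 10, 8, 5, 5, 5, 6, 5, 6])))) (.node 596 (.node 594 (.node 593 (.leaf 192 14 [14, 10, 8, 8, 10, 10, 4, 4, 7, 7, 5, 7, 4, 4, 4, 6, 5, 7, 7, 12]) (.leaf 352 5 [6, 4, 7, 7, 7, 4, 4, 6, 5, 13, 9, 10, 8, 8, 11, 9, 10, 7, 7, 4, 7, 5])) (.node 595 (.leaf 107 12 [14, 8, 11, 9, 4, 6, 6, 4, 6, 4, 4, 6, 4, 4, 4, 4]) (.leaf 142 12 [12, 8, 10, 8, 10, 9, 11, 8, 5, 7, 4, 4, 4, 4, 6, 4, 7, 7, 4, 7]))) (.node 598 (.node 597 (.leaf 256 13 [12, 8, 11, 8, 10, 9, 10, 10, 8, 5, 7, 4, 7, 4, 6, 4, 6, 5, 6, 4, 4, 7]) (.leaf 357 11 [5, 5, 7, 8, 11, 8, 10, 8, 8, 4, 7, 7, 4, 6, 4, 4, 4, 7, 4, 7])) (.node 599 (.leaf 403 14 [12, 14, 8, 11, 9, 11, 8, 4, 4, 4, 6, 6, 5, 7, 4, 4, 4, 7, 4, 6, 5]) (.leaf 61 11 [13, 11, 8, 11, 8, 11, 9, 5, 5, 5, 7, 4, 4, 4, 7, 7, 4, 7])))))) (.node 616 (.node 608 (.node 604 (.node 602 (.node 601 (.leaf 213 5 [6, 4, 7, 4, 6, 4, 6, 4, 14, 8, 8, 11, 8, 11, 8, 10, 10, 5, 5, 5, 6, 5]) (.leaf 223 14 [14, 8, 11, 8, 11, 8, 11, 7, 7, 7, 4, 4, 7, 4, 6, 4, 6, 5, 5, 5, 12])) (.node 603 (.leaf 48 9 [4, 4, 13, 12, 10, 8, 8, 10, 9, 11, 8, 8, 10, 5, 7, 5, 6, 6, 6, 6, 4, 4]) (.leaf 113 9 [7, 4, 7, 12, 13, 10, 8, 8, 10, 9, 6, 4, 4, 4, 7, 4, 4, 7, 4]))) (.node 606 (.node 605 (.leaf 134 1 [6, 5, 7, 4, 4, 6, 6, 5, 5, 5, 7, 13, 12, 10, 8, 10, 9, 11, 6]) (.leaf 478 8 [7, 5, 7, 7, 7, 5, 12, 10, 8, 8, 10, 10, 9, 10, 9, 10, 6, 4, 4, 4, 7, 4, 6, 4])) (.node 607 (.leaf 26 9 [14, 8, 8, 10, 10, 9, 10, 9, 6, 4, 6, 6, 4, 6, 4, 7, 7]) (.leaf 39 3 [6, 5, 6, 4, 4, 4, 4, 7, 14, 12, 10, 8, 8, 10, 8, 7, 7, 4])))) (.node 612 (.node 610 (.node 609 (.leaf 58 11 [13, 12, 13, 10, 8, 8, 10, 8, 10, 9, 11, 8, 7, 7, 4, 6, 4, 6, 6, 6, 5, 6, 6]) (.leaf 114 8 [6, 4, 4, 4, 13, 10, 10, 9, 10, 8, 8, 4, 6, 6, 4, 4, 4, 6, 5])) (.node 611 (.leaf 141 3 [5, 7, 4, 4, 6, 6, 4, 6, 6, 9, 10, 8, 8, 10, 9, 5, 5, 7]) (.leaf 240 13 [13, 13, 8, 8, 11, 9, 4, 7, 4, 4, 7, 5, 6, 5, 7, 7, 5, 7, 7]))) (.node 614 (.node 613 (.leaf 247 13 [14, 14, 8, 10, 9, 6, 4, 6, 6, 5, 6, 4, 4, 6, 6, 4, 4, 7]) (.leaf 385 14 [12, 13, 13, 8, 10, 9, 10, 10, 8, 8, 4, 6, 6, 6, 5, 7, 5, 6, 6, 6, 6, 4, 6, 5])) (.node 615 (.leaf 62 10 [7, 14, 12, 10, 10, 5, 6, 5, 5, 7, 4, 6, 4, 6, 5]) (.leaf 24 8 [12, 13, 13, 8, 11, 8, 11, 6, 6, 6, 6, 5, 7, 7, 4]))))) (.node 624 (.node 620 (.node 618 (.node 617 (.leaf 28 6 [5, 6, 6, 4, 13, 12, 9, 10, 8, 8, 11, 8, 7, 4, 4, 7, 4, 7]) (.leaf 402 4 [5, 5, 6, 6, 4, 6, 5, 6, 5, 7, 12, 13, 12, 8, 8, 11, 6, 6, 6, 5])) (.node 619 (.leaf 52 12 [13, 9, 10, 10, 9, 10, 8, 5, 5, 5, 7, 5, 6, 5, 5, 7, 7, 4, 12]) (.leaf 125 13 [13, 12, 9, 10, 10, 9, 11, 8, 11, 5, 5, 6, 6, 6, 6, 4, 4, 7, 5, 7, 7, 12]))) (.node 622 (.node 621 (.leaf 181 4 [7, 7, 4, 7, 4, 4, 7, 7, 4, 13, 12, 9, 10, 10, 9, 11, 9, 10, 5, 7, 4, 7]) (.leaf 232 16 [8, 7, 4, 4, 6, 6, 4, 6, 4, 7, 5, 7, 7, 5, 13, 13, 10])) (.node 623 (.leaf 368 19 [11, 9, 5, 6, 5, 7, 4, 6, 5, 6, 5, 6, 6, 5, 7, 7, 13, 13, 10, 8, 8]) (.leaf 78 20 [11, 6, 5, 5, 6, 5, 6, 4, 4, 6, 6, 4, 7, 12, 14, 12, 9, 11, 8, 10, 9])))) (.node 628 (.node 626 (.node 625 (.leaf 24 4 [5, 7, 7, 4, 12, 13, 13, 8, 11, 8, 11, 6, 6, 6, 6]) (.leaf 150 20 [9, 5, 5, 7, 7, 5, 6, 4, 7, 4, 7, 7, 5, 12, 13, 13, 8, 8, 10, 9, 10])) (.node 627 (.leaf 158 8 [4, 4, 4, 4, 4, 13, 12, 13, 9, 11, 8, 10, 9, 5, 5, 7, 4, 7, 7, 4, 6]) (.leaf 318 8 [5, 7, 5, 7, 7, 12, 13, 12, 8, 11, 8, 11, 8, 11, 8, 7, 7, 5, 6, 5, 5, 6, 6]))) (.node 630 (.node 629 (.leaf 348 3 [7, 5, 5, 6, 6, 6, 4, 7, 7, 7, 4, 13, 13, 9, 11, 8, 10, 10, 8, 11, 5, 7, 5]) (.leaf 239 10 [5, 7, 7, 12, 14, 12, 8, 11, 8, 11, 8, 11, 6, 4, 7, 5, 6, 6, 6, 4, 6, 5])) (.node 631 (.leaf 209 4 [7, 5, 6, 5, 5, 7, 5, 7, 7, 13, 12, 8, 11, 9, 10, 10, 4, 4, 7, 4]) (.leaf 24 9 [13, 13, 8, 11, 8, 11, 6, 6, 6, 6, 5, 7, 7, 4, 12])))))))) (.node 695 (.node 663 (.node 647 (.node 639 (.node 635 (.node 633 (.leaf 2 0 [4, 4, 4, 7, 4, 7, 5, 6, 4, 11]) (.node 634 (.leaf 134 8 [5, 5, 5, 7, 13, 12, 10, 8, 10, 9, 11, 6, 6, 5, 7, 4, 4, 6, 6]) (.leaf 28 12 [9, 10, 8, 8, 11, 8, 7, 4, 4, 7, 4, 7, 5, 6, 6, 4, 13, 12]))) (.node 637 (.node 636 (.leaf 68 3 [4, 7, 4, 6, 5, 5, 6, 4, 14, 9, 10, 8, 8, 11, 8, 6, 4, 7]) (.leaf 49 7 [4, 7, 5, 6, 12, 13, 12, 13, 8, 11, 8, 8, 4, 7, 7, 4, 4, 6, 4])) (.node 638 (.leaf 306 10 [7, 7, 5, 13, 12, 8, 10, 9, 10, 9, 10, 9, 4, 6, 6, 6, 4, 4, 6, 4, 4, 4]) (.leaf 21 5 [12, 14, 12, 10, 8, 11, 8, 10, 5, 6, 4, 7, 5])))) (.node 643 (.node 641 (.node 640 (.leaf 162 9 [4, 4, 7, 7, 12, 14, 10, 8, 11, 8, 11, 9, 11, 4, 4, 4, 6, 5, 5, 6, 5, 7]) (.leaf 282 20 [11, 9, 5, 5, 5, 5, 5, 6, 6, 6, 5, 5, 6, 4, 4, 12, 14, 10, 8, 8, 10, 9])) (.node 642 (.leaf 367 20 [10, 6, 5, 5, 7, 5, 7, 4, 6, 5, 6, 5, 5, 5, 7, 12, 10, 10, 9, 10, 9]) (.leaf 51 6 [6, 5, 5, 6, 5, 12, 14, 8, 10, 8, 11, 9, 11, 6, 5, 7, 7, 4, 6]))) (.node 645 (.node 644 (.leaf 198 22 [10, 5, 5, 7, 7, 4, 4, 6, 6, 4, 6, 5, 5, 5, 12, 14, 9, 10, 9, 11, 9, 10, 8]) (.leaf 273 8 [7, 5, 5, 6, 5, 12, 14, 8, 10, 8, 11, 9, 11, 7, 7, 7, 5, 6, 6, 4, 7])) (.node 646 (.leaf 362 14 [12, 13, 13, 10, 8, 10, 10, 9, 10, 8, 5, 7, 5, 6, 4, 7, 4, 7, 5, 5, 7, 5, 6, 4]) (.leaf 467 3 [5, 5, 7, 4, 4, 6, 6, 5, 5, 6, 4, 12, 13, 12, 8, 10, 10, 9, 10, 10, 8, 4, 4, 7]))))) (.node 655 (.node 651 (.node 649 (.node 648 (.leaf 301 14 [8, 11, 6, 5, 6, 6, 4, 4, 4, 7, 7, 5, 5, 6, 4, 11]) (.leaf 197 16 [10, 5, 5, 7, 7, 4, 4, 4, 4, 6, 4, 4, 7, 7, 14, 10, 8])) (.node 650 (.leaf 121 12 [12, 14, 14, 8, 11, 8, 5, 7, 7, 4, 6, 6, 6, 4, 7, 4, 6, 5]) (.leaf 284 17 [8, 11, 8, 8, 11, 6, 6, 4, 6, 6, 4, 6, 4, 6, 4, 6, 6, 6, 14, 14, 9, 10]))) (.node 653 (.node 652 (.leaf 361 11 [5, 6, 4, 13, 12, 8, 10, 8, 11, 9, 11, 8, 7, 7, 7, 4, 7, 4, 4, 4, 4, 7, 5]) (.leaf 219 8 [6, 4, 7, 7, 7, 14, 8, 10, 9, 10, 10, 8, 4, 7, 7, 7, 7, 5, 6, 6])) (.node 654 (.leaf 234 7 [5, 6, 4, 7, 7, 7, 14, 8, 10, 9, 10, 10, 8, 7, 7, 4, 6, 6, 6, 6]) (.leaf 100 10 [6, 5, 12, 8, 11, 8, 4, 7, 7, 4, 4, 4, 6, 5, 5, 6])))) (.node 659 (.node 657 (.node 656 (.leaf 175 8 [4, 4, 6, 6, 5, 12, 13, 10, 9, 11, 8, 10, 8, 8, 6, 6, 4, 7, 4, 6, 6, 6]) (.leaf 311 10 [5, 5, 7, 12, 13, 13, 8, 11, 5, 5, 6, 4, 6, 4, 4, 7, 7, 5])) (.node 658 (.leaf 323 4 [4, 6, 4, 6, 5, 6, 4, 6, 4, 13, 13, 8, 11, 8, 11, 8, 11, 5, 7, 4, 4]) (.leaf 434 3 [7, 5, 6, 5, 6, 6, 5, 5, 6, 4, 7, 13, 13, 9, 11, 8, 10, 9, 10, 5, 7, 4]))) (.node 661 (.node 660 (.leaf 197 4 [4, 4, 4, 4, 6, 4, 4, 7, 7, 14, 10, 8, 10, 5, 5, 7, 7]) (.leaf 282 13 [12, 14, 10, 8, 8, 10, 9, 11, 9, 5, 5, 5, 5, 5, 6, 6, 6, 5, 5, 6, 4, 4])) (.node 662 (.leaf 297 20 [10, 6, 6, 4, 7, 5, 6, 6, 4, 7, 5, 5, 5, 7, 14, 10, 8, 11, 8, 10, 9]) (.leaf 45 19 [10, 6, 4, 7, 7, 7, 4, 7, 7, 5, 6, 5, 12, 14, 12, 10, 9, 10, 8, 10])))))) (.node 679 (.node 671 (.node 667 (.node 665 (.node 664 (.leaf 74 15 [10, 9, 11, 8, 10, 10, 9, 6, 4, 4, 7, 7, 4, 4, 4, 6, 6, 6, 5, 12, 14, 14]) (.leaf 88 17 [8, 10, 10, 9, 7, 7, 7, 4, 6, 6, 4, 4, 4, 6, 5, 5, 14, 12, 8, 8, 11])) (.node 666 (.leaf 462 9 [5, 5, 7, 7, 5, 12, 14, 14, 10, 9, 11, 8, 10, 5, 6, 6, 4, 6, 5, 6, 5, 6]) (.leaf 24 0 [6, 6, 6, 6, 5, 7, 7, 4, 12, 13, 13, 8, 11, 8, 11]))) (.node 669 (.node 668 (.leaf 35 13 [13, 11, 8, 11, 8, 11, 9, 4, 7, 5, 6, 5, 6, 5, 6, 6, 5, 12, 13, 12]) (.leaf 49 0 [4, 7, 7, 4, 4, 6, 4, 4, 7, 5, 6, 12, 13, 12, 13, 8, 11, 8, 8])) (.node 670 (.leaf 278 7 [4, 7, 4, 4, 7, 7, 12, 13, 12, 13, 8, 10, 9, 11, 9, 10, 8, 10, 4, 4, 6, 4, 4, 4, 4]) (.leaf 290 11 [5, 6, 13, 9, 11, 9, 10, 8, 10, 6, 5, 6, 6, 5, 6, 6, 6, 6, 5, 5])))) (.node 675 (.node 673 (.node 672 (.leaf 311 11 [5, 7, 12, 13, 13, 8, 11, 5, 5, 6, 4, 6, 4, 4, 7, 7, 5, 5]) (.leaf 399 3 [6, 6, 4, 4, 4, 6, 5, 5, 5, 5, 5, 12, 14, 12, 10, 9, 10, 9, 10, 10, 8, 11, 4, 4, 6])) (.node 674 (.leaf 49 14 [13, 8, 11, 8, 8, 4, 7, 7, 4, 4, 6, 4, 4, 7, 5, 6, 12, 13, 12]) (.leaf 113 7 [7, 4, 7, 4, 7, 12, 13, 10, 8, 8, 10, 9, 6, 4, 4, 4, 7, 4, 4]))) (.node 677 (.node 676 (.leaf 227 4 [6, 4, 4, 7, 5, 5, 5, 6, 4, 12, 14, 12, 8, 8, 10, 10, 6, 4, 7, 5]) (.leaf 239 7 [4, 6, 5, 5, 7, 7, 12, 14, 12, 8, 11, 8, 11, 8, 11, 6, 4, 7, 5, 6, 6, 6])) (.node 678 (.leaf 254 5 [7, 4, 4, 6, 5, 5, 5, 6, 13, 12, 13, 8, 8, 10, 9, 11, 8, 6, 6, 4, 6, 4]) (.leaf 262 4 [4, 6, 6, 5, 7, 4, 6, 6, 5, 12, 13, 10, 8, 10, 9, 11, 9, 10, 7, 4, 4, 6]))))) (.node 687 (.node 683 (.node 681 (.node 680 (.leaf 294 7 [4, 6, 4, 4, 4, 7, 12, 14, 14, 9, 10, 9, 11, 9, 10, 8, 7, 4, 4, 6, 5, 5, 6]) (.leaf 332 10 [7, 7, 5, 5, 12, 13, 12, 8, 8, 10, 9, 11, 8, 8, 10, 4, 7, 5, 6, 6, 5, 6, 6, 6, 5])) (.node 682 (.leaf 394 7 [4, 6, 4, 6, 6, 5, 5, 12, 14, 12, 8, 11, 9, 10, 8, 8, 11, 6, 6, 4, 6, 4, 6, 6]) (.leaf 468 7 [7, 7, 5, 7, 5, 5, 7, 14, 14, 9, 10, 10, 6, 6, 6, 4, 6, 4, 4]))) (.node 685 (.node 684 (.leaf 64 13 [8, 10, 9, 10, 9, 10, 9, 6, 4, 4, 6, 4, 4, 4, 7, 4, 7, 4, 14, 12]) (.leaf 301 7 [7, 7, 5, 5, 6, 4, 11, 8, 11, 6, 5, 6, 6, 4, 4, 4])) (.node 686 (.leaf 400 14 [12, 9, 10, 8, 11, 8, 10, 9, 5, 7, 5, 7, 5, 7, 4, 4, 7, 4, 6, 5, 7, 7]) (.leaf 6 11 [5, 5, 5, 5, 5, 5, 5, 5, 5, 5, 5, 5, 5])))) (.node 691 (.node 689 (.node 688 (.leaf 207 3 [5, 7, 5, 6, 5, 7, 5, 6, 6, 5, 14, 12, 8, 10, 9, 11, 8, 11, 6, 5, 5]) (.leaf 383 9 [4, 6, 5, 6, 6, 14, 12, 8, 10, 9, 11, 9, 11, 6, 6, 6, 5, 5, 6, 4, 4, 6])) (.node 690 (.leaf 166 4 [5, 5, 6, 6, 6, 5, 7, 7, 5, 13, 13, 10, 8, 8, 10, 9, 5, 5, 7, 5]) (.leaf 240 1 [7, 4, 4, 7, 5, 6, 5, 7, 7, 5, 7, 7, 13, 13, 8, 8, 11, 9, 4]))) (.node 693 (.node 692 (.leaf 342 4 [5, 6, 6, 6, 5, 6, 5, 5, 6, 6, 12, 13, 13, 8, 8, 11, 8, 10, 10, 5, 5, 6, 5]) (.leaf 43 16 [10, 7, 7, 5, 6, 6, 6, 5, 7, 4, 4, 4, 13, 12, 13, 11, 8])) (.node 694 (.leaf 71 16 [9, 10, 9, 11, 8, 4, 4, 6, 5, 7, 7, 4, 4, 7, 7, 5, 7, 12, 14, 8, 11]) (.leaf 97 8 [6, 4, 7, 4, 12, 8, 10, 10, 8, 8, 10, 10, 6, 6, 6, 5, 6, 6, 6, 5]))))))) (.node 727 (.node 711 (.node 703 (.node 699 (.node 697 (.node 696 (.leaf 140 1 [4, 4, 7, 7, 4, 7, 4, 7, 5, 5, 6, 9, 11, 8, 8, 11, 9, 7]) (.leaf 187 8 [7, 5, 6, 4, 4, 10, 8, 8, 10, 10, 9, 11, 8, 6, 4, 7, 4, 6, 4, 6, 5])) (.node 698 (.leaf 191 9 [4, 4, 6, 4, 12, 13, 10, 8, 8, 10, 8, 10, 9, 11, 6, 5, 5, 7, 4, 6, 4, 4, 7]) (.leaf 195 20 [8, 8, 7, 7, 5, 7, 7, 4, 6, 6, 5, 6, 4, 4, 7, 14, 12, 9, 11, 8, 10, 10]))) (.node 701 (.node 700 (.leaf 233 9 [5, 6, 4, 7, 8, 8, 10, 10, 9, 10, 10, 6, 6, 4, 4, 4, 4, 4, 7, 7]) (.leaf 260 14 [13, 9, 11, 8, 10, 9, 10, 10, 8, 8, 7, 4, 4, 7, 7, 5, 6, 5, 5, 5, 5, 7, 7, 13])) (.node 702 (.leaf 327 13 [12, 8, 10, 8, 10, 10, 4, 7, 5, 5, 5, 7, 4, 6, 5, 6, 5, 6, 5]) (.leaf 346 1 [4, 6, 6, 4, 4, 6, 6, 5, 7, 5, 7, 7, 4, 12, 8, 10, 8, 10, 10, 8, 4])))) (.node 707 (.node 705 (.node 704 (.leaf 385 16 [13, 8, 10, 9, 10, 10, 8, 8, 4, 6, 6, 6, 5, 7, 5, 6, 6, 6, 6, 4, 6, 5, 12, 13]) (.leaf 397 15 [13, 13, 8, 8, 10, 8, 10, 9, 10, 4, 4, 6, 5, 6, 4, 4, 6, 4, 6, 6, 4, 7, 7, 12])) (.node 706 (.leaf 425 7 [6, 6, 5, 5, 7, 7, 5, 8, 11, 9, 10, 8, 8, 4, 7, 4, 6, 6, 6, 4]) (.leaf 456 9 [7, 7, 4, 4, 4, 12, 13, 13, 10, 9, 10, 8, 8, 10, 8, 4, 7, 5, 7, 4, 6, 4, 4, 4]))) (.node 709 (.node 708 (.leaf 33 15 [8, 11, 9, 11, 8, 5, 6, 5, 7, 4, 4, 4, 6, 6, 4, 13, 12, 8, 11, 8]) (.leaf 36 1 [6, 5, 5, 6, 4, 4, 4, 7, 7, 13, 12, 9, 11, 9, 10, 8, 10, 5])) (.node 710 (.leaf 71 13 [14, 8, 11, 9, 10, 9, 11, 8, 4, 4, 6, 5, 7, 7, 4, 4, 7, 7, 5, 7, 12]) (.leaf 130 1 [4, 7, 5, 7, 4, 6, 5, 5, 6, 5, 7, 13, 9, 10, 10, 8, 10, 9, 10, 9, 4]))))) (.node 719 (.node 715 (.node 713 (.node 712 (.leaf 200 2 [6, 6, 4, 7, 4, 6, 4, 7, 5, 6, 6, 12, 9, 11, 8, 10, 10, 5, 5]) (.leaf 226 12 [6, 14, 14, 8, 11, 9, 11, 8, 10, 10, 5, 6, 6, 5, 5, 6, 6, 5, 5, 7, 5, 5])) (.node 714 (.leaf 243 21 [11, 5, 6, 6, 6, 4, 6, 6, 5, 6, 4, 6, 5, 7, 12, 14, 8, 11, 9, 10, 8, 8]) (.leaf 255 21 [11, 7, 4, 4, 6, 4, 4, 6, 6, 4, 7, 7, 5, 5, 14, 12, 9, 10, 8, 8, 11, 8]))) (.node 717 (.node 716 (.leaf 294 11 [4, 7, 12, 14, 14, 9, 10, 9, 11, 9, 10, 8, 7, 4, 4, 6, 5, 5, 6, 4, 6, 4, 4]) (.leaf 395 4 [4, 7, 4, 4, 4, 4, 4, 7, 4, 7, 13, 12, 8, 11, 9, 11, 8, 10, 8, 11, 6, 6, 4, 4])) (.node 718 (.leaf 403 3 [6, 6, 5, 7, 4, 4, 4, 7, 4, 6, 5, 12, 14, 8, 11, 9, 11, 8, 4, 4, 4]) (.leaf 440 8 [6, 4, 6, 4, 7, 4, 12, 14, 9, 10, 9, 11, 5, 5, 5, 7, 5, 5, 7, 4])))) (.node 723 (.node 721 (.node 720 (.leaf 22 2 [7, 4, 6, 5, 6, 14, 14, 9, 11, 9, 11, 8, 11, 8, 11, 7, 4]) (.leaf 50 19 [11, 5, 6, 6, 5, 7, 4, 7, 7, 4, 7, 4, 12, 8, 11, 9, 10, 8, 11, 9])) (.node 722 (.leaf 125 5 [6, 4, 4, 7, 5, 7, 7, 12, 13, 12, 9, 10, 10, 9, 11, 8, 11, 5, 5, 6, 6, 6]) (.leaf 169 9 [4, 7, 5, 6, 12, 14, 12, 9, 10, 10, 9, 11, 8, 11, 6, 4, 6, 4, 6, 4, 4, 7, 7]))) (.node 725 (.node 724 (.leaf 238 1 [4, 6, 4, 4, 6, 6, 6, 6, 6, 4, 7, 4, 13, 8, 10, 9, 11, 9, 10, 7]) (.leaf 275 0 [6, 5, 7, 7, 5, 6, 6, 6, 6, 4, 4, 4, 7, 12, 13, 8, 11, 9, 10, 8, 11, 8])) (.node 726 (.leaf 279 2 [6, 4, 4, 4, 6, 4, 6, 5, 7, 5, 7, 8, 8, 10, 9, 11, 9, 10, 4, 4]) (.leaf 290 2 [6, 6, 5, 6, 6, 6, 6, 5, 5, 5, 6, 13, 9, 11, 9, 10, 8, 10, 6, 5])))))) (.node 743 (.node 735 (.node 731 (.node 729 (.node 728 (.leaf 410 5 [4, 6, 4, 4, 7, 5, 7, 7, 4, 12, 13, 12, 13, 9, 11, 9, 10, 9, 10, 6, 5, 6, 4, 6]) (.leaf 446 8 [7, 5, 5, 6, 5, 5, 12, 13, 9, 11, 9, 11, 8, 11, 8, 4, 7, 5, 7, 7, 4, 6, 4])) (.node 730 (.leaf 21 3 [7, 5, 12, 14, 12, 10, 8, 11, 8, 10, 5, 6, 4]) (.leaf 45 6 [7, 7, 5, 6, 5, 12, 14, 12, 10, 9, 10, 8, 10, 10, 6, 4, 7, 7, 7, 4]))) (.node 733 (.node 732 (.leaf 104 6 [6, 4, 7, 5, 5, 5, 12, 13, 12, 10, 8, 10, 9, 11, 8, 10, 8, 5, 5, 7, 7, 4, 6]) (.leaf 116 7 [4, 7, 5, 5, 6, 13, 13, 9, 10, 10, 9, 10, 8, 10, 5, 7, 4, 7, 7, 4, 6])) (.node 734 (.leaf 147 12 [13, 9, 11, 8, 10, 9, 10, 10, 8, 8, 5, 5, 5, 6, 6, 6, 4, 6, 5, 7, 5, 5]) (.leaf 165 7 [5, 5, 5, 7, 5, 6, 13, 12, 13, 10, 8, 11, 9, 5, 5, 7, 7, 7, 4, 6])))) (.node 739 (.node 737 (.node 736 (.leaf 214 14 [14, 14, 8, 11, 9, 11, 8, 10, 8, 5, 7, 7, 7, 4, 6, 4, 4, 4, 7, 4, 4, 4, 12]) (.leaf 241 5 [6, 4, 4, 7, 5, 6, 6, 5, 12, 10, 10, 8, 11, 9, 5, 7, 5, 5, 5])) (.node 738 (.leaf 256 0 [5, 7, 4, 7, 4, 6, 4, 6, 5, 6, 4, 4, 7, 12, 8, 11, 8, 10, 9, 10, 10, 8]) (.leaf 263 9 [4, 7, 4, 4, 14, 12, 8, 10, 8, 10, 10, 9, 10, 8, 10, 4, 7, 5, 5, 6, 5, 6, 6, 6]))) (.node 741 (.node 740 (.leaf 264 10 [4, 6, 5, 12, 13, 13, 9, 10, 8, 11, 8, 10, 10, 9, 6, 4, 6, 5, 6, 5, 6, 4, 6, 4]) (.leaf 269 9 [7, 5, 6, 5, 14, 9, 10, 8, 10, 10, 8, 10, 4, 4, 7, 4, 4, 4, 4, 4, 4])) (.node 742 (.leaf 284 14 [14, 9, 10, 8, 11, 8, 8, 11, 6, 6, 4, 6, 6, 4, 6, 4, 6, 4, 6, 6, 6, 14]) (.leaf 324 12 [7, 13, 12, 13, 10, 8, 10, 5, 7, 4, 4, 6, 6, 6, 6, 4, 4, 7, 7]))))) (.node 751 (.node 747 (.node 745 (.node 744 (.leaf 426 6 [7, 4, 4, 6, 5, 5, 6, 6, 14, 12, 8, 11, 8, 10, 8, 8, 11, 5, 5, 6, 6, 4, 4]) (.leaf 453 5 [6, 5, 6, 5, 6, 4, 7, 4, 4, 13, 11, 8, 10, 8, 5, 5, 5, 6, 5])) (.node 746 (.leaf 452 10 [6, 4, 6, 6, 13, 8, 10, 8, 11, 8, 4, 7, 5, 5, 7, 5, 5, 6, 5, 6]) (.leaf 47 3 [7, 7, 4, 6, 4, 4, 6, 4, 14, 8, 11, 9, 10, 9, 10, 10, 9, 5, 7, 5]))) (.node 749 (.node 748 (.leaf 69 3 [6, 4, 4, 7, 4, 4, 4, 4, 14, 10, 9, 10, 9, 11, 9, 10, 8, 6, 5, 5]) (.leaf 315 14 [8, 10, 9, 11, 8, 8, 7, 7, 7, 4, 6, 4, 6, 6, 4, 6, 4, 6, 5, 8])) (.node 750 (.leaf 448 11 [4, 7, 4, 12, 14, 8, 10, 9, 10, 9, 10, 8, 8, 6, 6, 4, 7, 5, 5, 6, 5, 7, 4, 4]) (.leaf 3 0 [11, 8, 8, 10, 12])))) (.node 755 (.node 753 (.node 752 (.leaf 34 6 [6, 6, 5, 7, 13, 8, 8, 10, 8, 7, 7, 5, 6, 4, 4]) (.leaf 96 11 [7, 14, 8, 10, 10, 8, 11, 4, 7, 5, 5, 7, 7, 4, 6, 6, 5, 5])) (.node 754 (.leaf 199 7 [4, 7, 4, 6, 4, 7, 14, 14, 8, 11, 8, 10, 9, 11, 8, 6, 6, 5, 6, 5, 5, 6]) (.leaf 318 4 [5, 5, 6, 6, 5, 7, 5, 7, 7, 12, 13, 12, 8, 11, 8, 11, 8, 11, 8, 7, 7, 5, 6]))) (.node 757 (.node 756 (.leaf 382 16 [9, 10, 8, 8, 10, 5, 5, 6, 4, 6, 6, 4, 4, 7, 4, 7, 4, 4, 4, 13, 12]) (.leaf 402 9 [6, 5, 6, 5, 7, 12, 13, 12, 8, 8, 11, 6, 6, 6, 5, 5, 5, 6, 6, 4])) (.node 758 (.leaf 453 9 [6, 4, 7, 4, 4, 13, 11, 8, 10, 8, 5, 5, 5, 6, 5, 6, 5, 6, 5]) (.leaf 466 11 [5, 5, 7, 12, 13, 12, 13, 8, 10, 8, 11, 8, 11, 8, 5, 7, 4, 4, 6, 5, 7, 4, 4, 7, 5]))))))))) (.node 886 (.node 822 (.node 790 (.node 774 (.node 766 (.node 762 (.node 760 (.leaf 13 19 [4, 6, 4, 4, 6, 4, 4, 6, 4, 4, 6, 4, 4, 6, 4, 4, 6, 4, 4, 6, 4, 4, 6, 4]) (.node 761 (.leaf 293 5 [7, 4, 7, 7, 5, 7, 5, 6, 12, 13, 12, 11, 8, 10, 9, 10, 5, 7, 4, 4, 4]) (.leaf 339 6 [4, 6, 6, 4, 7, 4, 4, 7, 12, 13, 13, 11, 8, 10, 9, 10, 5, 5, 5, 5, 5, 6]))) (.node 764 (.node 763 (.leaf 332 3 [6, 6, 5, 6, 6, 6, 5, 7, 7, 5, 5, 12, 13, 12, 8, 8, 10, 9, 11, 8, 8, 10, 4, 7, 5]) (.leaf 391 14 [13, 8, 10, 9, 11, 8, 11, 9, 10, 9, 5, 7, 5, 7, 4, 7, 4, 7, 5, 7, 5, 7, 7, 4])) (.node 765 (.leaf 12 9 [7, 5, 7, 5, 7, 5, 7, 5, 7, 5, 7, 5, 7, 5, 7, 5]) (.leaf 255 9 [7, 7, 5, 5, 14, 12, 9, 10, 8, 8, 11, 8, 11, 7, 4, 4, 6, 4, 4, 6, 6, 4])))) (.node 770 (.node 768 (.node 767 (.leaf 425 10 [5, 7, 7, 5, 8, 11, 9, 10, 8, 8, 4, 7, 4, 6, 6, 6, 4, 6, 6, 5]) (.leaf 12 0 [5, 7, 5, 7, 5, 7, 5, 7, 5, 7, 5, 7, 5, 7, 5, 7])) (.node 769 (.leaf 223 15 [8, 11, 8, 11, 8, 11, 7, 7, 7, 4, 4, 7, 4, 6, 4, 6, 5, 5, 5, 12, 14]) (.leaf 55 19 [10, 5, 7, 7, 4, 6, 4, 7, 7, 7, 7, 4, 12, 13, 12, 9, 10, 10, 9, 10]))) (.node 772 (.node 771 (.leaf 386 3 [7, 4, 7, 4, 4, 4, 7, 5, 5, 6, 5, 12, 13, 10, 9, 11, 8, 6, 4, 4]) (.leaf 394 3 [6, 4, 6, 6, 4, 6, 4, 6, 6, 5, 5, 12, 14, 12, 8, 11, 9, 10, 8, 8, 11, 6, 6, 4])) (.node 773 (.leaf 456 23 [8, 4, 7, 5, 7, 4, 6, 4, 4, 4, 7, 7, 4, 4, 4, 12, 13, 13, 10, 9, 10, 8, 8, 10]) (.leaf 477 17 [11, 8, 4, 6, 6, 6, 4, 4, 4, 6, 5, 6, 6, 4, 4, 7, 12, 13, 13]))))) (.node 782 (.node 778 (.node 776 (.node 775 (.leaf 377 9 [5, 7, 5, 6, 6, 13, 12, 8, 10, 9, 11, 9, 10, 8, 10, 4, 7, 7, 5, 6, 5, 5, 6, 5]) (.leaf 311 15 [13, 8, 11, 5, 5, 6, 4, 6, 4, 4, 7, 7, 5, 5, 5, 7, 12, 13])) (.node 777 (.leaf 185 15 [8, 10, 9, 10, 10, 4, 7, 7, 7, 4, 4, 6, 4, 4, 7, 7, 7, 4, 12, 8]) (.leaf 36 8 [7, 7, 13, 12, 9, 11, 9, 10, 8, 10, 5, 6, 5, 5, 6, 4, 4, 4]))) (.node 780 (.node 779 (.leaf 130 2 [7, 5, 7, 4, 6, 5, 5, 6, 5, 7, 13, 9, 10, 10, 8, 10, 9, 10, 9, 4, 4]) (.leaf 156 2 [5, 5, 7, 5, 6, 6, 6, 5, 7, 5, 7, 12, 14, 14, 9, 10, 9, 11, 8, 11, 8, 10, 6, 6])) (.node 781 (.leaf 204 5 [7, 4, 6, 5, 6, 6, 4, 7, 14, 10, 8, 8, 10, 9, 11, 9, 5, 6, 5, 7, 7]) (.leaf 279 3 [4, 4, 4, 6, 4, 6, 5, 7, 5, 7, 8, 8, 10, 9, 11, 9, 10, 4, 4, 6])))) (.node 786 (.node 784 (.node 783 (.leaf 377 2 [7, 5, 6, 5, 5, 6, 5, 5, 7, 5, 6, 6, 13, 12, 8, 10, 9, 11, 9, 10, 8, 10, 4, 7]) (.leaf 382 10 [7, 4, 4, 4, 13, 12, 9, 10, 8, 8, 10, 5, 5, 6, 4, 6, 6, 4, 4, 7, 4])) (.node 785 (.leaf 54 6 [6, 5, 7, 7, 5, 13, 13, 9, 10, 8, 8, 5, 7, 5, 6, 4, 4]) (.leaf 74 21 [9, 6, 4, 4, 7, 7, 4, 4, 4, 6, 6, 6, 5, 12, 14, 14, 10, 9, 11, 8, 10, 10]))) (.node 788 (.node 787 (.leaf 95 12 [14, 12, 10, 9, 10, 10, 8, 8, 5, 6, 6, 6, 6, 4, 4, 6, 4, 7, 5, 5]) (.leaf 142 4 [4, 4, 6, 4, 7, 7, 4, 7, 12, 8, 10, 8, 10, 9, 11, 8, 5, 7, 4, 4])) (.node 789 (.leaf 155 13 [14, 12, 10, 8, 8, 10, 8, 8, 7, 7, 7, 7, 4, 7, 4, 4, 7, 4, 6, 4, 4]) (.leaf 161 8 [4, 7, 7, 5, 7, 12, 14, 10, 8, 8, 10, 10, 9, 6, 4, 6, 4, 6, 6, 4, 6])))))) (.node 806 (.node 798 (.node 794 (.node 792 (.node 791 (.leaf 184 11 [7, 7, 12, 8, 10, 8, 8, 10, 8, 11, 7, 4, 6, 4, 7, 4, 4, 4, 6, 4, 7]) (.leaf 271 5 [6, 6, 6, 5, 7, 4, 7, 7, 12, 14, 12, 8, 10, 8, 8, 10, 8, 10, 6, 5, 7, 4, 4])) (.node 793 (.leaf 302 3 [6, 4, 4, 6, 5, 7, 5, 5, 7, 7, 13, 12, 8, 8, 10, 10, 9, 11, 8, 10, 6, 5, 6]) (.leaf 315 1 [7, 7, 4, 6, 4, 6, 6, 4, 6, 4, 6, 5, 8, 8, 10, 9, 11, 8, 8, 7]))) (.node 796 (.node 795 (.leaf 404 24 [10, 4, 7, 7, 7, 4, 6, 4, 6, 5, 7, 4, 4, 6, 6, 12, 13, 12, 13, 8, 11, 8, 10, 10, 9]) (.leaf 412 10 [4, 7, 4, 4, 14, 12, 8, 10, 8, 8, 10, 8, 10, 4, 7, 5, 7, 7, 7, 4, 6, 4, 4])) (.node 797 (.leaf 453 8 [5, 6, 4, 7, 4, 4, 13, 11, 8, 10, 8, 5, 5, 5, 6, 5, 6, 5, 6]) (.leaf 462 4 [6, 5, 6, 5, 6, 5, 5, 7, 7, 5, 12, 14, 14, 10, 9, 11, 8, 10, 5, 6, 6, 4])))) (.node 802 (.node 800 (.node 799 (.leaf 476 12 [6, 5, 13, 12, 13, 8, 11, 9, 11, 8, 10, 8, 6, 6, 6, 5, 7, 5, 6, 5, 6, 5, 5, 5]) (.leaf 486 3 [4, 6, 4, 4, 6, 5, 5, 7, 7, 5, 5, 12, 13, 12, 10, 10, 8, 8, 10, 10, 9, 10, 10, 7, 4, 4])) (.node 801 (.leaf 402 16 [12, 8, 8, 11, 6, 6, 6, 5, 5, 5, 6, 6, 4, 6, 5, 6, 5, 7, 12, 13]) (.leaf 178 10 [7, 5, 6, 12, 14, 8, 10, 9, 10, 9, 10, 8, 10, 5, 5, 6, 4, 4, 7, 4, 4, 4, 7]))) (.node 804 (.node 803 (.leaf 136 13 [10, 10, 9, 10, 9, 10, 9, 5, 7, 7, 4, 7, 4, 4, 7, 5, 6, 4, 7, 12]) (.leaf 49 3 [4, 4, 6, 4, 4, 7, 5, 6, 12, 13, 12, 13, 8, 11, 8, 8, 4, 7, 7])) (.node 805 (.leaf 63 7 [6, 6, 4, 4, 13, 12, 13, 10, 10, 8, 11, 9, 10, 9, 11, 7, 7, 4, 4, 4, 6, 5]) (.leaf 75 2 [6, 6, 4, 7, 4, 6, 4, 7, 5, 6, 12, 14, 14, 10, 10, 8, 8, 10, 5, 6]))))) (.node 814 (.node 810 (.node 808 (.node 807 (.leaf 109 7 [7, 4, 6, 6, 6, 12, 14, 12, 11, 8, 11, 8, 10, 9, 6, 5, 7, 7, 7, 4, 4]) (.leaf 169 14 [14, 12, 9, 10, 10, 9, 11, 8, 11, 6, 4, 6, 4, 6, 4, 4, 7, 7, 4, 7, 5, 6, 12])) (.node 809 (.leaf 243 9 [4, 6, 5, 7, 12, 14, 8, 11, 9, 10, 8, 8, 11, 5, 6, 6, 6, 4, 6, 6, 5, 6]) (.leaf 268 8 [4, 4, 7, 7, 5, 12, 14, 14, 8, 10, 9, 10, 9, 10, 7, 4, 4, 4, 4, 6, 4, 7]))) (.node 812 (.node 811 (.leaf 274 1 [6, 5, 7, 7, 5, 6, 5, 7, 4, 7, 4, 4, 12, 13, 12, 13, 8, 11, 8, 10, 8, 8, 10, 10, 5]) (.leaf 292 4 [7, 4, 6, 4, 4, 4, 7, 5, 6, 12, 13, 12, 13, 10, 10, 9, 10, 10, 8, 6, 5, 7, 4])) (.node 813 (.leaf 377 10 [7, 5, 6, 6, 13, 12, 8, 10, 9, 11, 9, 10, 8, 10, 4, 7, 7, 5, 6, 5, 5, 6, 5, 5]) (.leaf 388 7 [4, 7, 7, 4, 4, 4, 4, 12, 13, 12, 13, 8, 8, 10, 10, 9, 10, 6, 6, 4, 4, 6, 4, 4])))) (.node 818 (.node 816 (.node 815 (.leaf 428 12 [5, 7, 13, 12, 13, 8, 10, 8, 10, 9, 11, 8, 4, 7, 7, 7, 4, 4, 4, 6, 5, 7, 4, 6]) (.leaf 464 10 [7, 4, 6, 6, 12, 13, 13, 8, 8, 11, 9, 6, 4, 7, 4, 6, 5, 6, 6, 5, 7])) (.node 817 (.leaf 482 4 [4, 7, 7, 4, 6, 5, 6, 6, 6, 5, 12, 13, 12, 11, 8, 11, 8, 11, 4, 7, 4, 6]) (.leaf 494 9 [6, 5, 7, 7, 5, 12, 14, 12, 11, 8, 11, 8, 10, 9, 10, 10, 6, 4, 7, 4, 4, 6, 6, 5, 6]))) (.node 820 (.node 819 (.leaf 128 4 [6, 6, 6, 6, 4, 6, 6, 5, 12, 10, 8, 8, 11, 6, 6, 4, 4]) (.leaf 256 7 [6, 5, 6, 4, 4, 7, 12, 8, 11, 8, 10, 9, 10, 10, 8, 5, 7, 4, 7, 4, 6, 4])) (.node 821 (.leaf 266 7 [5, 6, 6, 4, 7, 7, 12, 13, 12, 13, 8, 11, 8, 8, 11, 9, 11, 5, 5, 7, 4, 6, 5, 6]) (.leaf 278 1 [4, 6, 4, 4, 4, 4, 4, 7, 4, 4, 7, 7, 12, 13, 12, 13, 8, 10, 9, 11, 9, 10, 8, 10, 4]))))))) (.node 854 (.node 838 (.node 830 (.node 826 (.node 824 (.node 823 (.leaf 310 1 [7, 4, 4, 7, 4, 4, 7, 7, 5, 5, 6, 6, 12, 14, 12, 10, 10, 8, 11, 9, 10, 8, 8, 7]) (.leaf 403 11 [4, 6, 5, 12, 14, 8, 11, 9, 11, 8, 4, 4, 4, 6, 6, 5, 7, 4, 4, 4, 7])) (.node 825 (.leaf 85 7 [6, 6, 5, 6, 4, 12, 14, 9, 10, 10, 9, 10, 8, 6, 5, 6, 4, 4, 6, 4]) (.leaf 300 3 [4, 7, 5, 6, 4, 4, 4, 6, 6, 6, 13, 12, 10, 10, 8, 11, 8, 10, 9, 10, 6, 4, 4]))) (.node 828 (.node 827 (.leaf 70 6 [6, 4, 7, 5, 6, 14, 12, 8, 8, 10, 10, 8, 11, 8, 6, 5, 5, 6, 4, 6]) (.leaf 97 12 [12, 8, 10, 10, 8, 8, 10, 10, 6, 6, 6, 5, 6, 6, 6, 5, 6, 4, 7, 4])) (.node 829 (.leaf 200 15 [11, 8, 10, 10, 5, 5, 6, 6, 4, 7, 4, 6, 4, 7, 5, 6, 6, 12, 9]) (.leaf 465 3 [5, 7, 4, 6, 4, 6, 6, 6, 5, 5, 6, 12, 13, 8, 10, 8, 11, 8, 8, 10, 6, 5, 6])))) (.node 834 (.node 832 (.node 831 (.leaf 468 10 [7, 5, 5, 7, 14, 14, 9, 10, 10, 6, 6, 6, 4, 6, 4, 4, 7, 7, 5]) (.leaf 32 6 [6, 6, 6, 6, 13, 11, 8, 11, 8, 10, 6, 6, 6, 4, 4, 6])) (.node 833 (.leaf 67 3 [7, 5, 6, 5, 7, 4, 4, 7, 14, 14, 10, 8, 8, 10, 9, 11, 9, 4, 7, 5]) (.leaf 87 8 [5, 6, 4, 7, 12, 10, 8, 8, 10, 10, 9, 10, 10, 9, 4, 4, 6, 6, 5, 6, 6, 6]))) (.node 836 (.node 835 (.leaf 96 17 [11, 4, 7, 5, 5, 7, 7, 4, 6, 6, 5, 5, 7, 14, 8, 10, 10, 8]) (.leaf 97 0 [6, 6, 6, 5, 6, 6, 6, 5, 6, 4, 7, 4, 12, 8, 10, 10, 8, 8, 10, 10])) (.node 837 (.leaf 120 4 [6, 6, 6, 6, 4, 6, 6, 6, 12, 10, 8, 8, 10, 4, 7, 4, 4]) (.leaf 128 7 [6, 4, 6, 6, 5, 12, 10, 8, 8, 11, 6, 6, 4, 4, 6, 6, 6]))))) (.node 846 (.node 842 (.node 840 (.node 839 (.leaf 155 7 [4, 7, 4, 6, 4, 4, 14, 12, 10, 8, 8, 10, 8, 8, 7, 7, 7, 7, 4, 7, 4]) (.leaf 161 3 [4, 6, 6, 4, 6, 4, 7, 7, 5, 7, 12, 14, 10, 8, 8, 10, 10, 9, 6, 4, 6])) (.node 841 (.leaf 227 9 [5, 5, 6, 4, 12, 14, 12, 8, 8, 10, 10, 6, 4, 7, 5, 6, 4, 4, 7, 5]) (.leaf 231 22 [11, 7, 7, 7, 4, 4, 4, 6, 5, 7, 7, 7, 4, 7, 14, 11, 8, 10, 9, 10, 8, 11, 9]))) (.node 844 (.node 843 (.leaf 259 3 [4, 7, 4, 6, 4, 6, 6, 5, 5, 5, 12, 10, 9, 10, 8, 10, 10, 9, 4, 6, 6]) (.leaf 264 13 [12, 13, 13, 9, 10, 8, 11, 8, 10, 10, 9, 6, 4, 6, 5, 6, 5, 6, 4, 6, 4, 4, 6, 5])) (.node 845 (.leaf 268 3 [4, 4, 6, 4, 7, 4, 4, 7, 7, 5, 12, 14, 14, 8, 10, 9, 10, 9, 10, 7, 4, 4]) (.leaf 286 13 [14, 10, 10, 8, 11, 8, 10, 4, 7, 5, 6, 6, 6, 6, 5, 5, 7, 4, 6, 5])))) (.node 850 (.node 848 (.node 847 (.leaf 310 23 [8, 7, 7, 4, 4, 7, 4, 4, 7, 7, 5, 5, 6, 6, 12, 14, 12, 10, 10, 8, 11, 9, 10, 8]) (.leaf 326 3 [4, 6, 6, 4, 4, 7, 4, 7, 5, 6, 12, 13, 13, 9, 10, 10, 5, 5, 7])) (.node 849 (.leaf 373 10 [7, 4, 6, 5, 12, 13, 9, 10, 8, 10, 10, 4, 7, 5, 5, 7, 4, 7, 4, 7, 5]) (.leaf 384 8 [6, 4, 6, 5, 6, 6, 13, 13, 9, 10, 9, 10, 10, 6, 4, 7, 4, 7, 7, 4, 6]))) (.node 852 (.node 851 (.leaf 390 11 [6, 5, 5, 12, 14, 12, 10, 10, 9, 10, 9, 11, 5, 7, 4, 4, 6, 5, 6, 4, 4, 7, 4]) (.leaf 398 1 [4, 4, 7, 4, 4, 4, 6, 5, 7, 7, 4, 6, 5, 14, 14, 10, 10, 8, 11, 9, 10, 8, 6])) (.node 853 (.leaf 412 9 [4, 4, 7, 4, 4, 14, 12, 8, 10, 8, 8, 10, 8, 10, 4, 7, 5, 7, 7, 7, 4, 6, 4]) (.leaf 461 8 [5, 5, 5, 7, 7, 5, 12, 14, 14, 8, 10, 8, 8, 10, 10, 4, 7, 7, 4, 6, 5, 6, 6])))))) (.node 870 (.node 862 (.node 858 (.node 856 (.node 855 (.leaf 469 12 [6, 4, 12, 13, 8, 10, 10, 8, 8, 11, 4, 6, 6, 6, 5, 6, 4, 6, 6, 4, 6, 4]) (.leaf 29 5 [4, 6, 6, 6, 4, 14, 12, 8, 10, 8, 11, 8, 8, 11, 7, 4, 6, 6, 4])) (.node 857 (.leaf 31 3 [7, 7, 4, 6, 6, 6, 6, 12, 10, 8, 8, 11, 4, 7, 7]) (.leaf 35 12 [12, 13, 11, 8, 11, 8, 11, 9, 4, 7, 5, 6, 5, 6, 5, 6, 6, 5, 12, 13]))) (.node 860 (.node 859 (.leaf 60 2 [6, 4, 6, 6, 6, 6, 5, 7, 7, 8, 11, 9, 11, 8, 4, 6]) (.leaf 129 6 [6, 4, 6, 6, 6, 4, 13, 13, 8, 11, 9, 10, 10, 8, 8, 11, 7, 4, 4, 6, 6, 6])) (.node 861 (.leaf 193 11 [6, 5, 14, 12, 9, 11, 8, 11, 8, 11, 9, 10, 5, 5, 6, 6, 6, 4, 4, 7, 4, 4, 4]) (.leaf 214 17 [11, 9, 11, 8, 10, 8, 5, 7, 7, 7, 4, 6, 4, 4, 4, 7, 4, 4, 4, 12, 14, 14, 8])))) (.node 866 (.node 864 (.node 863 (.leaf 223 5 [7, 4, 6, 4, 6, 5, 5, 5, 12, 14, 8, 11, 8, 11, 8, 11, 7, 7, 7, 4, 4]) (.leaf 295 2 [5, 7, 7, 4, 6, 5, 6, 6, 5, 6, 6, 13, 12, 13, 8, 11, 8, 11, 8, 10, 8, 5, 5])) (.node 865 (.leaf 338 12 [4, 7, 13, 13, 9, 10, 8, 11, 8, 11, 5, 5, 5, 5, 5, 6, 4, 4, 6, 5, 7, 7]) (.leaf 402 7 [6, 4, 6, 5, 6, 5, 7, 12, 13, 12, 8, 8, 11, 6, 6, 6, 5, 5, 5, 6]))) (.node 868 (.node 867 (.leaf 426 14 [14, 12, 8, 11, 8, 10, 8, 8, 11, 5, 5, 6, 6, 4, 4, 7, 4, 4, 6, 5, 5, 6, 6]) (.leaf 9 6 [4, 6, 4, 6, 4, 6, 4, 6, 4, 6, 4, 6, 4, 6, 4, 6])) (.node 869 (.leaf 126 12 [14, 8, 11, 9, 10, 9, 11, 5, 7, 7, 7, 5, 6, 4, 6, 5, 5, 6, 5]) (.leaf 240 8 [7, 7, 5, 7, 7, 13, 13, 8, 8, 11, 9, 4, 7, 4, 4, 7, 5, 6, 5]))))) (.node 878 (.node 874 (.node 872 (.node 871 (.leaf 36 4 [6, 4, 4, 4, 7, 7, 13, 12, 9, 11, 9, 10, 8, 10, 5, 6, 5, 5]) (.leaf 129 7 [4, 6, 6, 6, 4, 13, 13, 8, 11, 9, 10, 10, 8, 8, 11, 7, 4, 4, 6, 6, 6, 6])) (.node 873 (.leaf 150 0 [5, 5, 7, 7, 5, 6, 4, 7, 4, 7, 7, 5, 12, 13, 13, 8, 8, 10, 9, 10, 9]) (.leaf 151 13 [14, 12, 10, 8, 11, 9, 10, 8, 8, 11, 4, 4, 7, 5, 5, 6, 4, 7, 5, 5, 6, 6, 12]))) (.node 876 (.node 875 (.leaf 156 22 [8, 10, 6, 6, 5, 5, 7, 5, 6, 6, 6, 5, 7, 5, 7, 12, 14, 14, 9, 10, 9, 11, 8, 11]) (.leaf 173 7 [5, 6, 5, 5, 6, 4, 12, 8, 11, 8, 10, 8, 8, 10, 9, 10, 6, 5, 5, 6, 5, 6, 6])) (.node 877 (.leaf 207 0 [6, 5, 5, 5, 7, 5, 6, 5, 7, 5, 6, 6, 5, 14, 12, 8, 10, 9, 11, 8, 11]) (.leaf 230 10 [7, 5, 7, 12, 14, 8, 11, 9, 10, 9, 10, 10, 9, 7, 7, 7, 4, 4, 4, 4, 7, 7, 4])))) (.node 882 (.node 880 (.node 879 (.leaf 275 2 [7, 7, 5, 6, 6, 6, 6, 4, 4, 4, 7, 12, 13, 8, 11, 9, 10, 8, 11, 8, 6, 5]) (.leaf 280 1 [4, 7, 7, 4, 7, 4, 7, 4, 7, 4, 7, 4, 12, 13, 12, 13, 8, 8, 10, 9, 11, 8, 10, 8, 6])) (.node 881 (.leaf 313 3 [5, 7, 5, 6, 4, 7, 4, 7, 7, 7, 13, 13, 9, 10, 8, 8, 10, 4, 7, 7]) (.leaf 317 5 [6, 6, 5, 7, 7, 7, 5, 5, 12, 13, 8, 11, 9, 10, 9, 11, 8, 4, 4, 7, 5, 5]))) (.node 884 (.node 883 (.leaf 324 8 [4, 4, 7, 7, 7, 13, 12, 13, 10, 8, 10, 5, 7, 4, 4, 6, 6, 6, 6]) (.leaf 328 2 [4, 6, 4, 4, 4, 6, 4, 6, 5, 6, 4, 13, 12, 13, 10, 8, 11, 8, 6, 6])) (.node 885 (.leaf 333 2 [4, 4, 7, 7, 4, 7, 5, 5, 5, 5, 5, 5, 12, 10, 10, 9, 11, 8, 10, 6, 4]) (.leaf 370 8 [7, 5, 7, 7, 5, 5, 14, 14, 8, 11, 8, 10, 9, 10, 8, 10, 5, 7, 7, 4, 4, 4, 4, 7])))))))) (.node 949 (.node 917 (.node 901 (.node 893 (.node 889 (.node 887 (.leaf 408 15 [14, 10, 9, 11, 8, 10, 9, 7, 7, 5, 5, 6, 6, 6, 5, 7, 4, 7, 7, 4, 4, 12]) (.node 888 (.leaf 421 14 [14, 8, 8, 11, 9, 10, 8, 10, 5, 7, 7, 4, 7, 4, 7, 4, 4, 4, 7, 5, 5, 7]) (.leaf 447 24 [11, 6, 5, 6, 5, 5, 5, 7, 4, 6, 5, 7, 5, 5, 6, 12, 14, 12, 10, 10, 8, 8, 10, 10, 8]))) (.node 891 (.node 890 (.leaf 460 9 [4, 4, 4, 6, 6, 13, 8, 8, 10, 9, 11, 8, 10, 4, 6, 6, 6, 4, 6, 4, 6, 6]) (.leaf 243 11 [5, 7, 12, 14, 8, 11, 9, 10, 8, 8, 11, 5, 6, 6, 6, 4, 6, 6, 5, 6, 4, 6])) (.node 892 (.leaf 365 4 [7, 4, 6, 6, 4, 7, 5, 6, 5, 7, 12, 14, 14, 10, 8, 11, 9, 10, 8, 6, 6, 5, 7]) (.leaf 468 16 [9, 10, 10, 6, 6, 6, 4, 6, 4, 4, 7, 7, 5, 7, 5, 5, 7, 14, 14])))) (.node 897 (.node 895 (.node 894 (.leaf 55 14 [9, 10, 10, 9, 10, 10, 5, 7, 7, 4, 6, 4, 7, 7, 7, 7, 4, 12, 13, 12]) (.leaf 57 8 [4, 4, 4, 12, 14, 12, 8, 10, 10, 8, 10, 9, 10, 10, 4, 4, 6, 5, 7, 4, 6, 6])) (.node 896 (.leaf 90 15 [8, 10, 8, 8, 10, 4, 4, 4, 6, 4, 6, 4, 4, 4, 7, 5, 5, 12, 13, 12]) (.leaf 239 11 [7, 7, 12, 14, 12, 8, 11, 8, 11, 8, 11, 6, 4, 7, 5, 6, 6, 6, 4, 6, 5, 5]))) (.node 899 (.node 898 (.leaf 303 3 [7, 5, 5, 6, 4, 7, 7, 5, 6, 6, 12, 13, 12, 8, 8, 10, 9, 10, 10, 8, 11, 9, 6, 4, 4]) (.leaf 410 19 [11, 9, 10, 9, 10, 6, 5, 6, 4, 6, 4, 6, 4, 4, 7, 5, 7, 7, 4, 12, 13, 12, 13, 9])) (.node 900 (.leaf 423 5 [6, 4, 6, 4, 4, 4, 4, 6, 4, 12, 8, 8, 10, 8, 11, 9, 10, 8, 4, 7, 4, 4, 6]) (.leaf 435 5 [4, 6, 6, 6, 6, 4, 6, 5, 5, 12, 13, 12, 8, 10, 8, 11, 9, 11, 8, 11, 4, 4, 4, 4, 4]))))) (.node 909 (.node 905 (.node 903 (.node 902 (.leaf 21 4 [5, 12, 14, 12, 10, 8, 11, 8, 10, 5, 6, 4, 7]) (.leaf 38 7 [4, 7, 7, 5, 12, 14, 14, 10, 9, 11, 9, 11, 8, 10, 4, 4, 6, 5, 6, 6, 6])) (.node 904 (.leaf 244 12 [4, 12, 14, 14, 10, 9, 10, 8, 8, 10, 9, 6, 4, 7, 5, 5, 6, 4, 6, 5, 5, 6, 4]) (.leaf 245 0 [7, 7, 4, 6, 5, 7, 4, 7, 5, 5, 6, 4, 4, 12, 14, 12, 10, 9, 11, 9, 11]))) (.node 907 (.node 906 (.leaf 331 8 [4, 7, 5, 5, 6, 5, 12, 14, 10, 9, 10, 10, 8, 6, 5, 5, 7, 7, 5, 6, 4]) (.leaf 386 15 [13, 10, 9, 11, 8, 6, 4, 4, 7, 4, 7, 4, 4, 4, 7, 5, 5, 6, 5, 12])) (.node 908 (.leaf 408 7 [5, 7, 4, 7, 7, 4, 4, 12, 14, 10, 9, 11, 8, 10, 9, 7, 7, 5, 5, 6, 6, 6]) (.leaf 461 10 [5, 7, 7, 5, 12, 14, 14, 8, 10, 8, 8, 10, 10, 4, 7, 7, 4, 6, 5, 6, 6, 5, 5])))) (.node 913 (.node 911 (.node 910 (.leaf 190 10 [7, 7, 4, 12, 10, 10, 9, 10, 10, 9, 4, 4, 7, 5, 5, 5, 6, 6, 5, 7]) (.leaf 473 3 [5, 7, 4, 4, 6, 4, 7, 4, 6, 5, 5, 12, 13, 12, 8, 10, 8, 10, 9, 10, 9, 5, 7, 7])) (.node 912 (.leaf 69 19 [8, 6, 5, 5, 6, 4, 4, 7, 4, 4, 4, 4, 14, 10, 9, 10, 9, 11, 9, 10]) (.leaf 298 8 [5, 6, 4, 4, 4, 12, 14, 14, 9, 11, 8, 10, 9, 10, 5, 7, 4, 6, 6, 4, 4, 7]))) (.node 915 (.node 914 (.leaf 396 1 [4, 6, 5, 6, 4, 4, 4, 4, 4, 4, 6, 6, 5, 13, 12, 13, 10, 8, 8, 10, 8, 10, 10, 4]) (.leaf 430 4 [5, 5, 6, 6, 4, 4, 4, 6, 6, 5, 13, 12, 10, 8, 8, 10, 10, 8, 6, 4, 6, 5])) (.node 916 (.leaf 30 6 [6, 5, 5, 5, 12, 13, 12, 8, 11, 8, 10, 9, 11, 8, 7, 7, 4, 7, 4, 4]) (.leaf 198 7 [6, 4, 6, 5, 5, 5, 12, 14, 9, 10, 9, 11, 9, 10, 8, 10, 5, 5, 7, 7, 4, 4, 6])))))) (.node 933 (.node 925 (.node 921 (.node 919 (.node 918 (.leaf 295 8 [6, 6, 5, 6, 6, 13, 12, 13, 8, 11, 8, 11, 8, 10, 8, 5, 5, 5, 7, 7, 4, 6, 5]) (.leaf 21 0 [5, 6, 4, 7, 5, 12, 14, 12, 10, 8, 11, 8, 10])) (.node 920 (.leaf 23 1 [6, 6, 6, 6, 6, 5, 6, 13, 12, 8, 10, 8, 11, 8, 8, 10, 4]) (.leaf 50 10 [4, 12, 8, 11, 9, 10, 8, 11, 9, 11, 5, 6, 6, 5, 7, 4, 7, 7, 4, 7]))) (.node 923 (.node 922 (.leaf 65 7 [6, 5, 6, 4, 12, 14, 8, 11, 9, 10, 4, 7, 4, 6, 4, 6, 5]) (.leaf 69 2 [5, 6, 4, 4, 7, 4, 4, 4, 4, 14, 10, 9, 10, 9, 11, 9, 10, 8, 6, 5])) (.node 924 (.leaf 72 20 [11, 9, 4, 4, 4, 7, 5, 6, 6, 6, 5, 7, 5, 6, 12, 13, 8, 8, 10, 9, 10, 9]) (.leaf 83 9 [5, 6, 5, 13, 8, 10, 8, 10, 10, 6, 4, 6, 5, 6, 4, 6, 5, 7])))) (.node 929 (.node 927 (.node 926 (.leaf 91 8 [6, 5, 5, 6, 12, 14, 12, 8, 11, 8, 10, 8, 8, 10, 6, 5, 7, 5, 5, 6, 6, 4]) (.leaf 99 8 [6, 4, 6, 6, 14, 12, 10, 10, 8, 8, 11, 8, 10, 8, 5, 7, 5, 7, 4, 6, 6, 4])) (.node 928 (.leaf 116 2 [4, 7, 7, 4, 6, 4, 7, 5, 5, 6, 13, 13, 9, 10, 10, 9, 10, 8, 10, 5, 7]) (.leaf 119 10 [7, 4, 12, 14, 12, 9, 10, 10, 9, 11, 9, 10, 6, 4, 7, 7, 4, 4, 6, 6, 6, 4]))) (.node 931 (.node 930 (.leaf 146 7 [4, 7, 4, 7, 4, 14, 12, 8, 11, 8, 10, 8, 8, 6, 4, 7, 4, 6, 6, 6]) (.leaf 150 6 [4, 7, 4, 7, 7, 5, 12, 13, 13, 8, 8, 10, 9, 10, 9, 5, 5, 7, 7, 5, 6])) (.node 932 (.leaf 153 9 [4, 6, 4, 14, 8, 10, 8, 8, 10, 8, 11, 9, 6, 4, 4, 7, 4, 6, 5, 7, 7]) (.leaf 154 3 [7, 4, 4, 6, 4, 7, 4, 6, 6, 5, 14, 12, 9, 10, 8, 11, 8, 10, 9, 10, 7, 7, 5]))))) (.node 941 (.node 937 (.node 935 (.node 934 (.leaf 160 3 [7, 7, 7, 4, 6, 4, 4, 6, 6, 6, 14, 14, 8, 10, 8, 10, 10, 8, 7, 7, 5]) (.leaf 167 3 [6, 5, 6, 6, 6, 5, 7, 5, 5, 5, 14, 12, 10, 10, 9, 11, 8, 10, 4, 4, 4])) (.node 936 (.leaf 170 5 [7, 4, 7, 5, 7, 5, 6, 4, 8, 10, 10, 8, 10, 9, 10, 9, 4, 7, 4, 6, 5]) (.leaf 181 9 [4, 7, 7, 4, 13, 12, 9, 10, 10, 9, 11, 9, 10, 5, 7, 4, 7, 7, 7, 4, 7, 4]))) (.node 939 (.node 938 (.leaf 220 3 [5, 6, 4, 4, 7, 4, 4, 7, 5, 7, 8, 8, 10, 9, 10, 10, 9, 10, 6, 5, 7]) (.leaf 254 8 [6, 5, 5, 5, 6, 13, 12, 13, 8, 8, 10, 9, 11, 8, 6, 6, 4, 6, 4, 7, 4, 4])) (.node 940 (.leaf 261 5 [4, 6, 4, 4, 7, 4, 6, 5, 12, 8, 10, 8, 10, 9, 11, 8, 10, 6, 5, 5, 7, 7]) (.leaf 282 8 [5, 5, 6, 4, 4, 12, 14, 10, 8, 8, 10, 9, 11, 9, 5, 5, 5, 5, 5, 6, 6, 6])))) (.node 945 (.node 943 (.node 942 (.leaf 287 1 [6, 6, 6, 5, 6, 4, 7, 7, 4, 7, 7, 4, 13, 11, 8, 10, 9, 10, 9, 5]) (.leaf 290 9 [5, 5, 5, 6, 13, 9, 11, 9, 10, 8, 10, 6, 5, 6, 6, 5, 6, 6, 6, 6])) (.node 944 (.leaf 304 5 [5, 6, 5, 7, 4, 7, 5, 5, 13, 10, 10, 8, 8, 11, 8, 10, 4, 4, 7, 4, 6]) (.leaf 361 5 [4, 4, 4, 4, 7, 5, 5, 6, 4, 13, 12, 8, 10, 8, 11, 9, 11, 8, 7, 7, 7, 4, 7]))) (.node 947 (.node 946 (.leaf 387 8 [6, 6, 4, 7, 5, 5, 13, 8, 10, 8, 10, 10, 8, 8, 10, 5, 6, 5, 7, 5, 5, 6, 6]) (.leaf 412 8 [4, 4, 4, 7, 4, 4, 14, 12, 8, 10, 8, 8, 10, 8, 10, 4, 7, 5, 7, 7, 7, 4, 6])) (.node 948 (.leaf 419 4 [5, 6, 4, 6, 5, 5, 5, 5, 6, 5, 13, 12, 13, 8, 11, 8, 10, 9, 10, 4, 7, 7, 5]) (.leaf 437 6 [4, 4, 6, 6, 4, 6, 5, 5, 12, 13, 12, 10, 8, 10, 9, 11, 8, 10, 4, 4, 4, 4, 7, 7]))))))) (.node 981 (.node 965 (.node 957 (.node 953 (.node 951 (.node 950 (.leaf 444 8 [4, 6, 6, 6, 5, 5, 13, 9, 10, 8, 8, 11, 8, 10, 10, 5, 5, 5, 6, 5, 6, 6, 6]) (.leaf 445 2 [5, 7, 7, 4, 4, 7, 5, 6, 6, 6, 5, 5, 13, 12, 13, 8, 8, 10, 9, 11, 8, 10, 4, 7])) (.node 952 (.leaf 24 5 [7, 7, 4, 12, 13, 13, 8, 11, 8, 11, 6, 6, 6, 6, 5]) (.leaf 47 2 [5, 7, 7, 4, 6, 4, 4, 6, 4, 14, 8, 11, 9, 10, 9, 10, 10, 9, 5, 7]))) (.node 955 (.node 954 (.leaf 65 3 [6, 4, 6, 5, 6, 5, 6, 4, 12, 14, 8, 11, 9, 10, 4, 7, 4]) (.leaf 67 8 [4, 4, 7, 14, 14, 10, 8, 8, 10, 9, 11, 9, 4, 7, 5, 7, 5, 6, 5, 7])) (.node 956 (.leaf 84 1 [6, 6, 5, 6, 4, 6, 5, 7, 5, 6, 6, 13, 12, 10, 9, 10, 8, 8, 11, 6]) (.leaf 93 15 [13, 8, 11, 9, 10, 8, 11, 9, 10, 7, 7, 4, 4, 6, 4, 6, 6, 5, 6, 6, 6, 12, 13, 12])))) (.node 961 (.node 959 (.node 958 (.leaf 99 5 [6, 6, 4, 6, 4, 6, 6, 14, 12, 10, 10, 8, 8, 11, 8, 10, 8, 5, 7, 5, 7, 4]) (.leaf 101 21 [10, 6, 4, 6, 5, 7, 7, 4, 4, 6, 5, 5, 6, 12, 13, 13, 8, 11, 8, 11, 8, 10])) (.node 960 (.leaf 123 14 [13, 10, 8, 8, 10, 10, 9, 11, 8, 10, 7, 4, 4, 4, 7, 4, 4, 7, 7, 7, 5, 5, 13, 12]) (.leaf 127 8 [5, 7, 7, 7, 12, 14, 14, 8, 11, 9, 10, 9, 10, 9, 11, 9, 4, 7, 5, 5, 5, 6, 4, 6]))) (.node 963 (.node 962 (.leaf 148 10 [4, 4, 14, 8, 10, 10, 8, 10, 9, 11, 9, 5, 7, 7, 4, 4, 6, 6, 4, 6, 4]) (.leaf 157 20 [8, 11, 8, 7, 7, 5, 6, 5, 6, 6, 4, 4, 7, 4, 6, 4, 12, 14, 9, 11, 8, 10, 10])) (.node 964 (.leaf 162 17 [11, 8, 11, 9, 11, 4, 4, 4, 6, 5, 5, 6, 5, 7, 4, 4, 7, 7, 12, 14, 10, 8]) (.leaf 206 3 [4, 6, 4, 4, 6, 6, 6, 4, 6, 6, 12, 13, 12, 13, 8, 11, 8, 8, 10, 6, 5, 7]))))) (.node 973 (.node 969 (.node 967 (.node 966 (.leaf 235 9 [5, 6, 5, 5, 12, 10, 10, 9, 10, 9, 11, 9, 6, 5, 7, 5, 5, 5, 6, 5, 5]) (.leaf 240 3 [4, 7, 5, 6, 5, 7, 7, 5, 7, 7, 13, 13, 8, 8, 11, 9, 4, 7, 4])) (.node 968 (.leaf 243 8 [6, 4, 6, 5, 7, 12, 14, 8, 11, 9, 10, 8, 8, 11, 5, 6, 6, 6, 4, 6, 6, 5]) (.leaf 262 8 [7, 4, 6, 6, 5, 12, 13, 10, 8, 10, 9, 11, 9, 10, 7, 4, 4, 6, 4, 6, 6, 5]))) (.node 971 (.node 970 (.leaf 272 1 [6, 6, 4, 4, 6, 6, 6, 5, 7, 4, 7, 4, 13, 13, 10, 9, 11, 9, 11, 8, 10, 10, 4]) (.leaf 285 7 [7, 4, 7, 7, 4, 7, 14, 8, 11, 8, 11, 8, 8, 5, 6, 5, 5, 6, 6, 4])) (.node 972 (.leaf 288 12 [4, 12, 13, 13, 9, 11, 8, 10, 10, 8, 6, 6, 4, 6, 5, 7, 4, 4, 7, 7, 7, 4]) (.leaf 291 9 [5, 6, 5, 7, 14, 12, 8, 8, 10, 8, 10, 9, 11, 6, 5, 7, 4, 7, 4, 4, 4, 6])))) (.node 977 (.node 975 (.node 974 (.leaf 296 8 [7, 5, 5, 5, 6, 14, 14, 8, 11, 8, 10, 10, 8, 11, 8, 11, 6, 4, 6, 4, 4, 4, 6, 4]) (.leaf 304 4 [6, 5, 6, 5, 7, 4, 7, 5, 5, 13, 10, 10, 8, 8, 11, 8, 10, 4, 4, 7, 4])) (.node 976 (.leaf 308 9 [7, 5, 5, 7, 14, 12, 11, 8, 11, 8, 11, 5, 6, 5, 6, 6, 4, 4, 7, 5]) (.leaf 323 2 [4, 4, 4, 6, 4, 6, 5, 6, 4, 6, 4, 13, 13, 8, 11, 8, 11, 8, 11, 5, 7]))) (.node 979 (.node 978 (.leaf 328 15 [13, 10, 8, 11, 8, 6, 6, 4, 6, 4, 4, 4, 6, 4, 6, 5, 6, 4, 13, 12]) (.leaf 329 7 [7, 4, 7, 7, 7, 5, 12, 14, 8, 10, 8, 10, 9, 11, 8, 10, 10, 6, 6, 4, 4, 7, 7, 4])) (.node 980 (.leaf 338 3 [5, 5, 6, 4, 4, 6, 5, 7, 7, 4, 7, 13, 13, 9, 10, 8, 11, 8, 11, 5, 5, 5]) (.leaf 400 6 [4, 4, 7, 4, 6, 5, 7, 7, 12, 9, 10, 8, 11, 8, 10, 9, 5, 7, 5, 7, 5, 7])))))) (.node 997 (.node 989 (.node 985 (.node 983 (.node 982 (.leaf 407 7 [7, 5, 7, 4, 6, 5, 5, 12, 13, 12, 13, 9, 10, 8, 8, 11, 9, 6, 4, 4, 6, 5, 6, 4]) (.leaf 421 12 [5, 7, 14, 8, 8, 11, 9, 10, 8, 10, 5, 7, 7, 4, 7, 4, 7, 4, 4, 4, 7, 5])) (.node 984 (.leaf 442 7 [6, 4, 7, 5, 7, 4, 4, 13, 12, 13, 10, 8, 11, 9, 10, 8, 8, 11, 5, 7, 5, 7, 4, 6, 4]) (.leaf 445 10 [6, 6, 5, 5, 13, 12, 13, 8, 8, 10, 9, 11, 8, 10, 4, 7, 5, 7, 7, 4, 4, 7, 5, 6]))) (.node 987 (.node 986 (.leaf 43 7 [7, 4, 4, 4, 13, 12, 13, 11, 8, 10, 7, 7, 5, 6, 6, 6, 5]) (.leaf 88 2 [7, 4, 6, 6, 4, 4, 4, 6, 5, 5, 14, 12, 8, 8, 11, 8, 10, 10, 9, 7, 7])) (.node 988 (.leaf 120 7 [6, 4, 6, 6, 6, 12, 10, 8, 8, 10, 4, 7, 4, 4, 6, 6, 6]) (.leaf 177 10 [4, 6, 4, 13, 12, 8, 10, 8, 10, 9, 10, 4, 6, 6, 5, 6, 6, 4, 6, 6, 6])))) (.node 993 (.node 991 (.node 990 (.leaf 178 4 [4, 7, 4, 4, 4, 7, 7, 5, 6, 12, 14, 8, 10, 9, 10, 9, 10, 8, 10, 5, 5, 6, 4]) (.leaf 182 10 [5, 5, 6, 12, 13, 12, 8, 10, 8, 10, 9, 10, 9, 6, 4, 4, 6, 5, 5, 6, 5, 5, 5])) (.node 992 (.leaf 188 1 [5, 6, 4, 6, 5, 6, 6, 5, 6, 6, 5, 7, 12, 13, 12, 11, 8, 10, 9, 10, 8, 8, 6]) (.leaf 198 9 [6, 5, 5, 5, 12, 14, 9, 10, 9, 11, 9, 10, 8, 10, 5, 5, 7, 7, 4, 4, 6, 6, 4]))) (.node 995 (.node 994 (.leaf 229 11 [5, 7, 12, 13, 12, 8, 11, 8, 10, 10, 9, 10, 9, 10, 5, 6, 6, 6, 5, 5, 6, 6, 6, 6, 5]) (.leaf 268 1 [4, 4, 4, 4, 6, 4, 7, 4, 4, 7, 7, 5, 12, 14, 14, 8, 10, 9, 10, 9, 10, 7])) (.node 996 (.leaf 303 4 [5, 5, 6, 4, 7, 7, 5, 6, 6, 12, 13, 12, 8, 8, 10, 9, 10, 10, 8, 11, 9, 6, 4, 4, 7]) (.leaf 321 10 [5, 7, 7, 12, 13, 9, 11, 8, 10, 10, 8, 11, 7, 7, 4, 6, 4, 4, 4, 6, 6, 5]))))) (.node 1005 (.node 1001 (.node 999 (.node 998 (.leaf 332 22 [8, 8, 10, 4, 7, 5, 6, 6, 5, 6, 6, 6, 5, 7, 7, 5, 5, 12, 13, 12, 8, 8, 10, 9, 11]) (.leaf 371 12 [6, 4, 12, 8, 10, 10, 9, 10, 10, 8, 10, 5, 7, 7, 4, 4, 4, 6, 5, 6, 6, 6, 4])) (.node 1000 (.leaf 377 21 [10, 8, 10, 4, 7, 7, 5, 6, 5, 5, 6, 5, 5, 7, 5, 6, 6, 13, 12, 8, 10, 9, 11, 9]) (.leaf 379 3 [5, 5, 5, 6, 6, 5, 7, 7, 7, 4, 4, 13, 12, 10, 8, 8, 10, 8, 11, 8, 4, 7, 5]))) (.node 1003 (.node 1002 (.leaf 394 0 [6, 6, 4, 6, 4, 6, 6, 4, 6, 4, 6, 6, 5, 5, 12, 14, 12, 8, 11, 9, 10, 8, 8, 11]) (.leaf 437 8 [6, 6, 4, 6, 5, 5, 12, 13, 12, 10, 8, 10, 9, 11, 8, 10, 4, 4, 4, 4, 7, 7, 4, 4])) (.node 1004 (.leaf 459 5 [7, 4, 4, 6, 5, 6, 6, 5, 7, 12, 13, 12, 13, 8, 11, 9, 10, 8, 11, 8, 11, 4, 6, 6, 4, 7]) (.leaf 494 4 [4, 6, 6, 5, 6, 6, 5, 7, 7, 5, 12, 14, 12, 11, 8, 11, 8, 10, 9, 10, 10, 6, 4, 7, 4])))) (.node 1009 (.node 1007 (.node 1006 (.leaf 56 6 [6, 6, 4, 6, 5, 13, 12, 13, 8, 8, 10, 10, 8, 11, 4, 7, 4, 7, 4, 4]) (.leaf 102 8 [4, 4, 6, 5, 12, 13, 13, 10, 8, 11, 8, 10, 10, 8, 11, 7, 7, 7, 5, 6, 4, 4, 4])) (.node 1008 (.leaf 109 20 [9, 6, 5, 7, 7, 7, 4, 4, 7, 4, 6, 6, 6, 12, 14, 12, 11, 8, 11, 8, 10]) (.leaf 113 3 [4, 7, 4, 4, 7, 4, 7, 4, 7, 12, 13, 10, 8, 8, 10, 9, 6, 4, 4]))) (.node 1011 (.node 1010 (.leaf 119 9 [4, 7, 4, 12, 14, 12, 9, 10, 10, 9, 11, 9, 10, 6, 4, 7, 7, 4, 4, 6, 6, 6]) (.leaf 164 2 [4, 4, 6, 4, 6, 5, 7, 7, 4, 4, 4, 14, 12, 11, 8, 11, 8, 10, 8, 8, 11, 6, 4])) (.node 1012 (.leaf 203 8 [6, 6, 4, 6, 4, 12, 13, 12, 13, 8, 11, 8, 10, 9, 11, 6, 4, 6, 4, 4, 6, 6, 4]) (.leaf 292 2 [7, 4, 7, 4, 6, 4, 4, 4, 7, 5, 6, 12, 13, 12, 13, 10, 10, 9, 10, 10, 8, 6, 5]))))))))))) (.node 1519 (.node 1266 (.node 1139 (.node 1076 (.node 1044 (.node 1028 (.node 1020 (.node 1016 (.node 1014 (.leaf 294 4 [5, 5, 6, 4, 6, 4, 4, 4, 7, 12, 14, 14, 9, 10, 9, 11, 9, 10, 8, 7, 4, 4, 6]) (.node 1015 (.leaf 339 21 [10, 5, 5, 5, 5, 5, 6, 4, 6, 6, 4, 7, 4, 4, 7, 12, 13, 13, 11, 8, 10, 9]) (.leaf 358 5 [4, 4, 4, 4, 6, 4, 7, 4, 4, 12, 13, 12, 9, 11, 9, 10, 5, 5, 7, 4, 4]))) (.node 1018 (.node 1017 (.leaf 362 5 [7, 4, 7, 5, 5, 7, 5, 6, 4, 12, 13, 13, 10, 8, 10, 10, 9, 10, 8, 5, 7, 5, 6, 4]) (.leaf 449 0 [4, 4, 4, 4, 6, 6, 5, 6, 6, 5, 6, 5, 7, 7, 13, 12, 13, 9, 11, 8])) (.node 1019 (.leaf 490 4 [5, 6, 4, 4, 6, 5, 7, 7, 5, 5, 12, 14, 14, 8, 11, 8, 8, 11, 9, 5, 6, 5, 6]) (.leaf 493 2 [7, 7, 4, 6, 5, 6, 6, 5, 5, 6, 6, 6, 12, 13, 12, 13, 8, 11, 9, 10, 8, 11, 5, 7])))) (.node 1024 (.node 1022 (.node 1021 (.leaf 25 6 [5, 6, 5, 13, 12, 13, 8, 10, 8, 10, 9, 11, 8, 11, 4, 4, 7, 7, 4, 6]) (.leaf 26 2 [6, 6, 4, 6, 4, 7, 7, 14, 8, 8, 10, 10, 9, 10, 9, 6, 4])) (.node 1023 (.leaf 28 3 [7, 4, 7, 5, 6, 6, 4, 13, 12, 9, 10, 8, 8, 11, 8, 7, 4, 4]) (.leaf 33 4 [4, 4, 4, 6, 6, 4, 13, 12, 8, 11, 8, 8, 11, 9, 11, 8, 5, 6, 5, 7]))) (.node 1026 (.node 1025 (.leaf 34 7 [6, 5, 7, 13, 8, 8, 10, 8, 7, 7, 5, 6, 4, 4, 6]) (.leaf 34 5 [4, 6, 6, 5, 7, 13, 8, 8, 10, 8, 7, 7, 5, 6, 4])) (.node 1027 (.leaf 39 8 [4, 4, 7, 14, 12, 10, 8, 8, 10, 8, 7, 7, 4, 6, 5, 6, 4, 4]) (.leaf 53 6 [7, 4, 4, 4, 7, 13, 13, 10, 10, 8, 8, 11, 8, 4, 6, 6, 5, 6, 4]))))) (.node 1036 (.node 1032 (.node 1030 (.node 1029 (.leaf 88 8 [4, 6, 5, 5, 14, 12, 8, 8, 11, 8, 10, 10, 9, 7, 7, 7, 4, 6, 6, 4, 4]) (.leaf 89 8 [4, 4, 7, 4, 12, 13, 8, 10, 8, 10, 9, 10, 8, 7, 7, 7, 7, 4, 4, 7, 4])) (.node 1031 (.leaf 91 12 [12, 14, 12, 8, 11, 8, 10, 8, 8, 10, 6, 5, 7, 5, 5, 6, 6, 4, 6, 5, 5, 6]) (.leaf 108 10 [4, 7, 12, 13, 10, 8, 10, 9, 11, 4, 6, 6, 4, 6, 4, 6, 5, 5, 7]))) (.node 1034 (.node 1033 (.leaf 110 1 [6, 6, 5, 6, 4, 4, 4, 4, 7, 4, 4, 13, 12, 8, 10, 10, 8, 10, 10, 8, 11, 5]) (.leaf 124 3 [6, 6, 6, 4, 7, 4, 4, 6, 6, 12, 8, 8, 10, 10, 9, 10, 9, 11, 6, 6, 4])) (.node 1035 (.leaf 126 6 [4, 6, 5, 5, 6, 5, 14, 8, 11, 9, 10, 9, 11, 5, 7, 7, 7, 5, 6]) (.leaf 128 12 [12, 10, 8, 8, 11, 6, 6, 4, 4, 6, 6, 6, 6, 4, 6, 6, 5])))) (.node 1040 (.node 1038 (.node 1037 (.leaf 132 10 [5, 5, 13, 13, 8, 11, 9, 10, 8, 8, 10, 4, 4, 7, 4, 6, 6, 4, 4, 6, 6]) (.leaf 144 8 [4, 6, 6, 4, 14, 14, 8, 10, 9, 10, 8, 8, 4, 4, 7, 7, 5, 6, 4, 6])) (.node 1039 (.leaf 153 7 [7, 7, 4, 6, 4, 14, 8, 10, 8, 8, 10, 8, 11, 9, 6, 4, 4, 7, 4, 6, 5]) (.leaf 176 1 [6, 6, 4, 6, 5, 6, 4, 4, 6, 5, 6, 4, 13, 13, 8, 10, 10, 8, 10, 10, 8, 11, 6]))) (.node 1042 (.node 1041 (.leaf 177 7 [6, 6, 6, 4, 6, 4, 13, 12, 8, 10, 8, 10, 9, 10, 4, 6, 6, 5, 6, 6, 4]) (.leaf 191 5 [6, 4, 4, 7, 4, 4, 6, 4, 12, 13, 10, 8, 8, 10, 8, 10, 9, 11, 6, 5, 5, 7, 4])) (.node 1043 (.leaf 191 3 [7, 4, 6, 4, 4, 7, 4, 4, 6, 4, 12, 13, 10, 8, 8, 10, 8, 10, 9, 11, 6, 5, 5]) (.leaf 196 3 [7, 5, 5, 6, 5, 7, 4, 6, 4, 4, 13, 8, 11, 8, 10, 8, 8, 10, 10, 5, 5, 7])))))) (.node 1060 (.node 1052 (.node 1048 (.node 1046 (.node 1045 (.leaf 220 2 [7, 5, 6, 4, 4, 7, 4, 4, 7, 5, 7, 8, 8, 10, 9, 10, 10, 9, 10, 6, 5]) (.leaf 243 4 [4, 6, 6, 5, 6, 4, 6, 5, 7, 12, 14, 8, 11, 9, 10, 8, 8, 11, 5, 6, 6, 6])) (.node 1047 (.leaf 246 8 [7, 7, 5, 5, 7, 14, 12, 8, 10, 8, 10, 9, 10, 8, 11, 5, 6, 5, 7, 4, 7, 4, 7]) (.leaf 248 13 [12, 14, 12, 8, 10, 8, 11, 8, 4, 7, 5, 6, 4, 4, 4, 4, 6, 5, 6, 6, 4]))) (.node 1050 (.node 1049 (.leaf 254 13 [13, 12, 13, 8, 8, 10, 9, 11, 8, 6, 6, 4, 6, 4, 7, 4, 4, 6, 5, 5, 5, 6]) (.leaf 257 2 [4, 6, 6, 6, 4, 4, 7, 4, 7, 5, 5, 12, 13, 8, 8, 10, 9, 10, 10, 5, 7])) (.node 1051 (.leaf 269 8 [4, 7, 5, 6, 5, 14, 9, 10, 8, 10, 10, 8, 10, 4, 4, 7, 4, 4, 4, 4, 4]) (.leaf 273 20 [11, 7, 7, 7, 5, 6, 6, 4, 7, 7, 5, 5, 6, 5, 12, 14, 8, 10, 8, 11, 9])))) (.node 1056 (.node 1054 (.node 1053 (.leaf 275 8 [6, 4, 4, 4, 7, 12, 13, 8, 11, 9, 10, 8, 11, 8, 6, 5, 7, 7, 5, 6, 6, 6]) (.leaf 279 9 [5, 7, 5, 7, 8, 8, 10, 9, 11, 9, 10, 4, 4, 6, 4, 4, 4, 6, 4, 6])) (.node 1055 (.leaf 285 11 [4, 7, 14, 8, 11, 8, 11, 8, 8, 5, 6, 5, 5, 6, 6, 4, 7, 4, 7, 7]) (.leaf 295 9 [6, 5, 6, 6, 13, 12, 13, 8, 11, 8, 11, 8, 10, 8, 5, 5, 5, 7, 7, 4, 6, 5, 6]))) (.node 1058 (.node 1057 (.leaf 296 13 [14, 14, 8, 11, 8, 10, 10, 8, 11, 8, 11, 6, 4, 6, 4, 4, 4, 6, 4, 7, 5, 5, 5, 6]) (.leaf 299 8 [4, 4, 4, 6, 4, 12, 13, 12, 13, 10, 9, 10, 8, 8, 10, 8, 5, 7, 4, 4, 4, 4, 4, 6])) (.node 1059 (.leaf 324 9 [4, 7, 7, 7, 13, 12, 13, 10, 8, 10, 5, 7, 4, 4, 6, 6, 6, 6, 4]) (.leaf 336 8 [4, 6, 5, 7, 5, 5, 13, 9, 10, 10, 9, 10, 8, 10, 10, 4, 4, 4, 4, 6, 6, 4, 4]))))) (.node 1068 (.node 1064 (.node 1062 (.node 1061 (.leaf 344 8 [5, 6, 6, 5, 5, 5, 8, 10, 10, 8, 11, 8, 7, 7, 4, 4, 6, 6, 4, 6]) (.leaf 355 8 [7, 5, 5, 5, 5, 6, 12, 13, 8, 8, 10, 10, 8, 10, 10, 4, 7, 5, 6, 4, 6, 4, 4])) (.node 1063 (.leaf 356 12 [6, 4, 12, 13, 13, 8, 8, 10, 9, 10, 8, 11, 8, 7, 4, 4, 6, 4, 7, 4, 4, 4, 4, 6, 5]) (.leaf 357 5 [4, 4, 4, 7, 4, 7, 5, 5, 7, 8, 11, 8, 10, 8, 8, 4, 7, 7, 4, 6]))) (.node 1066 (.node 1065 (.leaf 364 7 [7, 7, 7, 5, 6, 4, 4, 14, 14, 8, 10, 10, 9, 10, 10, 8, 6, 6, 5, 7, 7, 4, 4]) (.leaf 385 5 [7, 5, 6, 6, 6, 6, 4, 6, 5, 12, 13, 13, 8, 10, 9, 10, 10, 8, 8, 4, 6, 6, 6, 5])) (.node 1067 (.leaf 394 12 [5, 5, 12, 14, 12, 8, 11, 9, 10, 8, 8, 11, 6, 6, 4, 6, 4, 6, 6, 4, 6, 4, 6, 6]) (.leaf 406 4 [5, 7, 4, 6, 5, 5, 5, 7, 5, 5, 12, 14, 14, 8, 11, 8, 10, 8, 8, 5, 7, 5, 5])))) (.node 1072 (.node 1070 (.node 1069 (.leaf 419 0 [4, 7, 7, 5, 5, 6, 4, 6, 5, 5, 5, 5, 6, 5, 13, 12, 13, 8, 11, 8, 10, 9, 10]) (.leaf 420 10 [5, 7, 7, 5, 13, 13, 8, 8, 10, 8, 11, 9, 11, 4, 4, 4, 4, 6, 5, 7, 4, 7, 5])) (.node 1071 (.leaf 423 22 [8, 4, 7, 4, 4, 6, 6, 4, 6, 4, 4, 4, 4, 6, 4, 12, 8, 8, 10, 8, 11, 9, 10]) (.leaf 423 12 [6, 4, 12, 8, 8, 10, 8, 11, 9, 10, 8, 4, 7, 4, 4, 6, 6, 4, 6, 4, 4, 4, 4]))) (.node 1074 (.node 1073 (.leaf 430 11 [6, 6, 5, 13, 12, 10, 8, 8, 10, 10, 8, 6, 4, 6, 5, 5, 5, 6, 6, 4, 4, 4]) (.leaf 439 23 [10, 10, 7, 7, 4, 4, 7, 5, 6, 6, 6, 6, 6, 4, 4, 4, 12, 13, 13, 8, 10, 8, 8, 10, 8])) (.node 1075 (.leaf 447 15 [14, 12, 10, 10, 8, 8, 10, 10, 8, 11, 6, 5, 6, 5, 5, 5, 7, 4, 6, 5, 7, 5, 5, 6, 12]) (.leaf 455 8 [6, 6, 5, 7, 7, 5, 12, 8, 10, 10, 9, 10, 9, 11, 9, 6, 5, 6, 5, 7, 5, 6, 4]))))))) (.node 1107 (.node 1091 (.node 1083 (.node 1079 (.node 1077 (.leaf 459 14 [12, 13, 12, 13, 8, 11, 9, 10, 8, 11, 8, 11, 4, 6, 6, 4, 7, 7, 4, 4, 6, 5, 6, 6, 5, 7]) (.node 1078 (.leaf 466 2 [4, 4, 6, 5, 7, 4, 4, 7, 5, 5, 5, 7, 12, 13, 12, 13, 8, 10, 8, 11, 8, 11, 8, 5, 7]) (.leaf 475 12 [6, 5, 12, 14, 12, 8, 10, 10, 9, 10, 9, 11, 8, 5, 6, 5, 6, 4, 4, 4, 7, 5, 6, 4, 4]))) (.node 1081 (.node 1080 (.leaf 483 3 [5, 5, 7, 4, 4, 6, 4, 4, 7, 5, 5, 13, 12, 13, 8, 10, 10, 9, 11, 8, 11, 9, 5, 5, 7]) (.leaf 63 14 [10, 10, 8, 11, 9, 10, 9, 11, 7, 7, 4, 4, 4, 6, 5, 6, 6, 4, 4, 13, 12, 13])) (.node 1082 (.leaf 74 6 [4, 4, 6, 6, 6, 5, 12, 14, 14, 10, 9, 11, 8, 10, 10, 9, 6, 4, 4, 7, 7, 4]) (.leaf 109 3 [7, 7, 4, 4, 7, 4, 6, 6, 6, 12, 14, 12, 11, 8, 11, 8, 10, 9, 6, 5, 7])))) (.node 1087 (.node 1085 (.node 1084 (.leaf 136 8 [5, 6, 4, 7, 12, 10, 10, 9, 10, 9, 10, 9, 5, 7, 7, 4, 7, 4, 4, 7]) (.leaf 165 5 [4, 6, 5, 5, 5, 7, 5, 6, 13, 12, 13, 10, 8, 11, 9, 5, 5, 7, 7, 7])) (.node 1086 (.leaf 179 23 [10, 7, 4, 6, 5, 5, 6, 6, 4, 7, 4, 6, 6, 4, 12, 13, 12, 13, 8, 8, 10, 9, 10, 9]) (.leaf 204 14 [10, 8, 8, 10, 9, 11, 9, 5, 6, 5, 7, 7, 7, 4, 6, 5, 6, 6, 4, 7, 14]))) (.node 1089 (.node 1088 (.leaf 245 13 [12, 14, 12, 10, 9, 11, 9, 11, 7, 7, 4, 6, 5, 7, 4, 7, 5, 5, 6, 4, 4]) (.leaf 247 8 [6, 6, 4, 4, 7, 14, 14, 8, 10, 9, 6, 4, 6, 6, 5, 6, 4, 4])) (.node 1090 (.leaf 264 4 [6, 5, 6, 4, 6, 4, 4, 6, 5, 12, 13, 13, 9, 10, 8, 11, 8, 10, 10, 9, 6, 4, 6, 5]) (.leaf 287 19 [9, 5, 6, 6, 6, 5, 6, 4, 7, 7, 4, 7, 7, 4, 13, 11, 8, 10, 9, 10]))))) (.node 1099 (.node 1095 (.node 1093 (.node 1092 (.leaf 334 8 [4, 7, 7, 4, 6, 4, 10, 10, 9, 10, 9, 11, 8, 8, 4, 4, 7, 5, 7, 4, 4, 6]) (.leaf 347 19 [10, 8, 10, 4, 4, 7, 7, 7, 5, 6, 4, 4, 6, 4, 7, 7, 5, 14, 9, 10, 9, 10])) (.node 1094 (.leaf 371 3 [4, 4, 4, 6, 5, 6, 6, 6, 4, 6, 4, 12, 8, 10, 10, 9, 10, 10, 8, 10, 5, 7, 7]) (.leaf 375 8 [4, 6, 5, 7, 5, 6, 14, 14, 8, 10, 9, 11, 4, 7, 4, 4, 4, 6, 5, 6]))) (.node 1097 (.node 1096 (.leaf 424 7 [5, 7, 5, 5, 6, 4, 4, 14, 8, 10, 9, 11, 9, 10, 10, 6, 6, 6, 5, 5, 6, 6]) (.leaf 432 8 [5, 6, 5, 7, 4, 7, 14, 12, 8, 8, 10, 9, 10, 10, 8, 10, 6, 5, 7, 5, 5, 6, 4, 6])) (.node 1098 (.leaf 440 9 [4, 6, 4, 7, 4, 12, 14, 9, 10, 9, 11, 5, 5, 5, 7, 5, 5, 7, 4, 6]) (.leaf 450 5 [6, 4, 4, 4, 7, 7, 5, 6, 4, 13, 13, 9, 10, 9, 6, 5, 7, 5, 6])))) (.node 1103 (.node 1101 (.node 1100 (.leaf 450 8 [4, 7, 7, 5, 6, 4, 13, 13, 9, 10, 9, 6, 5, 7, 5, 6, 6, 4, 4]) (.leaf 455 22 [9, 6, 5, 6, 5, 7, 5, 6, 4, 6, 6, 5, 7, 7, 5, 12, 8, 10, 10, 9, 10, 9, 11])) (.node 1102 (.leaf 347 8 [4, 6, 4, 7, 7, 5, 14, 9, 10, 9, 10, 10, 8, 10, 4, 4, 7, 7, 7, 5, 6, 4]) (.leaf 352 17 [8, 8, 11, 9, 10, 7, 7, 4, 7, 5, 6, 4, 7, 7, 7, 4, 4, 6, 5, 13, 9, 10]))) (.node 1105 (.node 1104 (.leaf 296 5 [4, 6, 4, 7, 5, 5, 5, 6, 14, 14, 8, 11, 8, 10, 10, 8, 11, 8, 11, 6, 4, 6, 4, 4]) (.leaf 11 3 [6, 5, 6, 5, 6, 5, 6, 5, 6, 5, 6, 5, 6, 5, 6, 5, 6, 5, 6, 5, 6, 5, 6, 5])) (.node 1106 (.leaf 17 23 [6, 4, 6, 6, 6, 4, 6, 6, 6, 4, 6, 6, 6, 4, 6, 6, 6, 4, 6, 6, 6, 4, 6, 6, 6, 4, 6, 6, 6, 4, 6, 6]) (.leaf 243 12 [7, 12, 14, 8, 11, 9, 10, 8, 8, 11, 5, 6, 6, 6, 4, 6, 6, 5, 6, 4, 6, 5])))))) (.node 1123 (.node 1115 (.node 1111 (.node 1109 (.node 1108 (.leaf 359 10 [7, 5, 6, 6, 14, 10, 10, 9, 10, 10, 8, 8, 4, 4, 4, 7, 7, 5, 6, 4, 4, 7]) (.leaf 27 1 [4, 6, 6, 6, 6, 5, 6, 5, 12, 10, 8, 8, 10, 6])) (.node 1110 (.leaf 35 14 [11, 8, 11, 8, 11, 9, 4, 7, 5, 6, 5, 6, 5, 6, 6, 5, 12, 13, 12, 13]) (.leaf 266 16 [13, 8, 11, 8, 8, 11, 9, 11, 5, 5, 7, 4, 6, 5, 6, 5, 6, 6, 4, 7, 7, 12, 13, 12]))) (.node 1113 (.node 1112 (.leaf 363 19 [9, 10, 10, 9, 10, 4, 7, 5, 6, 5, 7, 5, 6, 4, 7, 7, 7, 4, 4, 12, 14, 14, 10, 10]) (.leaf 433 10 [5, 5, 6, 5, 12, 13, 12, 10, 10, 8, 8, 11, 9, 10, 5, 6, 6, 6, 4, 4, 4, 4, 6, 5])) (.node 1114 (.leaf 143 6 [6, 6, 5, 6, 5, 5, 12, 13, 13, 11, 8, 10, 10, 9, 11, 8, 11, 8, 4, 7, 4, 6, 4, 4]) (.leaf 82 9 [5, 5, 5, 12, 14, 12, 10, 10, 9, 10, 8, 11, 7, 4, 4, 4, 6, 6, 5, 7, 7])))) (.node 1119 (.node 1117 (.node 1116 (.leaf 211 12 [5, 8, 6, 6, 6, 4, 6, 6, 6, 6, 4, 6, 6, 6]) (.leaf 238 3 [4, 4, 6, 6, 6, 6, 6, 4, 7, 4, 13, 8, 10, 9, 11, 9, 10, 7, 4, 6])) (.node 1118 (.leaf 361 14 [13, 12, 8, 10, 8, 11, 9, 11, 8, 7, 7, 7, 4, 7, 4, 4, 4, 4, 7, 5, 5, 6, 4]) (.leaf 127 4 [5, 6, 4, 6, 5, 7, 7, 7, 12, 14, 14, 8, 11, 9, 10, 9, 10, 9, 11, 9, 4, 7, 5, 5]))) (.node 1121 (.node 1120 (.leaf 140 3 [7, 7, 4, 7, 4, 7, 5, 5, 6, 9, 11, 8, 8, 11, 9, 7, 4, 4]) (.leaf 68 1 [4, 7, 4, 7, 4, 6, 5, 5, 6, 4, 14, 9, 10, 8, 8, 11, 8, 6])) (.node 1122 (.leaf 89 6 [7, 4, 4, 4, 7, 4, 12, 13, 8, 10, 8, 10, 9, 10, 8, 7, 7, 7, 7, 4, 4]) (.leaf 99 17 [8, 11, 8, 10, 8, 5, 7, 5, 7, 4, 6, 6, 4, 6, 4, 6, 6, 14, 12, 10, 10, 8]))))) (.node 1131 (.node 1127 (.node 1125 (.node 1124 (.leaf 151 19 [10, 8, 8, 11, 4, 4, 7, 5, 5, 6, 4, 7, 5, 5, 6, 6, 12, 14, 12, 10, 8, 11, 9]) (.leaf 173 5 [6, 6, 5, 6, 5, 5, 6, 4, 12, 8, 11, 8, 10, 8, 8, 10, 9, 10, 6, 5, 5, 6, 5])) (.node 1126 (.leaf 191 2 [5, 7, 4, 6, 4, 4, 7, 4, 4, 6, 4, 12, 13, 10, 8, 8, 10, 8, 10, 9, 11, 6, 5]) (.leaf 224 3 [6, 4, 4, 6, 5, 7, 7, 5, 5, 6, 12, 13, 10, 8, 8, 10, 10, 9, 11, 8, 10, 5, 6, 5]))) (.node 1129 (.node 1128 (.leaf 233 8 [7, 5, 6, 4, 7, 8, 8, 10, 10, 9, 10, 10, 6, 6, 4, 4, 4, 4, 4, 7]) (.leaf 277 1 [5, 5, 6, 5, 5, 6, 5, 6, 6, 6, 6, 4, 12, 8, 8, 10, 10, 8, 10, 10, 8, 5])) (.node 1130 (.leaf 299 2 [4, 4, 4, 4, 4, 6, 4, 4, 4, 6, 4, 12, 13, 12, 13, 10, 9, 10, 8, 8, 10, 8, 5, 7]) (.leaf 326 15 [13, 9, 10, 10, 5, 5, 7, 4, 6, 6, 4, 4, 7, 4, 7, 5, 6, 12, 13])))) (.node 1135 (.node 1133 (.node 1132 (.leaf 343 8 [5, 7, 5, 7, 4, 4, 13, 12, 10, 9, 10, 8, 10, 10, 9, 11, 5, 5, 7, 4, 7, 5, 6, 6]) (.leaf 430 17 [8, 8, 10, 10, 8, 6, 4, 6, 5, 5, 5, 6, 6, 4, 4, 4, 6, 6, 5, 13, 12, 10])) (.node 1134 (.leaf 450 17 [10, 9, 6, 5, 7, 5, 6, 6, 4, 4, 4, 7, 7, 5, 6, 4, 13, 13, 9]) (.leaf 452 19 [8, 4, 7, 5, 5, 7, 5, 5, 6, 5, 6, 6, 4, 6, 6, 13, 8, 10, 8, 11]))) (.node 1137 (.node 1136 (.leaf 464 3 [4, 6, 5, 6, 6, 5, 7, 7, 4, 6, 6, 12, 13, 13, 8, 8, 11, 9, 6, 4, 7]) (.leaf 135 16 [11, 8, 10, 10, 8, 10, 6, 6, 5, 7, 4, 6, 4, 7, 5, 6, 4, 4, 13, 12, 13, 9])) (.node 1138 (.leaf 150 7 [7, 4, 7, 7, 5, 12, 13, 13, 8, 8, 10, 9, 10, 9, 5, 5, 7, 7, 5, 6, 4]) (.leaf 290 5 [6, 6, 6, 6, 5, 5, 5, 6, 13, 9, 11, 9, 10, 8, 10, 6, 5, 6, 6, 5])))))))) (.node 1202 (.node 1170 (.node 1154 (.node 1146 (.node 1142 (.node 1140 (.leaf 305 5 [6, 4, 4, 4, 6, 4, 4, 7, 13, 9, 10, 8, 11, 8, 10, 10, 9, 6, 5, 5, 5, 6]) (.node 1141 (.leaf 358 19 [9, 10, 5, 5, 7, 4, 4, 4, 4, 4, 4, 6, 4, 7, 4, 4, 12, 13, 12, 9, 11]) (.leaf 368 20 [9, 5, 6, 5, 7, 4, 6, 5, 6, 5, 6, 6, 5, 7, 7, 13, 13, 10, 8, 8, 11]))) (.node 1144 (.node 1143 (.leaf 415 10 [7, 5, 5, 6, 13, 12, 13, 8, 8, 10, 8, 10, 10, 9, 6, 5, 7, 7, 5, 7, 5, 6, 4, 4]) (.leaf 424 5 [6, 6, 5, 7, 5, 5, 6, 4, 4, 14, 8, 10, 9, 11, 9, 10, 10, 6, 6, 6, 5, 5])) (.node 1145 (.leaf 431 4 [5, 5, 7, 4, 4, 4, 4, 6, 4, 7, 14, 14, 10, 9, 10, 9, 11, 9, 10, 8, 11, 5, 6, 6, 5]) (.leaf 432 16 [8, 8, 10, 9, 10, 10, 8, 10, 6, 5, 7, 5, 5, 6, 4, 6, 5, 6, 5, 7, 4, 7, 14, 12])))) (.node 1150 (.node 1148 (.node 1147 (.leaf 458 8 [4, 6, 6, 5, 6, 6, 12, 13, 8, 8, 10, 8, 11, 9, 10, 10, 6, 5, 6, 6, 6, 5, 6, 4]) (.leaf 480 6 [5, 6, 5, 7, 5, 5, 5, 6, 13, 12, 10, 10, 8, 11, 8, 10, 9, 5, 6, 6, 6, 5, 6])) (.node 1149 (.leaf 488 4 [7, 7, 4, 4, 6, 5, 5, 6, 5, 5, 13, 12, 9, 11, 8, 11, 8, 11, 9, 10, 5, 5, 5, 7]) (.leaf 165 4 [7, 4, 6, 5, 5, 5, 7, 5, 6, 13, 12, 13, 10, 8, 11, 9, 5, 5, 7, 7]))) (.node 1152 (.node 1151 (.leaf 74 8 [6, 6, 6, 5, 12, 14, 14, 10, 9, 11, 8, 10, 10, 9, 6, 4, 4, 7, 7, 4, 4, 4]) (.leaf 112 13 [12, 9, 10, 9, 10, 4, 7, 4, 4, 4, 6, 6, 6, 6, 6, 4, 7, 14])) (.node 1153 (.leaf 163 9 [7, 7, 4, 4, 12, 14, 11, 8, 10, 9, 10, 8, 11, 9, 6, 6, 5, 6, 4, 7, 4, 7, 5]) (.leaf 189 4 [6, 4, 4, 6, 4, 4, 7, 4, 7, 12, 14, 12, 10, 10, 8, 10, 6, 5, 6, 4]))))) (.node 1162 (.node 1158 (.node 1156 (.node 1155 (.leaf 245 3 [6, 5, 7, 4, 7, 5, 5, 6, 4, 4, 12, 14, 12, 10, 9, 11, 9, 11, 7, 7, 4]) (.leaf 256 11 [4, 7, 12, 8, 11, 8, 10, 9, 10, 10, 8, 5, 7, 4, 7, 4, 6, 4, 6, 5, 6, 4])) (.node 1157 (.leaf 287 3 [6, 5, 6, 4, 7, 7, 4, 7, 7, 4, 13, 11, 8, 10, 9, 10, 9, 5, 6, 6]) (.leaf 303 10 [5, 6, 6, 12, 13, 12, 8, 8, 10, 9, 10, 10, 8, 11, 9, 6, 4, 4, 7, 5, 5, 6, 4, 7, 7]))) (.node 1160 (.node 1159 (.leaf 307 16 [13, 9, 11, 8, 10, 9, 10, 10, 8, 10, 6, 4, 4, 4, 4, 6, 4, 6, 4, 7, 7, 4, 4, 12, 13, 12]) (.leaf 347 10 [4, 7, 7, 5, 14, 9, 10, 9, 10, 10, 8, 10, 4, 4, 7, 7, 7, 5, 6, 4, 4, 6])) (.node 1161 (.leaf 366 15 [13, 12, 8, 8, 10, 9, 10, 10, 8, 11, 4, 4, 6, 5, 6, 5, 6, 6, 4, 4, 4, 4, 7, 4, 12]) (.leaf 113 14 [10, 8, 8, 10, 9, 6, 4, 4, 4, 7, 4, 4, 7, 4, 7, 4, 7, 12, 13])))) (.node 1166 (.node 1164 (.node 1163 (.leaf 179 2 [6, 5, 5, 6, 6, 4, 7, 4, 6, 6, 4, 12, 13, 12, 13, 8, 8, 10, 9, 10, 9, 10, 7, 4]) (.leaf 200 3 [6, 4, 7, 4, 6, 4, 7, 5, 6, 6, 12, 9, 11, 8, 10, 10, 5, 5, 6])) (.node 1165 (.leaf 250 10 [4, 7, 4, 13, 12, 13, 10, 10, 9, 10, 10, 9, 6, 4, 6, 5, 7, 4, 6, 4, 6, 4]) (.leaf 328 11 [6, 4, 13, 12, 13, 10, 8, 11, 8, 6, 6, 4, 6, 4, 4, 4, 6, 4, 6, 5]))) (.node 1168 (.node 1167 (.leaf 448 7 [5, 7, 4, 4, 4, 7, 4, 12, 14, 8, 10, 9, 10, 9, 10, 8, 8, 6, 6, 4, 7, 5, 5, 6]) (.leaf 285 10 [7, 4, 7, 14, 8, 11, 8, 11, 8, 8, 5, 6, 5, 5, 6, 6, 4, 7, 4, 7])) (.node 1169 (.leaf 453 12 [4, 4, 13, 11, 8, 10, 8, 5, 5, 5, 6, 5, 6, 5, 6, 5, 6, 4, 7]) (.leaf 455 14 [12, 8, 10, 10, 9, 10, 9, 11, 9, 6, 5, 6, 5, 7, 5, 6, 4, 6, 6, 5, 7, 7, 5])))))) (.node 1186 (.node 1178 (.node 1174 (.node 1172 (.node 1171 (.leaf 485 20 [10, 8, 10, 9, 11, 8, 5, 6, 5, 7, 4, 6, 6, 5, 7, 7, 7, 7, 5, 5, 12, 13, 12, 13, 8, 10]) (.leaf 8 2 [7, 7, 7, 7, 7, 7, 7, 7, 7, 7, 7, 7])) (.node 1173 (.leaf 85 19 [8, 6, 5, 6, 4, 4, 6, 4, 6, 6, 5, 6, 4, 12, 14, 9, 10, 10, 9, 10]) (.leaf 64 11 [14, 12, 8, 10, 9, 10, 9, 10, 9, 6, 4, 4, 6, 4, 4, 4, 7, 4, 7, 4]))) (.node 1176 (.node 1175 (.leaf 68 9 [6, 4, 14, 9, 10, 8, 8, 11, 8, 6, 4, 7, 4, 7, 4, 6, 5, 5]) (.leaf 69 8 [4, 4, 4, 14, 10, 9, 10, 9, 11, 9, 10, 8, 6, 5, 5, 6, 4, 4, 7, 4])) (.node 1177 (.leaf 142 19 [8, 5, 7, 4, 4, 4, 4, 6, 4, 7, 7, 4, 7, 12, 8, 10, 8, 10, 9, 11]) (.leaf 238 13 [13, 8, 10, 9, 11, 9, 10, 7, 4, 6, 4, 4, 6, 6, 6, 6, 6, 4, 7, 4])))) (.node 1182 (.node 1180 (.node 1179 (.leaf 283 4 [7, 4, 4, 6, 6, 4, 7, 4, 4, 10, 10, 8, 11, 8, 4, 7, 4, 4]) (.leaf 287 18 [10, 9, 5, 6, 6, 6, 5, 6, 4, 7, 7, 4, 7, 7, 4, 13, 11, 8, 10, 9])) (.node 1181 (.leaf 323 8 [5, 6, 4, 6, 4, 13, 13, 8, 11, 8, 11, 8, 11, 5, 7, 4, 4, 4, 6, 4, 6]) (.leaf 436 14 [12, 13, 13, 10, 9, 10, 9, 10, 10, 8, 6, 5, 7, 4, 6, 4, 6, 4, 7, 7, 5, 7, 7, 4]))) (.node 1184 (.node 1183 (.leaf 456 10 [7, 4, 4, 4, 12, 13, 13, 10, 9, 10, 8, 8, 10, 8, 4, 7, 5, 7, 4, 6, 4, 4, 4, 7]) (.leaf 471 5 [4, 6, 4, 6, 5, 7, 5, 5, 7, 12, 14, 14, 8, 11, 8, 10, 9, 10, 8, 6, 5, 7, 5, 6])) (.node 1185 (.leaf 92 10 [4, 7, 14, 14, 8, 10, 9, 10, 10, 8, 8, 11, 5, 6, 6, 6, 4, 4, 6, 4, 4, 6]) (.leaf 362 20 [10, 9, 10, 8, 5, 7, 5, 6, 4, 7, 4, 7, 5, 5, 7, 5, 6, 4, 12, 13, 13, 10, 8, 10]))))) (.node 1194 (.node 1190 (.node 1188 (.node 1187 (.leaf 411 4 [7, 5, 6, 5, 6, 6, 6, 5, 5, 5, 9, 11, 9, 11, 8, 11, 8, 11, 5, 6, 5, 5]) (.leaf 448 15 [14, 8, 10, 9, 10, 9, 10, 8, 8, 6, 6, 4, 7, 5, 5, 6, 5, 7, 4, 4, 4, 7, 4, 12])) (.node 1189 (.leaf 450 15 [13, 9, 10, 9, 6, 5, 7, 5, 6, 6, 4, 4, 4, 7, 7, 5, 6, 4, 13]) (.leaf 489 3 [6, 5, 6, 4, 6, 4, 4, 4, 7, 7, 4, 14, 11, 8, 11, 8, 10, 9, 10, 8, 11, 5, 7, 5]))) (.node 1192 (.node 1191 (.leaf 27 5 [6, 5, 6, 5, 12, 10, 8, 8, 10, 6, 4, 6, 6, 6]) (.leaf 29 7 [6, 6, 4, 14, 12, 8, 10, 8, 11, 8, 8, 11, 7, 4, 6, 6, 4, 4, 6])) (.node 1193 (.leaf 30 8 [5, 5, 12, 13, 12, 8, 11, 8, 10, 9, 11, 8, 7, 7, 4, 7, 4, 4, 6, 5]) (.leaf 31 6 [6, 6, 6, 6, 12, 10, 8, 8, 11, 4, 7, 7, 7, 7, 4])))) (.node 1198 (.node 1196 (.node 1195 (.leaf 35 7 [6, 6, 5, 12, 13, 12, 13, 11, 8, 11, 8, 11, 9, 4, 7, 5, 6, 5, 6, 5]) (.leaf 45 8 [5, 6, 5, 12, 14, 12, 10, 9, 10, 8, 10, 10, 6, 4, 7, 7, 7, 4, 7, 7])) (.node 1197 (.leaf 80 21 [9, 11, 8, 11, 6, 5, 5, 5, 5, 6, 6, 6, 6, 5, 5, 5, 12, 13, 12, 13, 8, 10, 10, 8, 10]) (.leaf 98 3 [7, 4, 6, 6, 4, 6, 5, 5, 7, 14, 12, 8, 11, 8, 11, 8, 8, 11, 8, 11, 4, 7, 7]))) (.node 1200 (.node 1199 (.leaf 100 0 [4, 7, 7, 4, 4, 4, 6, 5, 5, 6, 6, 5, 12, 8, 11, 8]) (.leaf 104 2 [7, 7, 4, 6, 6, 4, 7, 5, 5, 5, 12, 13, 12, 10, 8, 10, 9, 11, 8, 10, 8, 5, 5])) (.node 1201 (.leaf 115 0 [4, 6, 6, 5, 7, 4, 4, 6, 6, 6, 5, 7, 13, 12, 13, 10, 9, 10, 8, 10, 10, 9, 10]) (.leaf 138 4 [5, 6, 5, 5, 7, 5, 5, 5, 12, 14, 14, 10, 8, 8, 10, 8, 11, 8, 11, 8, 7, 7, 5, 5]))))))) (.node 1234 (.node 1218 (.node 1210 (.node 1206 (.node 1204 (.node 1203 (.leaf 154 1 [7, 5, 7, 4, 4, 6, 4, 7, 4, 6, 6, 5, 14, 12, 9, 10, 8, 11, 8, 10, 9, 10, 7]) (.leaf 165 8 [5, 5, 7, 5, 6, 13, 12, 13, 10, 8, 11, 9, 5, 5, 7, 7, 7, 4, 6, 5])) (.node 1205 (.leaf 167 8 [5, 7, 5, 5, 5, 14, 12, 10, 10, 9, 11, 8, 10, 4, 4, 4, 6, 5, 6, 6, 6]) (.leaf 182 5 [5, 6, 5, 5, 5, 5, 5, 6, 12, 13, 12, 8, 10, 8, 10, 9, 10, 9, 6, 4, 4, 6, 5]))) (.node 1208 (.node 1207 (.leaf 189 7 [6, 4, 4, 7, 4, 7, 12, 14, 12, 10, 10, 8, 10, 6, 5, 6, 4, 6, 4, 4]) (.leaf 192 8 [4, 6, 5, 7, 7, 12, 14, 10, 8, 8, 10, 10, 4, 4, 7, 7, 5, 7, 4, 4])) (.node 1209 (.leaf 202 9 [5, 5, 5, 5, 13, 12, 13, 8, 10, 10, 8, 11, 8, 10, 9, 4, 4, 4, 6, 4, 6, 6, 5, 7]) (.leaf 218 5 [4, 4, 4, 6, 6, 6, 4, 4, 12, 14, 12, 9, 11, 8, 10, 9, 10, 10, 9, 11, 4, 7, 5, 6, 6])))) (.node 1214 (.node 1212 (.node 1211 (.leaf 222 5 [4, 6, 5, 6, 4, 7, 7, 5, 12, 9, 11, 8, 5, 7, 7, 5, 7]) (.leaf 227 3 [5, 6, 4, 4, 7, 5, 5, 5, 6, 4, 12, 14, 12, 8, 8, 10, 10, 6, 4, 7])) (.node 1213 (.leaf 245 16 [10, 9, 11, 9, 11, 7, 7, 4, 6, 5, 7, 4, 7, 5, 5, 6, 4, 4, 12, 14, 12]) (.leaf 280 21 [11, 8, 10, 8, 6, 4, 7, 7, 4, 7, 4, 7, 4, 7, 4, 7, 4, 12, 13, 12, 13, 8, 8, 10, 9]))) (.node 1216 (.node 1215 (.leaf 292 8 [4, 4, 7, 5, 6, 12, 13, 12, 13, 10, 10, 9, 10, 10, 8, 6, 5, 7, 4, 7, 4, 6, 4]) (.leaf 307 24 [8, 10, 6, 4, 4, 4, 4, 6, 4, 6, 4, 7, 7, 4, 4, 12, 13, 12, 13, 9, 11, 8, 10, 9, 10, 10])) (.node 1217 (.leaf 308 19 [11, 5, 6, 5, 6, 6, 4, 4, 7, 5, 7, 5, 5, 7, 14, 12, 11, 8, 11, 8]) (.leaf 326 8 [7, 4, 7, 5, 6, 12, 13, 13, 9, 10, 10, 5, 5, 7, 4, 6, 6, 4, 4]))))) (.node 1226 (.node 1222 (.node 1220 (.node 1219 (.leaf 329 22 [10, 10, 6, 6, 4, 4, 7, 7, 4, 7, 4, 7, 7, 7, 5, 12, 14, 8, 10, 8, 10, 9, 11, 8]) (.leaf 335 10 [6, 5, 6, 4, 12, 13, 13, 10, 10, 8, 11, 8, 11, 9, 10, 8, 6, 4, 6, 4, 7, 5, 6, 4, 4, 6])) (.node 1221 (.leaf 345 8 [6, 4, 4, 4, 6, 5, 12, 13, 12, 9, 10, 10, 8, 10, 9, 10, 9, 7, 7, 4, 4, 6, 6, 6, 4]) (.leaf 351 3 [4, 4, 7, 7, 4, 4, 7, 5, 6, 4, 4, 12, 13, 12, 13, 8, 10, 8, 11, 8, 11, 8, 8, 4, 4, 6]))) (.node 1224 (.node 1223 (.leaf 394 4 [4, 6, 6, 4, 6, 4, 6, 6, 5, 5, 12, 14, 12, 8, 11, 9, 10, 8, 8, 11, 6, 6, 4, 6]) (.leaf 400 8 [7, 4, 6, 5, 7, 7, 12, 9, 10, 8, 11, 8, 10, 9, 5, 7, 5, 7, 5, 7, 4, 4])) (.node 1225 (.leaf 408 3 [5, 6, 6, 6, 5, 7, 4, 7, 7, 4, 4, 12, 14, 10, 9, 11, 8, 10, 9, 7, 7, 5]) (.leaf 427 7 [4, 6, 5, 5, 7, 5, 5, 12, 14, 12, 8, 10, 9, 10, 10, 8, 8, 11, 5, 5, 7, 4, 4, 6, 6])))) (.node 1230 (.node 1228 (.node 1227 (.leaf 435 9 [6, 4, 6, 5, 5, 12, 13, 12, 8, 10, 8, 11, 9, 11, 8, 11, 4, 4, 4, 4, 4, 4, 6, 6, 6]) (.leaf 436 8 [7, 7, 5, 7, 7, 4, 12, 13, 13, 10, 9, 10, 9, 10, 10, 8, 6, 5, 7, 4, 6, 4, 6, 4])) (.node 1229 (.leaf 445 4 [7, 4, 4, 7, 5, 6, 6, 6, 5, 5, 13, 12, 13, 8, 8, 10, 9, 11, 8, 10, 4, 7, 5, 7]) (.leaf 467 12 [6, 4, 12, 13, 12, 8, 10, 10, 9, 10, 10, 8, 4, 4, 7, 5, 5, 7, 4, 4, 6, 6, 5, 5]))) (.node 1232 (.node 1231 (.leaf 35 0 [4, 7, 5, 6, 5, 6, 5, 6, 6, 5, 12, 13, 12, 13, 11, 8, 11, 8, 11, 9]) (.leaf 38 2 [6, 5, 6, 6, 6, 4, 7, 7, 5, 12, 14, 14, 10, 9, 11, 9, 11, 8, 10, 4, 4])) (.node 1233 (.leaf 41 4 [6, 4, 6, 4, 6, 5, 5, 12, 13, 13, 8, 10, 8, 11, 8, 8, 11, 9, 6, 5, 6, 5]) (.leaf 55 7 [7, 7, 7, 4, 12, 13, 12, 9, 10, 10, 9, 10, 10, 5, 7, 7, 4, 6, 4, 7])))))) (.node 1250 (.node 1242 (.node 1238 (.node 1236 (.node 1235 (.leaf 59 6 [6, 5, 6, 4, 7, 12, 14, 14, 10, 9, 10, 9, 10, 10, 8, 7, 4, 6, 5, 6, 4]) (.leaf 64 7 [7, 4, 7, 4, 14, 12, 8, 10, 9, 10, 9, 10, 9, 6, 4, 4, 6, 4, 4, 4])) (.node 1237 (.leaf 74 4 [7, 4, 4, 4, 6, 6, 6, 5, 12, 14, 14, 10, 9, 11, 8, 10, 10, 9, 6, 4, 4, 7]) (.leaf 78 8 [6, 6, 4, 7, 12, 14, 12, 9, 11, 8, 10, 9, 11, 6, 5, 5, 6, 5, 6, 4, 4]))) (.node 1240 (.node 1239 (.leaf 91 20 [8, 10, 6, 5, 7, 5, 5, 6, 6, 4, 6, 5, 5, 6, 12, 14, 12, 8, 11, 8, 10, 8]) (.leaf 124 7 [7, 4, 4, 6, 6, 12, 8, 8, 10, 10, 9, 10, 9, 11, 6, 6, 4, 6, 6, 6, 4])) (.node 1241 (.leaf 161 2 [6, 4, 6, 6, 4, 6, 4, 7, 7, 5, 7, 12, 14, 10, 8, 8, 10, 10, 9, 6, 4]) (.leaf 173 2 [5, 6, 5, 6, 6, 5, 6, 5, 5, 6, 4, 12, 8, 11, 8, 10, 8, 8, 10, 9, 10, 6, 5])))) (.node 1246 (.node 1244 (.node 1243 (.leaf 177 4 [6, 6, 4, 6, 6, 6, 4, 6, 4, 13, 12, 8, 10, 8, 10, 9, 10, 4, 6, 6, 5]) (.leaf 179 0 [7, 4, 6, 5, 5, 6, 6, 4, 7, 4, 6, 6, 4, 12, 13, 12, 13, 8, 8, 10, 9, 10, 9, 10])) (.node 1245 (.leaf 192 0 [4, 4, 7, 7, 5, 7, 4, 4, 4, 6, 5, 7, 7, 12, 14, 10, 8, 8, 10, 10]) (.leaf 195 8 [5, 6, 4, 4, 7, 14, 12, 9, 11, 8, 10, 10, 8, 8, 7, 7, 5, 7, 7, 4, 6, 6]))) (.node 1248 (.node 1247 (.leaf 212 8 [4, 7, 4, 7, 7, 12, 11, 8, 11, 8, 11, 9, 5, 7, 4, 4, 7, 7, 4, 7]) (.leaf 218 8 [6, 6, 6, 4, 4, 12, 14, 12, 9, 11, 8, 10, 9, 10, 10, 9, 11, 4, 7, 5, 6, 6, 4, 4, 4])) (.node 1249 (.leaf 227 8 [5, 5, 5, 6, 4, 12, 14, 12, 8, 8, 10, 10, 6, 4, 7, 5, 6, 4, 4, 7]) (.leaf 229 0 [5, 6, 6, 6, 5, 5, 6, 6, 6, 6, 5, 5, 7, 12, 13, 12, 8, 11, 8, 10, 10, 9, 10, 9, 10]))))) (.node 1258 (.node 1254 (.node 1252 (.node 1251 (.leaf 239 5 [6, 6, 4, 6, 5, 5, 7, 7, 12, 14, 12, 8, 11, 8, 11, 8, 11, 6, 4, 7, 5, 6]) (.leaf 248 1 [7, 5, 6, 4, 4, 4, 4, 6, 5, 6, 6, 4, 12, 14, 12, 8, 10, 8, 11, 8, 4])) (.node 1253 (.leaf 261 4 [7, 4, 6, 4, 4, 7, 4, 6, 5, 12, 8, 10, 8, 10, 9, 11, 8, 10, 6, 5, 5, 7]) (.leaf 271 3 [4, 4, 6, 6, 6, 5, 7, 4, 7, 7, 12, 14, 12, 8, 10, 8, 8, 10, 8, 10, 6, 5, 7]))) (.node 1256 (.node 1255 (.leaf 271 7 [6, 5, 7, 4, 7, 7, 12, 14, 12, 8, 10, 8, 8, 10, 8, 10, 6, 5, 7, 4, 4, 6, 6]) (.leaf 291 3 [4, 7, 4, 4, 4, 6, 5, 6, 5, 7, 14, 12, 8, 8, 10, 8, 10, 9, 11, 6, 5, 7])) (.node 1257 (.leaf 335 2 [6, 4, 7, 5, 6, 4, 4, 6, 6, 5, 6, 4, 12, 13, 13, 10, 10, 8, 11, 8, 11, 9, 10, 8, 6, 4]) (.leaf 360 5 [7, 4, 4, 4, 7, 4, 7, 4, 4, 12, 14, 14, 8, 11, 8, 6, 5, 6, 5, 5])))) (.node 1262 (.node 1260 (.node 1259 (.leaf 369 3 [6, 4, 4, 4, 7, 4, 7, 4, 7, 4, 4, 12, 14, 12, 9, 10, 9, 11, 8, 8, 10, 10, 5, 7, 4]) (.leaf 376 8 [7, 7, 4, 4, 6, 6, 12, 14, 14, 8, 10, 8, 10, 10, 8, 8, 10, 7, 4, 6, 6, 5, 5, 7, 4])) (.node 1261 (.leaf 455 9 [6, 5, 7, 7, 5, 12, 8, 10, 10, 9, 10, 9, 11, 9, 6, 5, 6, 5, 7, 5, 6, 4, 6]) (.leaf 486 4 [6, 4, 4, 6, 5, 5, 7, 7, 5, 5, 12, 13, 12, 10, 10, 8, 8, 10, 10, 9, 10, 10, 7, 4, 4, 4]))) (.node 1264 (.node 1263 (.leaf 490 22 [9, 5, 6, 5, 6, 5, 6, 4, 4, 6, 5, 7, 7, 5, 5, 12, 14, 14, 8, 11, 8, 8, 11]) (.leaf 40 2 [5, 7, 5, 6, 6, 4, 4, 6, 4, 13, 10, 8, 10, 9, 11, 8, 10, 8, 6, 5])) (.node 1265 (.leaf 40 0 [6, 5, 5, 7, 5, 6, 6, 4, 4, 6, 4, 13, 10, 8, 10, 9, 11, 8, 10, 8]) (.leaf 44 2 [5, 6, 6, 4, 6, 4, 6, 4, 4, 14, 14, 8, 8, 10, 10, 8, 10, 10, 6, 6]))))))))) (.node 1392 (.node 1329 (.node 1297 (.node 1281 (.node 1273 (.node 1269 (.node 1267 (.leaf 44 7 [4, 6, 4, 4, 14, 14, 8, 8, 10, 10, 8, 10, 10, 6, 6, 5, 6, 6, 4, 6]) (.node 1268 (.leaf 44 15 [10, 10, 8, 10, 10, 6, 6, 5, 6, 6, 4, 6, 4, 6, 4, 4, 14, 14, 8, 8]) (.leaf 45 3 [7, 7, 4, 7, 7, 5, 6, 5, 12, 14, 12, 10, 9, 10, 8, 10, 10, 6, 4, 7]))) (.node 1271 (.node 1270 (.leaf 45 13 [12, 10, 9, 10, 8, 10, 10, 6, 4, 7, 7, 7, 4, 7, 7, 5, 6, 5, 12, 14]) (.leaf 47 14 [9, 10, 9, 10, 10, 9, 5, 7, 5, 7, 7, 4, 6, 4, 4, 6, 4, 14, 8, 11])) (.node 1272 (.leaf 48 11 [13, 12, 10, 8, 8, 10, 9, 11, 8, 8, 10, 5, 7, 5, 6, 6, 6, 6, 4, 4, 4, 4]) (.leaf 48 2 [5, 6, 6, 6, 6, 4, 4, 4, 4, 13, 12, 10, 8, 8, 10, 9, 11, 8, 8, 10, 5, 7])))) (.node 1277 (.node 1275 (.node 1274 (.leaf 55 2 [7, 4, 6, 4, 7, 7, 7, 7, 4, 12, 13, 12, 9, 10, 10, 9, 10, 10, 5, 7]) (.leaf 56 3 [7, 4, 4, 6, 6, 4, 6, 5, 13, 12, 13, 8, 8, 10, 10, 8, 11, 4, 7, 4])) (.node 1276 (.leaf 66 6 [4, 7, 7, 5, 5, 14, 14, 8, 11, 9, 10, 8, 11, 8, 10, 10, 6, 6, 5, 6, 4, 4]) (.leaf 70 7 [4, 7, 5, 6, 14, 12, 8, 8, 10, 10, 8, 11, 8, 6, 5, 5, 6, 4, 6, 6]))) (.node 1279 (.node 1278 (.leaf 76 10 [5, 7, 12, 13, 12, 10, 8, 11, 9, 10, 9, 10, 5, 5, 6, 5, 6, 4, 6, 4, 4, 7]) (.leaf 83 4 [6, 4, 6, 5, 7, 5, 6, 5, 13, 8, 10, 8, 10, 10, 6, 4, 6, 5])) (.node 1280 (.leaf 94 3 [4, 7, 4, 7, 5, 6, 4, 6, 5, 13, 12, 10, 9, 11, 9, 11, 8, 10, 10, 6, 4, 6]) (.leaf 97 2 [6, 5, 6, 6, 6, 5, 6, 4, 7, 4, 12, 8, 10, 10, 8, 8, 10, 10, 6, 6]))))) (.node 1289 (.node 1285 (.node 1283 (.node 1282 (.leaf 97 14 [10, 10, 8, 8, 10, 10, 6, 6, 6, 5, 6, 6, 6, 5, 6, 4, 7, 4, 12, 8]) (.leaf 104 0 [5, 5, 7, 7, 4, 6, 6, 4, 7, 5, 5, 5, 12, 13, 12, 10, 8, 10, 9, 11, 8, 10, 8])) (.node 1284 (.leaf 105 8 [5, 7, 7, 4, 14, 8, 10, 9, 10, 10, 9, 10, 9, 11, 7, 4, 4, 7, 5, 6, 4, 7]) (.leaf 108 3 [4, 6, 4, 6, 5, 5, 7, 4, 7, 12, 13, 10, 8, 10, 9, 11, 4, 6, 6]))) (.node 1287 (.node 1286 (.leaf 109 2 [7, 7, 7, 4, 4, 7, 4, 6, 6, 6, 12, 14, 12, 11, 8, 11, 8, 10, 9, 6, 5]) (.leaf 110 4 [6, 4, 4, 4, 4, 7, 4, 4, 13, 12, 8, 10, 10, 8, 10, 10, 8, 11, 5, 6, 6, 5])) (.node 1288 (.leaf 112 17 [10, 4, 7, 4, 4, 4, 6, 6, 6, 6, 6, 4, 7, 14, 12, 9, 10, 9]) (.leaf 114 3 [4, 4, 4, 6, 5, 6, 4, 4, 4, 13, 10, 10, 9, 10, 8, 8, 4, 6, 6])))) (.node 1293 (.node 1291 (.node 1290 (.leaf 115 4 [7, 4, 4, 6, 6, 6, 5, 7, 13, 12, 13, 10, 9, 10, 8, 10, 10, 9, 10, 4, 6, 6, 5]) (.leaf 123 12 [13, 12, 13, 10, 8, 8, 10, 10, 9, 11, 8, 10, 7, 4, 4, 4, 7, 4, 4, 7, 7, 7, 5, 5])) (.node 1292 (.leaf 124 19 [9, 11, 6, 6, 4, 6, 6, 6, 4, 7, 4, 4, 6, 6, 12, 8, 8, 10, 10, 9, 10]) (.leaf 130 5 [4, 6, 5, 5, 6, 5, 7, 13, 9, 10, 10, 8, 10, 9, 10, 9, 4, 4, 7, 5, 7]))) (.node 1295 (.node 1294 (.leaf 131 17 [8, 10, 10, 7, 7, 7, 4, 4, 6, 4, 6, 6, 6, 6, 5, 12, 10, 8, 8, 10]) (.leaf 131 2 [7, 4, 4, 6, 4, 6, 6, 6, 6, 5, 12, 10, 8, 8, 10, 8, 10, 10, 7, 7])) (.node 1296 (.leaf 133 0 [4, 4, 7, 4, 6, 6, 6, 4, 4, 6, 5, 7, 13, 8, 10, 8, 11, 8, 11, 8, 8]) (.leaf 134 0 [6, 6, 5, 7, 4, 4, 6, 6, 5, 5, 5, 7, 13, 12, 10, 8, 10, 9, 11])))))) (.node 1313 (.node 1305 (.node 1301 (.node 1299 (.node 1298 (.leaf 136 12 [12, 10, 10, 9, 10, 9, 10, 9, 5, 7, 7, 4, 7, 4, 4, 7, 5, 6, 4, 7]) (.leaf 138 14 [14, 10, 8, 8, 10, 8, 11, 8, 11, 8, 7, 7, 5, 5, 5, 6, 5, 5, 7, 5, 5, 5, 12, 14])) (.node 1300 (.leaf 143 8 [5, 6, 5, 5, 12, 13, 13, 11, 8, 10, 10, 9, 11, 8, 11, 8, 4, 7, 4, 6, 4, 4, 6, 6]) (.leaf 151 7 [7, 5, 5, 6, 6, 12, 14, 12, 10, 8, 11, 9, 10, 8, 8, 11, 4, 4, 7, 5, 5, 6, 4]))) (.node 1303 (.node 1302 (.leaf 151 1 [4, 7, 5, 5, 6, 4, 7, 5, 5, 6, 6, 12, 14, 12, 10, 8, 11, 9, 10, 8, 8, 11, 4]) (.leaf 154 4 [4, 4, 6, 4, 7, 4, 6, 6, 5, 14, 12, 9, 10, 8, 11, 8, 10, 9, 10, 7, 7, 5, 7])) (.node 1304 (.leaf 156 8 [6, 5, 7, 5, 7, 12, 14, 14, 9, 10, 9, 11, 8, 11, 8, 10, 6, 6, 5, 5, 7, 5, 6, 6]) (.leaf 171 10 [5, 5, 5, 14, 14, 8, 10, 9, 11, 8, 8, 10, 6, 5, 5, 5, 7, 7, 4, 4, 6, 6])))) (.node 1309 (.node 1307 (.node 1306 (.leaf 172 0 [4, 4, 7, 5, 6, 4, 4, 6, 6, 5, 6, 6, 4, 12, 8, 8, 10, 8, 10]) (.leaf 183 5 [6, 4, 6, 6, 6, 6, 5, 5, 14, 14, 10, 10, 9, 10, 8, 8, 10, 4, 7, 7, 7, 5])) (.node 1308 (.leaf 187 1 [4, 7, 4, 6, 4, 6, 5, 7, 5, 6, 4, 4, 10, 8, 8, 10, 10, 9, 11, 8, 6]) (.leaf 190 18 [10, 9, 4, 4, 7, 5, 5, 5, 6, 6, 5, 7, 7, 7, 4, 12, 10, 10, 9, 10]))) (.node 1311 (.node 1310 (.leaf 192 1 [4, 7, 7, 5, 7, 4, 4, 4, 6, 5, 7, 7, 12, 14, 10, 8, 8, 10, 10, 4]) (.leaf 193 14 [12, 9, 11, 8, 11, 8, 11, 9, 10, 5, 5, 6, 6, 6, 4, 4, 7, 4, 4, 4, 6, 5, 14])) (.node 1312 (.leaf 197 0 [5, 5, 7, 7, 4, 4, 4, 4, 6, 4, 4, 7, 7, 14, 10, 8, 10]) (.leaf 199 3 [6, 5, 5, 6, 4, 7, 4, 6, 4, 7, 14, 14, 8, 11, 8, 10, 9, 11, 8, 6, 6, 5]))))) (.node 1321 (.node 1317 (.node 1315 (.node 1314 (.leaf 203 2 [6, 4, 4, 6, 6, 4, 6, 6, 4, 6, 4, 12, 13, 12, 13, 8, 11, 8, 10, 9, 11, 6, 4]) (.leaf 205 0 [7, 7, 4, 4, 6, 4, 4, 7, 7, 7, 4, 4, 7, 12, 14, 12, 10, 10, 8, 8, 11, 9, 10])) (.node 1316 (.leaf 205 4 [6, 4, 4, 7, 7, 7, 4, 4, 7, 12, 14, 12, 10, 10, 8, 8, 11, 9, 10, 7, 7, 4, 4]) (.leaf 207 10 [6, 6, 5, 14, 12, 8, 10, 9, 11, 8, 11, 6, 5, 5, 5, 7, 5, 6, 5, 7, 5]))) (.node 1319 (.node 1318 (.leaf 208 22 [8, 6, 4, 4, 6, 4, 7, 4, 7, 4, 7, 7, 5, 5, 12, 14, 8, 8, 10, 9, 10, 9, 10]) (.leaf 210 10 [6, 5, 7, 13, 12, 8, 10, 8, 11, 8, 8, 10, 8, 6, 6, 6, 4, 6, 6, 4, 6, 6, 6])) (.node 1320 (.leaf 215 5 [6, 6, 6, 5, 6, 6, 6, 4, 11, 8, 10, 10, 5, 7, 7, 7, 4]) (.leaf 216 2 [6, 4, 6, 4, 6, 5, 5, 6, 4, 6, 5, 12, 8, 11, 8, 10, 9, 10, 9, 4, 4])))) (.node 1325 (.node 1323 (.node 1322 (.leaf 217 12 [6, 12, 14, 14, 8, 10, 8, 8, 10, 9, 11, 8, 4, 4, 6, 6, 4, 7, 4, 7, 4, 4, 6, 6]) (.leaf 217 8 [4, 4, 6, 6, 6, 12, 14, 14, 8, 10, 8, 8, 10, 9, 11, 8, 4, 4, 6, 6, 4, 7, 4, 7])) (.node 1324 (.leaf 225 7 [7, 7, 7, 4, 7, 7, 13, 12, 13, 8, 8, 10, 9, 10, 10, 9, 10, 5, 6, 6, 5, 5, 6, 4]) (.leaf 228 9 [5, 6, 5, 5, 12, 10, 10, 9, 10, 9, 11, 9, 4, 4, 7, 7, 7, 7, 4, 4, 6]))) (.node 1327 (.node 1326 (.leaf 229 7 [6, 6, 6, 5, 5, 7, 12, 13, 12, 8, 11, 8, 10, 10, 9, 10, 9, 10, 5, 6, 6, 6, 5, 5, 6]) (.leaf 230 4 [4, 4, 4, 7, 7, 4, 7, 5, 7, 12, 14, 8, 11, 9, 10, 9, 10, 10, 9, 7, 7, 7, 4])) (.node 1328 (.leaf 231 4 [4, 4, 6, 5, 7, 7, 7, 4, 7, 14, 11, 8, 10, 9, 10, 8, 11, 9, 11, 7, 7, 7, 4]) (.leaf 231 8 [7, 7, 7, 4, 7, 14, 11, 8, 10, 9, 10, 8, 11, 9, 11, 7, 7, 7, 4, 4, 4, 6, 5]))))))) (.node 1360 (.node 1344 (.node 1336 (.node 1332 (.node 1330 (.leaf 233 2 [4, 4, 4, 4, 4, 7, 7, 5, 6, 4, 7, 8, 8, 10, 10, 9, 10, 10, 6, 6]) (.node 1331 (.leaf 235 4 [5, 5, 6, 5, 5, 5, 6, 5, 5, 12, 10, 10, 9, 10, 9, 11, 9, 6, 5, 7, 5]) (.leaf 236 5 [6, 4, 7, 4, 6, 6, 5, 7, 13, 12, 9, 10, 9, 10, 10, 9, 7, 4, 6, 6, 5]))) (.node 1334 (.node 1333 (.leaf 246 7 [7, 7, 7, 5, 5, 7, 14, 12, 8, 10, 8, 10, 9, 10, 8, 11, 5, 6, 5, 7, 4, 7, 4]) (.leaf 248 10 [6, 6, 4, 12, 14, 12, 8, 10, 8, 11, 8, 4, 7, 5, 6, 4, 4, 4, 4, 6, 5])) (.node 1335 (.leaf 261 8 [4, 7, 4, 6, 5, 12, 8, 10, 8, 10, 9, 11, 8, 10, 6, 5, 5, 7, 7, 4, 6, 4]) (.leaf 262 11 [6, 5, 12, 13, 10, 8, 10, 9, 11, 9, 10, 7, 4, 4, 6, 4, 6, 6, 5, 7, 4, 6])))) (.node 1340 (.node 1338 (.node 1337 (.leaf 272 5 [6, 6, 6, 5, 7, 4, 7, 4, 13, 13, 10, 9, 11, 9, 11, 8, 10, 10, 4, 6, 6, 4, 4]) (.leaf 277 7 [5, 6, 6, 6, 6, 4, 12, 8, 8, 10, 10, 8, 10, 10, 8, 5, 5, 5, 6, 5, 5, 6])) (.node 1339 (.leaf 277 4 [5, 5, 6, 5, 6, 6, 6, 6, 4, 12, 8, 8, 10, 10, 8, 10, 10, 8, 5, 5, 5, 6]) (.leaf 280 7 [7, 4, 7, 4, 7, 4, 12, 13, 12, 13, 8, 8, 10, 9, 11, 8, 10, 8, 6, 4, 7, 7, 4, 7, 4]))) (.node 1342 (.node 1341 (.leaf 281 2 [5, 7, 4, 7, 4, 7, 4, 4, 7, 4, 7, 12, 14, 10, 8, 8, 10, 9, 6, 6]) (.leaf 282 3 [5, 5, 6, 6, 6, 5, 5, 6, 4, 4, 12, 14, 10, 8, 8, 10, 9, 11, 9, 5, 5, 5])) (.node 1343 (.leaf 282 11 [4, 4, 12, 14, 10, 8, 8, 10, 9, 11, 9, 5, 5, 5, 5, 5, 6, 6, 6, 5, 5, 6]) (.leaf 284 8 [6, 4, 6, 6, 6, 14, 14, 9, 10, 8, 11, 8, 8, 11, 6, 6, 4, 6, 6, 4, 6, 4]))))) (.node 1352 (.node 1348 (.node 1346 (.node 1345 (.leaf 287 0 [5, 6, 6, 6, 5, 6, 4, 7, 7, 4, 7, 7, 4, 13, 11, 8, 10, 9, 10, 9]) (.leaf 290 8 [6, 5, 5, 5, 6, 13, 9, 11, 9, 10, 8, 10, 6, 5, 6, 6, 5, 6, 6, 6])) (.node 1347 (.leaf 296 7 [4, 7, 5, 5, 5, 6, 14, 14, 8, 11, 8, 10, 10, 8, 11, 8, 11, 6, 4, 6, 4, 4, 4, 6]) (.leaf 302 8 [7, 5, 5, 7, 7, 13, 12, 8, 8, 10, 10, 9, 11, 8, 10, 6, 5, 6, 6, 4, 4, 6, 5]))) (.node 1350 (.node 1349 (.leaf 304 8 [7, 4, 7, 5, 5, 13, 10, 10, 8, 8, 11, 8, 10, 4, 4, 7, 4, 6, 5, 6, 5]) (.leaf 305 10 [4, 4, 7, 13, 9, 10, 8, 11, 8, 10, 10, 9, 6, 5, 5, 5, 6, 6, 4, 4, 4, 6])) (.node 1351 (.leaf 307 4 [4, 6, 4, 6, 4, 7, 7, 4, 4, 12, 13, 12, 13, 9, 11, 8, 10, 9, 10, 10, 8, 10, 6, 4, 4, 4]) (.leaf 309 12 [6, 13, 12, 9, 11, 8, 10, 9, 10, 10, 8, 10, 5, 6, 5, 6, 6, 4, 6, 4, 6, 5, 5, 5])))) (.node 1356 (.node 1354 (.node 1353 (.leaf 322 5 [4, 6, 5, 5, 6, 4, 4, 7, 14, 14, 10, 10, 9, 10, 10, 8, 8, 7, 7, 4, 6, 4]) (.leaf 324 1 [7, 4, 4, 6, 6, 6, 6, 4, 4, 7, 7, 7, 13, 12, 13, 10, 8, 10, 5])) (.node 1355 (.leaf 327 10 [5, 6, 5, 12, 8, 10, 8, 10, 10, 4, 7, 5, 5, 5, 7, 4, 6, 5, 6]) (.leaf 329 10 [7, 7, 5, 12, 14, 8, 10, 8, 10, 9, 11, 8, 10, 10, 6, 6, 4, 4, 7, 7, 4, 7, 4, 7]))) (.node 1358 (.node 1357 (.leaf 333 10 [5, 5, 5, 5, 12, 10, 10, 9, 11, 8, 10, 6, 4, 4, 4, 7, 7, 4, 7, 5, 5]) (.leaf 335 7 [4, 4, 6, 6, 5, 6, 4, 12, 13, 13, 10, 10, 8, 11, 8, 11, 9, 10, 8, 6, 4, 6, 4, 7, 5, 6])) (.node 1359 (.leaf 336 6 [4, 4, 4, 6, 5, 7, 5, 5, 13, 9, 10, 10, 9, 10, 8, 10, 10, 4, 4, 4, 4, 6, 6]) (.leaf 338 2 [5, 5, 5, 6, 4, 4, 6, 5, 7, 7, 4, 7, 13, 13, 9, 10, 8, 11, 8, 11, 5, 5])))))) (.node 1376 (.node 1368 (.node 1364 (.node 1362 (.node 1361 (.leaf 343 3 [4, 7, 5, 6, 6, 5, 7, 5, 7, 4, 4, 13, 12, 10, 9, 10, 8, 10, 10, 9, 11, 5, 5, 7]) (.leaf 347 5 [5, 6, 4, 4, 6, 4, 7, 7, 5, 14, 9, 10, 9, 10, 10, 8, 10, 4, 4, 7, 7, 7])) (.node 1363 (.leaf 349 4 [6, 6, 6, 6, 4, 7, 5, 7, 4, 4, 12, 13, 12, 13, 10, 9, 10, 8, 10, 10, 6, 4, 6, 4]) (.leaf 349 9 [7, 5, 7, 4, 4, 12, 13, 12, 13, 10, 9, 10, 8, 10, 10, 6, 4, 6, 4, 6, 6, 6, 6, 4]))) (.node 1366 (.node 1365 (.leaf 352 14 [13, 9, 10, 8, 8, 11, 9, 10, 7, 7, 4, 7, 5, 6, 4, 7, 7, 7, 4, 4, 6, 5]) (.leaf 353 15 [14, 14, 8, 10, 10, 8, 10, 10, 8, 11, 8, 11, 7, 7, 4, 7, 5, 6, 6, 6, 4, 7, 4, 6, 5, 5, 12])) (.node 1367 (.leaf 362 3 [6, 4, 7, 4, 7, 5, 5, 7, 5, 6, 4, 12, 13, 13, 10, 8, 10, 10, 9, 10, 8, 5, 7, 5]) (.leaf 363 4 [5, 7, 5, 6, 4, 7, 7, 7, 4, 4, 12, 14, 14, 10, 10, 9, 10, 10, 9, 10, 4, 7, 5, 6])))) (.node 1372 (.node 1370 (.node 1369 (.leaf 363 16 [14, 10, 10, 9, 10, 10, 9, 10, 4, 7, 5, 6, 5, 7, 5, 6, 4, 7, 7, 7, 4, 4, 12, 14]) (.leaf 364 1 [6, 5, 7, 7, 4, 4, 7, 7, 7, 5, 6, 4, 4, 14, 14, 8, 10, 10, 9, 10, 10, 8, 6])) (.node 1371 (.leaf 365 10 [5, 6, 5, 7, 12, 14, 14, 10, 8, 11, 9, 10, 8, 6, 6, 5, 7, 7, 4, 6, 6, 4, 7]) (.leaf 366 11 [4, 7, 4, 12, 13, 12, 8, 8, 10, 9, 10, 10, 8, 11, 4, 4, 6, 5, 6, 5, 6, 6, 4, 4, 4]))) (.node 1374 (.node 1373 (.leaf 369 2 [4, 6, 4, 4, 4, 7, 4, 7, 4, 7, 4, 4, 12, 14, 12, 9, 10, 9, 11, 8, 8, 10, 10, 5, 7]) (.leaf 371 4 [4, 4, 6, 5, 6, 6, 6, 4, 6, 4, 12, 8, 10, 10, 9, 10, 10, 8, 10, 5, 7, 7, 4])) (.node 1375 (.leaf 372 11 [5, 6, 5, 13, 12, 13, 9, 10, 8, 8, 10, 9, 10, 4, 7, 4, 4, 4, 7, 4, 6, 4, 7, 5]) (.leaf 374 2 [6, 6, 5, 6, 4, 4, 7, 5, 6, 4, 6, 4, 12, 8, 10, 9, 11, 9, 10, 10, 4, 4]))))) (.node 1384 (.node 1380 (.node 1378 (.node 1377 (.leaf 375 5 [6, 5, 6, 4, 6, 5, 7, 5, 6, 14, 14, 8, 10, 9, 11, 4, 7, 4, 4, 4]) (.leaf 376 3 [6, 5, 5, 7, 4, 7, 7, 4, 4, 6, 6, 12, 14, 14, 8, 10, 8, 10, 10, 8, 8, 10, 7, 4, 6])) (.node 1379 (.leaf 376 11 [4, 6, 6, 12, 14, 14, 8, 10, 8, 10, 10, 8, 8, 10, 7, 4, 6, 6, 5, 5, 7, 4, 7, 7, 4]) (.leaf 377 1 [7, 7, 5, 6, 5, 5, 6, 5, 5, 7, 5, 6, 6, 13, 12, 8, 10, 9, 11, 9, 10, 8, 10, 4]))) (.node 1382 (.node 1381 (.leaf 384 14 [13, 13, 9, 10, 9, 10, 10, 6, 4, 7, 4, 7, 7, 4, 6, 6, 4, 6, 5, 6, 6]) (.leaf 387 9 [6, 4, 7, 5, 5, 13, 8, 10, 8, 10, 10, 8, 8, 10, 5, 6, 5, 7, 5, 5, 6, 6, 6])) (.node 1383 (.leaf 387 3 [7, 5, 5, 6, 6, 6, 6, 4, 7, 5, 5, 13, 8, 10, 8, 10, 10, 8, 8, 10, 5, 6, 5]) (.leaf 389 5 [4, 6, 5, 7, 4, 4, 7, 5, 5, 12, 13, 13, 10, 10, 9, 10, 8, 11, 9, 6, 6, 4, 4, 6])))) (.node 1388 (.node 1386 (.node 1385 (.leaf 389 7 [5, 7, 4, 4, 7, 5, 5, 12, 13, 13, 10, 10, 9, 10, 8, 11, 9, 6, 6, 4, 4, 6, 4, 6]) (.leaf 391 10 [5, 7, 7, 4, 13, 8, 10, 9, 11, 8, 11, 9, 10, 9, 5, 7, 5, 7, 4, 7, 4, 7, 5, 7])) (.node 1387 (.leaf 392 6 [4, 6, 6, 6, 4, 4, 7, 7, 13, 13, 8, 10, 9, 10, 6, 4, 4, 4, 6, 6]) (.leaf 399 8 [6, 5, 5, 5, 5, 5, 12, 14, 12, 10, 9, 10, 9, 10, 10, 8, 11, 4, 4, 6, 6, 6, 4, 4, 4]))) (.node 1390 (.node 1389 (.leaf 401 24 [11, 6, 5, 5, 5, 5, 5, 6, 4, 6, 4, 4, 7, 4, 4, 13, 13, 10, 10, 9, 10, 9, 10, 10, 8]) (.leaf 401 3 [5, 5, 5, 6, 4, 6, 4, 4, 7, 4, 4, 13, 13, 10, 10, 9, 10, 9, 10, 10, 8, 11, 6, 5, 5])) (.node 1391 (.leaf 408 11 [7, 4, 4, 12, 14, 10, 9, 11, 8, 10, 9, 7, 7, 5, 5, 6, 6, 6, 5, 7, 4, 7]) (.leaf 409 11 [6, 6, 4, 13, 13, 8, 10, 9, 10, 9, 10, 8, 4, 4, 6, 4, 7, 7, 5, 6, 6, 5, 5])))))))) (.node 1455 (.node 1423 (.node 1407 (.node 1399 (.node 1395 (.node 1393 (.leaf 413 3 [7, 4, 6, 6, 4, 4, 6, 5, 6, 4, 4, 12, 13, 13, 10, 9, 10, 8, 8, 6, 5, 5]) (.node 1394 (.leaf 414 12 [5, 7, 8, 10, 10, 8, 10, 10, 8, 11, 8, 6, 6, 4, 4, 4, 6, 6, 5, 7, 7, 5, 5]) (.leaf 416 1 [7, 5, 7, 7, 4, 4, 6, 6, 6, 4, 4, 7, 4, 12, 14, 14, 8, 11, 8, 10, 9, 10, 10, 9, 7]))) (.node 1397 (.node 1396 (.leaf 417 8 [6, 5, 7, 4, 7, 7, 12, 14, 12, 10, 9, 11, 9, 11, 8, 10, 4, 4, 7, 5, 6, 4, 6, 4]) (.leaf 417 6 [6, 4, 6, 5, 7, 4, 7, 7, 12, 14, 12, 10, 9, 11, 9, 11, 8, 10, 4, 4, 7, 5, 6, 4])) (.node 1398 (.leaf 419 7 [6, 5, 5, 5, 5, 6, 5, 13, 12, 13, 8, 11, 8, 10, 9, 10, 4, 7, 7, 5, 5, 6, 4]) (.leaf 421 8 [4, 4, 7, 5, 5, 7, 14, 8, 8, 11, 9, 10, 8, 10, 5, 7, 7, 4, 7, 4, 7, 4])))) (.node 1403 (.node 1401 (.node 1400 (.leaf 424 10 [5, 6, 4, 4, 14, 8, 10, 9, 11, 9, 10, 10, 6, 6, 6, 5, 5, 6, 6, 5, 7, 5]) (.leaf 433 23 [10, 5, 6, 6, 6, 4, 4, 4, 4, 6, 5, 5, 5, 6, 5, 12, 13, 12, 10, 10, 8, 8, 11, 9])) (.node 1402 (.leaf 439 9 [6, 6, 4, 4, 4, 12, 13, 13, 8, 10, 8, 8, 10, 8, 10, 10, 7, 7, 4, 4, 7, 5, 6, 6, 6]) (.leaf 441 4 [5, 7, 7, 4, 6, 6, 4, 7, 7, 7, 13, 12, 13, 11, 8, 10, 9, 10, 8, 11, 5, 5, 6, 5]))) (.node 1405 (.node 1404 (.leaf 445 13 [5, 13, 12, 13, 8, 8, 10, 9, 11, 8, 10, 4, 7, 5, 7, 7, 4, 4, 7, 5, 6, 6, 6, 5]) (.leaf 447 8 [6, 5, 7, 5, 5, 6, 12, 14, 12, 10, 10, 8, 8, 10, 10, 8, 11, 6, 5, 6, 5, 5, 5, 7, 4])) (.node 1406 (.leaf 456 2 [5, 7, 4, 6, 4, 4, 4, 7, 7, 4, 4, 4, 12, 13, 13, 10, 9, 10, 8, 8, 10, 8, 4, 7]) (.leaf 457 4 [4, 6, 6, 6, 5, 7, 7, 5, 6, 4, 13, 8, 11, 8, 10, 9, 10, 8, 10, 5, 7, 4, 4]))))) (.node 1415 (.node 1411 (.node 1409 (.node 1408 (.leaf 458 5 [5, 6, 4, 4, 6, 6, 5, 6, 6, 12, 13, 8, 8, 10, 8, 11, 9, 10, 10, 6, 5, 6, 6, 6]) (.leaf 458 10 [6, 5, 6, 6, 12, 13, 8, 8, 10, 8, 11, 9, 10, 10, 6, 5, 6, 6, 6, 5, 6, 4, 4, 6])) (.node 1410 (.leaf 459 1 [6, 6, 4, 7, 7, 4, 4, 6, 5, 6, 6, 5, 7, 12, 13, 12, 13, 8, 11, 9, 10, 8, 11, 8, 11, 4]) (.leaf 467 4 [5, 7, 4, 4, 6, 6, 5, 5, 6, 4, 12, 13, 12, 8, 10, 10, 9, 10, 10, 8, 4, 4, 7, 5]))) (.node 1413 (.node 1412 (.leaf 470 10 [4, 4, 7, 4, 13, 12, 10, 8, 8, 10, 9, 11, 8, 8, 11, 7, 7, 4, 6, 5, 5, 6, 4, 6, 6]) (.leaf 472 3 [6, 6, 4, 4, 4, 6, 5, 7, 7, 4, 4, 13, 13, 9, 10, 9, 10, 10, 7, 7, 5])) (.node 1414 (.leaf 478 7 [4, 7, 5, 7, 7, 7, 5, 12, 10, 8, 8, 10, 10, 9, 10, 9, 10, 6, 4, 4, 4, 7, 4, 6]) (.leaf 478 4 [7, 4, 6, 4, 7, 5, 7, 7, 7, 5, 12, 10, 8, 8, 10, 10, 9, 10, 9, 10, 6, 4, 4, 4])))) (.node 1419 (.node 1417 (.node 1416 (.leaf 484 7 [7, 7, 5, 5, 5, 6, 4, 12, 9, 10, 8, 10, 10, 8, 10, 10, 7, 4, 6, 4, 6, 6, 4]) (.leaf 484 3 [4, 6, 6, 4, 7, 7, 5, 5, 5, 6, 4, 12, 9, 10, 8, 10, 10, 8, 10, 10, 7, 4, 6])) (.node 1418 (.leaf 484 13 [4, 12, 9, 10, 8, 10, 10, 8, 10, 10, 7, 4, 6, 4, 6, 6, 4, 7, 7, 5, 5, 5, 6]) (.leaf 484 10 [5, 5, 6, 4, 12, 9, 10, 8, 10, 10, 8, 10, 10, 7, 4, 6, 4, 6, 6, 4, 7, 7, 5]))) (.node 1421 (.node 1420 (.leaf 491 12 [5, 5, 14, 14, 8, 10, 8, 10, 10, 8, 10, 10, 4, 4, 6, 5, 5, 7, 4, 4, 7, 4, 6, 6]) (.leaf 24 7 [4, 12, 13, 13, 8, 11, 8, 11, 6, 6, 6, 6, 5, 7, 7])) (.node 1422 (.leaf 37 7 [4, 4, 6, 6, 12, 14, 10, 10, 8, 11, 8, 8, 11, 8, 6, 5, 5, 5, 7, 4, 6]) (.leaf 43 4 [6, 6, 5, 7, 4, 4, 4, 13, 12, 13, 11, 8, 10, 7, 7, 5, 6])))))) (.node 1439 (.node 1431 (.node 1427 (.node 1425 (.node 1424 (.leaf 46 8 [7, 7, 4, 13, 13, 8, 8, 10, 8, 10, 9, 11, 8, 5, 5, 7, 5, 5, 6, 6, 4]) (.leaf 48 4 [6, 6, 6, 4, 4, 4, 4, 13, 12, 10, 8, 8, 10, 9, 11, 8, 8, 10, 5, 7, 5, 6])) (.node 1426 (.leaf 50 14 [9, 10, 8, 11, 9, 11, 5, 6, 6, 5, 7, 4, 7, 7, 4, 7, 4, 12, 8, 11]) (.leaf 63 3 [4, 4, 6, 5, 6, 6, 4, 4, 13, 12, 13, 10, 10, 8, 11, 9, 10, 9, 11, 7, 7, 4]))) (.node 1429 (.node 1428 (.leaf 67 11 [14, 14, 10, 8, 8, 10, 9, 11, 9, 4, 7, 5, 7, 5, 6, 5, 7, 4, 4, 7]) (.leaf 68 6 [6, 5, 5, 6, 4, 14, 9, 10, 8, 8, 11, 8, 6, 4, 7, 4, 7, 4])) (.node 1430 (.leaf 80 8 [6, 5, 5, 5, 12, 13, 12, 13, 8, 10, 10, 8, 10, 9, 11, 8, 11, 6, 5, 5, 5, 5, 6, 6, 6]) (.leaf 82 4 [6, 6, 5, 7, 7, 5, 5, 5, 12, 14, 12, 10, 10, 9, 10, 8, 11, 7, 4, 4, 4])))) (.node 1435 (.node 1433 (.node 1432 (.leaf 100 4 [4, 4, 6, 5, 5, 6, 6, 5, 12, 8, 11, 8, 4, 7, 7, 4]) (.leaf 103 5 [4, 6, 5, 6, 4, 6, 5, 10, 10, 8, 11, 8, 11, 4, 7, 4, 6, 6])) (.node 1434 (.leaf 127 5 [6, 4, 6, 5, 7, 7, 7, 12, 14, 14, 8, 11, 9, 10, 9, 10, 9, 11, 9, 4, 7, 5, 5, 5]) (.leaf 132 2 [7, 4, 6, 6, 4, 4, 6, 6, 5, 5, 13, 13, 8, 11, 9, 10, 8, 8, 10, 4, 4]))) (.node 1437 (.node 1436 (.leaf 137 2 [6, 4, 6, 6, 4, 4, 7, 5, 5, 7, 14, 14, 8, 8, 10, 8, 8, 11, 6, 5]) (.leaf 139 4 [4, 6, 6, 4, 7, 4, 6, 6, 14, 9, 11, 8, 10, 9, 10, 10, 8, 11, 5, 5, 5, 6])) (.node 1438 (.leaf 156 7 [6, 6, 5, 7, 5, 7, 12, 14, 14, 9, 10, 9, 11, 8, 11, 8, 10, 6, 6, 5, 5, 7, 5, 6]) (.leaf 157 10 [4, 6, 4, 12, 14, 9, 11, 8, 10, 10, 8, 11, 8, 7, 7, 5, 6, 5, 6, 6, 4, 4, 7]))))) (.node 1447 (.node 1443 (.node 1441 (.node 1440 (.leaf 158 1 [5, 7, 4, 7, 7, 4, 6, 4, 4, 4, 4, 4, 13, 12, 13, 9, 11, 8, 10, 9, 5]) (.leaf 164 16 [8, 11, 8, 10, 8, 8, 11, 6, 4, 4, 4, 6, 4, 6, 5, 7, 7, 4, 4, 4, 14, 12, 11])) (.node 1442 (.leaf 167 1 [4, 4, 6, 5, 6, 6, 6, 5, 7, 5, 5, 5, 14, 12, 10, 10, 9, 11, 8, 10, 4]) (.leaf 171 9 [6, 5, 5, 5, 14, 14, 8, 10, 9, 11, 8, 8, 10, 6, 5, 5, 5, 7, 7, 4, 4, 6]))) (.node 1445 (.node 1444 (.leaf 174 9 [7, 4, 4, 7, 14, 8, 8, 11, 9, 10, 9, 10, 10, 4, 4, 4, 6, 6, 4, 4, 7, 4]) (.leaf 176 3 [4, 6, 5, 6, 4, 4, 6, 5, 6, 4, 13, 13, 8, 10, 10, 8, 10, 10, 8, 11, 6, 6, 6])) (.node 1446 (.leaf 187 7 [5, 7, 5, 6, 4, 4, 10, 8, 8, 10, 10, 9, 11, 8, 6, 4, 7, 4, 6, 4, 6]) (.leaf 202 0 [4, 4, 4, 6, 4, 6, 6, 5, 7, 5, 5, 5, 5, 13, 12, 13, 8, 10, 10, 8, 11, 8, 10, 9])))) (.node 1451 (.node 1449 (.node 1448 (.leaf 213 9 [6, 4, 6, 4, 14, 8, 8, 11, 8, 11, 8, 10, 10, 5, 5, 5, 6, 5, 6, 4, 7, 4]) (.leaf 215 7 [6, 5, 6, 6, 6, 4, 11, 8, 10, 10, 5, 7, 7, 7, 4, 6, 6])) (.node 1450 (.leaf 226 3 [5, 5, 6, 6, 5, 5, 7, 5, 5, 6, 14, 14, 8, 11, 9, 11, 8, 10, 10, 5, 6, 6]) (.leaf 231 13 [14, 11, 8, 10, 9, 10, 8, 11, 9, 11, 7, 7, 7, 4, 4, 4, 6, 5, 7, 7, 7, 4, 7]))) (.node 1453 (.node 1452 (.leaf 240 5 [5, 6, 5, 7, 7, 5, 7, 7, 13, 13, 8, 8, 11, 9, 4, 7, 4, 4, 7]) (.leaf 243 5 [6, 6, 5, 6, 4, 6, 5, 7, 12, 14, 8, 11, 9, 10, 8, 8, 11, 5, 6, 6, 6, 4])) (.node 1454 (.leaf 246 4 [4, 7, 4, 7, 7, 7, 5, 5, 7, 14, 12, 8, 10, 8, 10, 9, 10, 8, 11, 5, 6, 5, 7]) (.leaf 249 1 [4, 6, 5, 7, 4, 4, 6, 6, 4, 6, 5, 7, 14, 14, 9, 11, 8, 11, 8, 11, 9, 6]))))))) (.node 1487 (.node 1471 (.node 1463 (.node 1459 (.node 1457 (.node 1456 (.leaf 252 3 [4, 7, 4, 6, 6, 6, 6, 6, 4, 4, 12, 14, 14, 8, 10, 10, 8, 11, 8, 8, 5, 5, 7]) (.leaf 266 3 [4, 6, 5, 6, 5, 6, 6, 4, 7, 7, 12, 13, 12, 13, 8, 11, 8, 8, 11, 9, 11, 5, 5, 7])) (.node 1458 (.leaf 267 4 [5, 7, 4, 4, 6, 6, 6, 6, 4, 13, 12, 13, 9, 10, 10, 8, 10, 9, 11, 4, 7, 7, 7]) (.leaf 278 9 [4, 4, 7, 7, 12, 13, 12, 13, 8, 10, 9, 11, 9, 10, 8, 10, 4, 4, 6, 4, 4, 4, 4, 4, 7]))) (.node 1461 (.node 1460 (.leaf 283 7 [6, 6, 4, 7, 4, 4, 10, 10, 8, 11, 8, 4, 7, 4, 4, 7, 4, 4]) (.leaf 297 10 [5, 5, 7, 14, 10, 8, 11, 8, 10, 9, 10, 6, 6, 4, 7, 5, 6, 6, 4, 7, 5])) (.node 1462 (.leaf 298 11 [4, 4, 12, 14, 14, 9, 11, 8, 10, 9, 10, 5, 7, 4, 6, 6, 4, 4, 7, 5, 6, 4]) (.leaf 301 8 [7, 5, 5, 6, 4, 11, 8, 11, 6, 5, 6, 6, 4, 4, 4, 7])))) (.node 1467 (.node 1465 (.node 1464 (.leaf 301 11 [6, 4, 11, 8, 11, 6, 5, 6, 6, 4, 4, 4, 7, 7, 5, 5]) (.leaf 303 8 [7, 7, 5, 6, 6, 12, 13, 12, 8, 8, 10, 9, 10, 10, 8, 11, 9, 6, 4, 4, 7, 5, 5, 6, 4])) (.node 1466 (.leaf 311 2 [6, 4, 6, 4, 4, 7, 7, 5, 5, 5, 7, 12, 13, 13, 8, 11, 5, 5]) (.leaf 316 4 [6, 6, 6, 4, 6, 6, 4, 4, 7, 8, 11, 9, 10, 9, 10, 10, 9, 5, 7, 7, 5]))) (.node 1469 (.node 1468 (.leaf 335 9 [6, 6, 5, 6, 4, 12, 13, 13, 10, 10, 8, 11, 8, 11, 9, 10, 8, 6, 4, 6, 4, 7, 5, 6, 4, 4]) (.leaf 351 9 [7, 5, 6, 4, 4, 12, 13, 12, 13, 8, 10, 8, 11, 8, 11, 8, 8, 4, 4, 6, 4, 4, 7, 7, 4, 4])) (.node 1470 (.leaf 351 8 [4, 7, 5, 6, 4, 4, 12, 13, 12, 13, 8, 10, 8, 11, 8, 11, 8, 8, 4, 4, 6, 4, 4, 7, 7, 4]) (.leaf 354 5 [7, 4, 4, 6, 4, 6, 4, 4, 4, 12, 14, 11, 8, 10, 9, 10, 8, 5, 7, 7, 7, 4]))))) (.node 1479 (.node 1475 (.node 1473 (.node 1472 (.leaf 356 13 [4, 12, 13, 13, 8, 8, 10, 9, 10, 8, 11, 8, 7, 4, 4, 6, 4, 7, 4, 4, 4, 4, 6, 5, 6]) (.leaf 401 17 [10, 9, 10, 9, 10, 10, 8, 11, 6, 5, 5, 5, 5, 5, 6, 4, 6, 4, 4, 7, 4, 4, 13, 13, 10])) (.node 1474 (.leaf 408 1 [7, 5, 5, 6, 6, 6, 5, 7, 4, 7, 7, 4, 4, 12, 14, 10, 9, 11, 8, 10, 9, 7]) (.leaf 411 3 [5, 7, 5, 6, 5, 6, 6, 6, 5, 5, 5, 9, 11, 9, 11, 8, 11, 8, 11, 5, 6, 5]))) (.node 1477 (.node 1476 (.leaf 416 5 [4, 4, 6, 6, 6, 4, 4, 7, 4, 12, 14, 14, 8, 11, 8, 10, 9, 10, 10, 9, 7, 7, 5, 7, 7]) (.leaf 417 12 [7, 7, 12, 14, 12, 10, 9, 11, 9, 11, 8, 10, 4, 4, 7, 5, 6, 4, 6, 4, 6, 5, 7, 4])) (.node 1478 (.leaf 418 9 [7, 7, 4, 6, 6, 13, 11, 8, 10, 10, 9, 4, 4, 7, 5, 6, 4, 6, 6, 4]) (.leaf 422 9 [4, 6, 6, 5, 7, 13, 12, 13, 9, 11, 8, 10, 10, 8, 11, 8, 5, 5, 6, 4, 4, 4, 4, 6, 6])))) (.node 1483 (.node 1481 (.node 1480 (.leaf 440 4 [5, 5, 7, 4, 6, 4, 6, 4, 7, 4, 12, 14, 9, 10, 9, 11, 5, 5, 5, 7]) (.leaf 446 15 [13, 9, 11, 9, 11, 8, 11, 8, 4, 7, 5, 7, 7, 4, 6, 4, 7, 5, 5, 6, 5, 5, 12])) (.node 1482 (.leaf 449 4 [6, 6, 5, 6, 6, 5, 6, 5, 7, 7, 13, 12, 13, 9, 11, 8, 4, 4, 4, 4]) (.leaf 453 1 [5, 5, 6, 5, 6, 5, 6, 5, 6, 4, 7, 4, 4, 13, 11, 8, 10, 8, 5]))) (.node 1485 (.node 1484 (.leaf 470 4 [5, 5, 6, 4, 6, 6, 4, 4, 7, 4, 13, 12, 10, 8, 8, 10, 9, 11, 8, 8, 11, 7, 7, 4, 6]) (.leaf 477 5 [4, 4, 6, 5, 6, 6, 4, 4, 7, 12, 13, 13, 11, 8, 4, 6, 6, 6, 4])) (.node 1486 (.leaf 482 6 [7, 4, 6, 5, 6, 6, 6, 5, 12, 13, 12, 11, 8, 11, 8, 11, 4, 7, 4, 6, 4, 7]) (.leaf 483 10 [4, 7, 5, 5, 13, 12, 13, 8, 10, 10, 9, 11, 8, 11, 9, 5, 5, 7, 5, 5, 7, 4, 4, 6, 4])))))) (.node 1503 (.node 1495 (.node 1491 (.node 1489 (.node 1488 (.leaf 485 8 [7, 7, 7, 7, 5, 5, 12, 13, 12, 13, 8, 10, 10, 8, 10, 9, 11, 8, 5, 6, 5, 7, 4, 6, 6, 5]) (.leaf 16 20 [4, 6, 5, 7, 4, 6, 5, 7, 4, 6, 5, 7, 4, 6, 5, 7, 4, 6, 5, 7, 4, 6, 5, 7, 4, 6, 5, 7, 4, 6, 5, 7])) (.node 1490 (.leaf 58 7 [6, 5, 6, 6, 13, 12, 13, 10, 8, 8, 10, 8, 10, 9, 11, 8, 7, 7, 4, 6, 4, 6, 6]) (.leaf 105 7 [7, 5, 7, 7, 4, 14, 8, 10, 9, 10, 10, 9, 10, 9, 11, 7, 4, 4, 7, 5, 6, 4]))) (.node 1493 (.node 1492 (.leaf 289 18 [8, 10, 9, 11, 9, 11, 7, 4, 6, 5, 6, 5, 6, 6, 6, 5, 6, 5, 7, 13, 12, 13, 8, 10]) (.leaf 296 2 [6, 4, 4, 4, 6, 4, 7, 5, 5, 5, 6, 14, 14, 8, 11, 8, 10, 10, 8, 11, 8, 11, 6, 4])) (.node 1494 (.leaf 319 9 [4, 6, 4, 4, 12, 13, 13, 11, 8, 10, 9, 10, 8, 4, 4, 4, 7, 7, 4, 4, 6, 6]) (.leaf 322 14 [14, 10, 10, 9, 10, 10, 8, 8, 7, 7, 4, 6, 4, 4, 6, 5, 5, 6, 4, 4, 7, 14])))) (.node 1499 (.node 1497 (.node 1496 (.leaf 408 0 [7, 7, 5, 5, 6, 6, 6, 5, 7, 4, 7, 7, 4, 4, 12, 14, 10, 9, 11, 8, 10, 9]) (.leaf 418 8 [4, 7, 7, 4, 6, 6, 13, 11, 8, 10, 10, 9, 4, 4, 7, 5, 6, 4, 6, 6])) (.node 1498 (.leaf 146 13 [12, 8, 11, 8, 10, 8, 8, 6, 4, 7, 4, 6, 6, 6, 4, 7, 4, 7, 4, 14]) (.leaf 163 2 [5, 6, 4, 7, 4, 7, 5, 7, 7, 4, 4, 12, 14, 11, 8, 10, 9, 10, 8, 11, 9, 6, 6]))) (.node 1501 (.node 1500 (.leaf 329 0 [6, 6, 4, 4, 7, 7, 4, 7, 4, 7, 7, 7, 5, 12, 14, 8, 10, 8, 10, 9, 11, 8, 10, 10]) (.leaf 362 2 [5, 6, 4, 7, 4, 7, 5, 5, 7, 5, 6, 4, 12, 13, 13, 10, 8, 10, 10, 9, 10, 8, 5, 7])) (.node 1502 (.leaf 407 3 [6, 5, 6, 4, 7, 5, 7, 4, 6, 5, 5, 12, 13, 12, 13, 9, 10, 8, 8, 11, 9, 6, 4, 4]) (.leaf 464 14 [12, 13, 13, 8, 8, 11, 9, 6, 4, 7, 4, 6, 5, 6, 6, 5, 7, 7, 4, 6, 6]))))) (.node 1511 (.node 1507 (.node 1505 (.node 1504 (.leaf 25 0 [4, 4, 7, 7, 4, 6, 5, 6, 5, 13, 12, 13, 8, 10, 8, 10, 9, 11, 8, 11]) (.leaf 31 2 [7, 7, 7, 4, 6, 6, 6, 6, 12, 10, 8, 8, 11, 4, 7])) (.node 1506 (.leaf 32 8 [6, 6, 13, 11, 8, 11, 8, 10, 6, 6, 6, 4, 4, 6, 6, 6]) (.leaf 36 10 [13, 12, 9, 11, 9, 10, 8, 10, 5, 6, 5, 5, 6, 4, 4, 4, 7, 7]))) (.node 1509 (.node 1508 (.leaf 38 8 [7, 7, 5, 12, 14, 14, 10, 9, 11, 9, 11, 8, 10, 4, 4, 6, 5, 6, 6, 6, 4]) (.leaf 40 7 [4, 4, 6, 4, 13, 10, 8, 10, 9, 11, 8, 10, 8, 6, 5, 5, 7, 5, 6, 6])) (.node 1510 (.leaf 42 3 [7, 5, 6, 6, 5, 7, 7, 7, 12, 14, 10, 8, 8, 10, 8, 10, 9, 11, 8, 6, 4, 4]) (.leaf 44 8 [6, 4, 4, 14, 14, 8, 8, 10, 10, 8, 10, 10, 6, 6, 5, 6, 6, 4, 6, 4])))) (.node 1515 (.node 1513 (.node 1512 (.leaf 45 1 [4, 7, 7, 7, 4, 7, 7, 5, 6, 5, 12, 14, 12, 10, 9, 10, 8, 10, 10, 6]) (.leaf 53 4 [6, 4, 7, 4, 4, 4, 7, 13, 13, 10, 10, 8, 8, 11, 8, 4, 6, 6, 5])) (.node 1514 (.leaf 55 10 [4, 12, 13, 12, 9, 10, 10, 9, 10, 10, 5, 7, 7, 4, 6, 4, 7, 7, 7, 7]) (.leaf 62 7 [4, 6, 5, 7, 14, 12, 10, 10, 5, 6, 5, 5, 7, 4, 6]))) (.node 1517 (.node 1516 (.leaf 63 11 [13, 12, 13, 10, 10, 8, 11, 9, 10, 9, 11, 7, 7, 4, 4, 4, 6, 5, 6, 6, 4, 4]) (.leaf 64 9 [7, 4, 14, 12, 8, 10, 9, 10, 9, 10, 9, 6, 4, 4, 6, 4, 4, 4, 7, 4])) (.node 1518 (.leaf 69 9 [4, 4, 14, 10, 9, 10, 9, 11, 9, 10, 8, 6, 5, 5, 6, 4, 4, 7, 4, 4]) (.leaf 72 3 [7, 5, 6, 6, 6, 5, 7, 5, 6, 12, 13, 8, 8, 10, 9, 10, 9, 11, 9, 4, 4, 4])))))))))) (.node 1772 (.node 1645 (.node 1582 (.node 1550 (.node 1534 (.node 1526 (.node 1522 (.node 1520 (.leaf 72 9 [7, 5, 6, 12, 13, 8, 8, 10, 9, 10, 9, 11, 9, 4, 4, 4, 7, 5, 6, 6, 6, 5]) (.node 1521 (.leaf 75 7 [6, 4, 7, 5, 6, 12, 14, 14, 10, 10, 8, 8, 10, 5, 6, 6, 6, 4, 7, 4]) (.leaf 76 2 [6, 5, 6, 4, 6, 4, 4, 7, 5, 7, 12, 13, 12, 10, 8, 11, 9, 10, 9, 10, 5, 5]))) (.node 1524 (.node 1523 (.leaf 76 12 [12, 13, 12, 10, 8, 11, 9, 10, 9, 10, 5, 5, 6, 5, 6, 4, 6, 4, 4, 7, 5, 7]) (.leaf 79 12 [14, 12, 10, 8, 8, 10, 8, 10, 9, 11, 6, 6, 4, 7, 4, 6, 4, 7, 7, 5, 5, 6])) (.node 1525 (.leaf 80 4 [5, 6, 6, 6, 6, 5, 5, 5, 12, 13, 12, 13, 8, 10, 10, 8, 10, 9, 11, 8, 11, 6, 5, 5, 5]) (.leaf 81 6 [6, 4, 7, 4, 7, 4, 8, 10, 9, 11, 8, 8, 10, 8, 5, 6, 6, 4, 4, 4])))) (.node 1530 (.node 1528 (.node 1527 (.leaf 82 2 [4, 4, 6, 6, 5, 7, 7, 5, 5, 5, 12, 14, 12, 10, 10, 9, 10, 8, 11, 7, 4]) (.leaf 84 5 [4, 6, 5, 7, 5, 6, 6, 13, 12, 10, 9, 10, 8, 8, 11, 6, 6, 6, 5, 6])) (.node 1529 (.leaf 85 2 [6, 4, 4, 6, 4, 6, 6, 5, 6, 4, 12, 14, 9, 10, 10, 9, 10, 8, 6, 5]) (.leaf 85 3 [4, 4, 6, 4, 6, 6, 5, 6, 4, 12, 14, 9, 10, 10, 9, 10, 8, 6, 5, 6]))) (.node 1532 (.node 1531 (.leaf 88 13 [12, 8, 8, 11, 8, 10, 10, 9, 7, 7, 7, 4, 6, 6, 4, 4, 4, 6, 5, 5, 14]) (.leaf 89 13 [13, 8, 10, 8, 10, 9, 10, 8, 7, 7, 7, 7, 4, 4, 7, 4, 4, 4, 7, 4, 12])) (.node 1533 (.leaf 94 8 [6, 4, 6, 5, 13, 12, 10, 9, 11, 9, 11, 8, 10, 10, 6, 4, 6, 4, 7, 4, 7, 5]) (.leaf 102 11 [5, 12, 13, 13, 10, 8, 11, 8, 10, 10, 8, 11, 7, 7, 7, 5, 6, 4, 4, 4, 4, 4, 6]))))) (.node 1542 (.node 1538 (.node 1536 (.node 1535 (.leaf 103 7 [5, 6, 4, 6, 5, 10, 10, 8, 11, 8, 11, 4, 7, 4, 6, 6, 4, 6]) (.leaf 104 7 [4, 7, 5, 5, 5, 12, 13, 12, 10, 8, 10, 9, 11, 8, 10, 8, 5, 5, 7, 7, 4, 6, 6])) (.node 1537 (.leaf 111 9 [7, 5, 7, 12, 8, 11, 9, 10, 10, 9, 11, 9, 5, 6, 5, 7, 7, 4, 4, 7, 5]) (.leaf 113 4 [7, 4, 4, 7, 4, 7, 4, 7, 12, 13, 10, 8, 8, 10, 9, 6, 4, 4, 4]))) (.node 1540 (.node 1539 (.leaf 115 9 [6, 5, 7, 13, 12, 13, 10, 9, 10, 8, 10, 10, 9, 10, 4, 6, 6, 5, 7, 4, 4, 6, 6]) (.leaf 116 1 [7, 4, 7, 7, 4, 6, 4, 7, 5, 5, 6, 13, 13, 9, 10, 10, 9, 10, 8, 10, 5])) (.node 1541 (.leaf 123 6 [4, 7, 7, 7, 5, 5, 13, 12, 13, 10, 8, 8, 10, 10, 9, 11, 8, 10, 7, 4, 4, 4, 7, 4]) (.leaf 130 7 [5, 5, 6, 5, 7, 13, 9, 10, 10, 8, 10, 9, 10, 9, 4, 4, 7, 5, 7, 4, 6])))) (.node 1546 (.node 1544 (.node 1543 (.leaf 131 4 [4, 6, 4, 6, 6, 6, 6, 5, 12, 10, 8, 8, 10, 8, 10, 10, 7, 7, 7, 4]) (.leaf 131 3 [4, 4, 6, 4, 6, 6, 6, 6, 5, 12, 10, 8, 8, 10, 8, 10, 10, 7, 7, 7])) (.node 1545 (.leaf 132 5 [6, 4, 4, 6, 6, 5, 5, 13, 13, 8, 11, 9, 10, 8, 8, 10, 4, 4, 7, 4, 6]) (.leaf 135 7 [7, 5, 6, 4, 4, 13, 12, 13, 9, 11, 8, 10, 10, 8, 10, 6, 6, 5, 7, 4, 6, 4]))) (.node 1548 (.node 1547 (.leaf 136 5 [4, 4, 7, 5, 6, 4, 7, 12, 10, 10, 9, 10, 9, 10, 9, 5, 7, 7, 4, 7]) (.leaf 137 3 [4, 6, 6, 4, 4, 7, 5, 5, 7, 14, 14, 8, 8, 10, 8, 8, 11, 6, 5, 6])) (.node 1549 (.leaf 143 3 [6, 4, 4, 6, 6, 5, 6, 5, 5, 12, 13, 13, 11, 8, 10, 10, 9, 11, 8, 11, 8, 4, 7, 4]) (.leaf 145 3 [4, 4, 4, 6, 5, 7, 7, 7, 5, 13, 13, 8, 11, 8, 10, 10, 9, 10, 10, 6, 4, 4])))))) (.node 1566 (.node 1558 (.node 1554 (.node 1552 (.node 1551 (.leaf 146 3 [4, 6, 6, 6, 4, 7, 4, 7, 4, 14, 12, 8, 11, 8, 10, 8, 8, 6, 4, 7]) (.leaf 148 7 [4, 6, 4, 4, 4, 14, 8, 10, 10, 8, 10, 9, 11, 9, 5, 7, 7, 4, 4, 6, 6])) (.node 1553 (.leaf 148 8 [6, 4, 4, 4, 14, 8, 10, 10, 8, 10, 9, 11, 9, 5, 7, 7, 4, 4, 6, 6, 4]) (.leaf 151 5 [6, 4, 7, 5, 5, 6, 6, 12, 14, 12, 10, 8, 11, 9, 10, 8, 8, 11, 4, 4, 7, 5, 5]))) (.node 1556 (.node 1555 (.leaf 152 4 [6, 6, 4, 7, 7, 7, 5, 5, 12, 14, 14, 10, 10, 8, 8, 11, 8, 10, 8, 4, 4, 7, 5]) (.leaf 154 13 [14, 12, 9, 10, 8, 11, 8, 10, 9, 10, 7, 7, 5, 7, 4, 4, 6, 4, 7, 4, 6, 6, 5])) (.node 1557 (.leaf 161 5 [6, 4, 6, 4, 7, 7, 5, 7, 12, 14, 10, 8, 8, 10, 10, 9, 6, 4, 6, 4, 6]) (.leaf 166 8 [6, 5, 7, 7, 5, 13, 13, 10, 8, 8, 10, 9, 5, 5, 7, 5, 5, 5, 6, 6])))) (.node 1562 (.node 1560 (.node 1559 (.leaf 170 4 [5, 7, 4, 7, 5, 7, 5, 6, 4, 8, 10, 10, 8, 10, 9, 10, 9, 4, 7, 4, 6]) (.leaf 172 9 [5, 6, 6, 4, 12, 8, 8, 10, 8, 10, 4, 4, 7, 5, 6, 4, 4, 6, 6])) (.node 1561 (.leaf 174 11 [4, 7, 14, 8, 8, 11, 9, 10, 9, 10, 10, 4, 4, 4, 6, 6, 4, 4, 7, 4, 7, 4]) (.leaf 175 2 [4, 7, 4, 6, 6, 6, 4, 4, 6, 6, 5, 12, 13, 10, 9, 11, 8, 10, 8, 8, 6, 6]))) (.node 1564 (.node 1563 (.leaf 177 2 [6, 5, 6, 6, 4, 6, 6, 6, 4, 6, 4, 13, 12, 8, 10, 8, 10, 9, 10, 4, 6]) (.leaf 179 4 [5, 6, 6, 4, 7, 4, 6, 6, 4, 12, 13, 12, 13, 8, 8, 10, 9, 10, 9, 10, 7, 4, 6, 5])) (.node 1565 (.leaf 179 10 [6, 6, 4, 12, 13, 12, 13, 8, 8, 10, 9, 10, 9, 10, 7, 4, 6, 5, 5, 6, 6, 4, 7, 4]) (.leaf 186 2 [7, 4, 4, 4, 4, 7, 4, 6, 6, 4, 7, 12, 14, 14, 8, 8, 11, 9, 10, 9, 6, 5]))))) (.node 1574 (.node 1570 (.node 1568 (.node 1567 (.leaf 189 3 [4, 6, 4, 4, 6, 4, 4, 7, 4, 7, 12, 14, 12, 10, 10, 8, 10, 6, 5, 6]) (.leaf 189 13 [12, 14, 12, 10, 10, 8, 10, 6, 5, 6, 4, 6, 4, 4, 6, 4, 4, 7, 4, 7])) (.node 1569 (.leaf 193 9 [4, 4, 6, 5, 14, 12, 9, 11, 8, 11, 8, 11, 9, 10, 5, 5, 6, 6, 6, 4, 4, 7, 4]) (.leaf 196 7 [5, 7, 4, 6, 4, 4, 13, 8, 11, 8, 10, 8, 8, 10, 10, 5, 5, 7, 7, 5, 5, 6]))) (.node 1572 (.node 1571 (.leaf 201 9 [5, 5, 6, 6, 12, 13, 9, 10, 9, 11, 8, 10, 5, 5, 6, 5, 5, 6, 4, 6, 6]) (.leaf 202 5 [6, 6, 5, 7, 5, 5, 5, 5, 13, 12, 13, 8, 10, 10, 8, 11, 8, 10, 9, 4, 4, 4, 6, 4])) (.node 1573 (.leaf 204 7 [6, 5, 6, 6, 4, 7, 14, 10, 8, 8, 10, 9, 11, 9, 5, 6, 5, 7, 7, 7, 4]) (.leaf 208 7 [7, 4, 7, 7, 5, 5, 12, 14, 8, 8, 10, 9, 10, 9, 10, 8, 6, 4, 4, 6, 4, 7, 4])))) (.node 1578 (.node 1576 (.node 1575 (.leaf 213 7 [7, 4, 6, 4, 6, 4, 14, 8, 8, 11, 8, 11, 8, 10, 10, 5, 5, 5, 6, 5, 6, 4]) (.leaf 217 2 [6, 6, 4, 7, 4, 7, 4, 4, 6, 6, 6, 12, 14, 14, 8, 10, 8, 8, 10, 9, 11, 8, 4, 4])) (.node 1577 (.leaf 218 11 [4, 4, 12, 14, 12, 9, 11, 8, 10, 9, 10, 10, 9, 11, 4, 7, 5, 6, 6, 4, 4, 4, 6, 6, 6]) (.leaf 227 5 [4, 4, 7, 5, 5, 5, 6, 4, 12, 14, 12, 8, 8, 10, 10, 6, 4, 7, 5, 6]))) (.node 1580 (.node 1579 (.leaf 230 8 [7, 4, 7, 5, 7, 12, 14, 8, 11, 9, 10, 9, 10, 10, 9, 7, 7, 7, 4, 4, 4, 4, 7]) (.leaf 234 9 [4, 7, 7, 7, 14, 8, 10, 9, 10, 10, 8, 7, 7, 4, 6, 6, 6, 6, 5, 6])) (.node 1581 (.leaf 242 8 [4, 4, 7, 5, 5, 13, 9, 10, 9, 11, 9, 10, 6, 5, 7, 5, 7, 7, 4, 7]) (.leaf 250 7 [4, 6, 4, 4, 7, 4, 13, 12, 13, 10, 10, 9, 10, 10, 9, 6, 4, 6, 5, 7, 4, 6]))))))) (.node 1613 (.node 1597 (.node 1589 (.node 1585 (.node 1583 (.leaf 252 4 [7, 4, 6, 6, 6, 6, 6, 4, 4, 12, 14, 14, 8, 10, 10, 8, 11, 8, 8, 5, 5, 7, 4]) (.node 1584 (.leaf 253 5 [6, 6, 4, 4, 7, 4, 4, 4, 14, 14, 8, 8, 10, 8, 10, 9, 11, 5, 7, 5, 7, 5]) (.leaf 253 9 [7, 4, 4, 4, 14, 14, 8, 8, 10, 8, 10, 9, 11, 5, 7, 5, 7, 5, 6, 6, 4, 4]))) (.node 1587 (.node 1586 (.leaf 257 9 [4, 7, 5, 5, 12, 13, 8, 8, 10, 9, 10, 10, 5, 7, 4, 6, 6, 6, 4, 4, 7]) (.leaf 258 7 [6, 6, 6, 5, 6, 4, 13, 13, 8, 8, 10, 9, 10, 10, 6, 6, 4, 7, 4, 4, 4])) (.node 1588 (.leaf 259 0 [4, 6, 6, 4, 7, 4, 6, 4, 6, 6, 5, 5, 5, 12, 10, 9, 10, 8, 10, 10, 9]) (.leaf 259 7 [4, 6, 6, 5, 5, 5, 12, 10, 9, 10, 8, 10, 10, 9, 4, 6, 6, 4, 7, 4, 6])))) (.node 1593 (.node 1591 (.node 1590 (.leaf 267 7 [4, 6, 6, 6, 6, 4, 13, 12, 13, 9, 10, 10, 8, 10, 9, 11, 4, 7, 7, 7, 5, 7, 4]) (.leaf 270 3 [5, 5, 6, 6, 6, 5, 5, 5, 5, 6, 13, 13, 8, 10, 8, 8, 10, 8, 8, 4, 6, 6])) (.node 1592 (.leaf 270 7 [6, 5, 5, 5, 5, 6, 13, 13, 8, 10, 8, 8, 10, 8, 8, 4, 6, 6, 5, 5, 6, 6]) (.leaf 277 9 [6, 6, 6, 4, 12, 8, 8, 10, 10, 8, 10, 10, 8, 5, 5, 5, 6, 5, 5, 6, 5, 6]))) (.node 1595 (.node 1594 (.leaf 277 10 [6, 6, 4, 12, 8, 8, 10, 10, 8, 10, 10, 8, 5, 5, 5, 6, 5, 5, 6, 5, 6, 6]) (.leaf 278 8 [7, 4, 4, 7, 7, 12, 13, 12, 13, 8, 10, 9, 11, 9, 10, 8, 10, 4, 4, 6, 4, 4, 4, 4, 4])) (.node 1596 (.leaf 280 5 [7, 4, 7, 4, 7, 4, 7, 4, 12, 13, 12, 13, 8, 8, 10, 9, 11, 8, 10, 8, 6, 4, 7, 7, 4]) (.leaf 294 8 [6, 4, 4, 4, 7, 12, 14, 14, 9, 10, 9, 11, 9, 10, 8, 7, 4, 4, 6, 5, 5, 6, 4]))))) (.node 1605 (.node 1601 (.node 1599 (.node 1598 (.leaf 300 7 [4, 4, 4, 6, 6, 6, 13, 12, 10, 10, 8, 11, 8, 10, 9, 10, 6, 4, 4, 4, 7, 5, 6]) (.leaf 302 5 [4, 6, 5, 7, 5, 5, 7, 7, 13, 12, 8, 8, 10, 10, 9, 11, 8, 10, 6, 5, 6, 6, 4])) (.node 1600 (.leaf 303 2 [4, 7, 5, 5, 6, 4, 7, 7, 5, 6, 6, 12, 13, 12, 8, 8, 10, 9, 10, 10, 8, 11, 9, 6, 4]) (.leaf 312 10 [5, 5, 5, 13, 8, 10, 10, 9, 10, 4, 4, 7, 4, 7, 4, 4, 7, 4, 7]))) (.node 1603 (.node 1602 (.leaf 315 5 [4, 6, 6, 4, 6, 4, 6, 5, 8, 8, 10, 9, 11, 8, 8, 7, 7, 7, 4, 6]) (.leaf 320 7 [6, 5, 5, 7, 4, 4, 13, 13, 10, 9, 10, 8, 8, 10, 7, 4, 4, 4, 7, 7, 4])) (.node 1604 (.leaf 322 10 [4, 4, 7, 14, 14, 10, 10, 9, 10, 10, 8, 8, 7, 7, 4, 6, 4, 4, 6, 5, 5, 6]) (.leaf 325 4 [4, 6, 4, 6, 4, 6, 6, 6, 5, 12, 14, 12, 8, 10, 10, 8, 10, 9, 11, 5, 6, 6, 4])))) (.node 1609 (.node 1607 (.node 1606 (.leaf 329 3 [4, 7, 7, 4, 7, 4, 7, 7, 7, 5, 12, 14, 8, 10, 8, 10, 9, 11, 8, 10, 10, 6, 6, 4]) (.leaf 332 5 [5, 6, 6, 6, 5, 7, 7, 5, 5, 12, 13, 12, 8, 8, 10, 9, 11, 8, 8, 10, 4, 7, 5, 6, 6])) (.node 1608 (.leaf 337 2 [5, 5, 7, 7, 4, 6, 5, 6, 4, 6, 5, 5, 13, 13, 8, 10, 9, 11, 8, 8, 10, 7, 7]) (.leaf 340 6 [4, 6, 5, 5, 5, 7, 4, 7, 14, 12, 8, 10, 10, 8, 10, 9, 11, 9, 5, 7, 5, 5, 7, 4]))) (.node 1611 (.node 1610 (.leaf 340 5 [4, 4, 6, 5, 5, 5, 7, 4, 7, 14, 12, 8, 10, 10, 8, 10, 9, 11, 9, 5, 7, 5, 5, 7]) (.leaf 343 9 [7, 5, 7, 4, 4, 13, 12, 10, 9, 10, 8, 10, 10, 9, 11, 5, 5, 7, 4, 7, 5, 6, 6, 5])) (.node 1612 (.leaf 347 9 [6, 4, 7, 7, 5, 14, 9, 10, 9, 10, 10, 8, 10, 4, 4, 7, 7, 7, 5, 6, 4, 4]) (.leaf 353 5 [6, 6, 6, 4, 7, 4, 6, 5, 5, 12, 14, 14, 8, 10, 10, 8, 10, 10, 8, 11, 8, 11, 7, 7, 4, 7, 5])))))) (.node 1629 (.node 1621 (.node 1617 (.node 1615 (.node 1614 (.leaf 359 4 [7, 5, 6, 4, 4, 7, 7, 5, 6, 6, 14, 10, 10, 9, 10, 10, 8, 8, 4, 4, 4, 7]) (.leaf 362 7 [7, 5, 5, 7, 5, 6, 4, 12, 13, 13, 10, 8, 10, 10, 9, 10, 8, 5, 7, 5, 6, 4, 7, 4])) (.node 1616 (.leaf 363 11 [7, 4, 4, 12, 14, 14, 10, 10, 9, 10, 10, 9, 10, 4, 7, 5, 6, 5, 7, 5, 6, 4, 7, 7]) (.leaf 364 4 [7, 4, 4, 7, 7, 7, 5, 6, 4, 4, 14, 14, 8, 10, 10, 9, 10, 10, 8, 6, 6, 5, 7]))) (.node 1619 (.node 1618 (.leaf 366 12 [7, 4, 12, 13, 12, 8, 8, 10, 9, 10, 10, 8, 11, 4, 4, 6, 5, 6, 5, 6, 6, 4, 4, 4, 4]) (.leaf 367 13 [7, 12, 10, 10, 9, 10, 9, 10, 6, 5, 5, 7, 5, 7, 4, 6, 5, 6, 5, 5, 5])) (.node 1620 (.leaf 371 5 [4, 6, 5, 6, 6, 6, 4, 6, 4, 12, 8, 10, 10, 9, 10, 10, 8, 10, 5, 7, 7, 4, 4]) (.leaf 373 8 [7, 5, 7, 4, 6, 5, 12, 13, 9, 10, 8, 10, 10, 4, 7, 5, 5, 7, 4, 7, 4])))) (.node 1625 (.node 1623 (.node 1622 (.leaf 376 5 [5, 7, 4, 7, 7, 4, 4, 6, 6, 12, 14, 14, 8, 10, 8, 10, 10, 8, 8, 10, 7, 4, 6, 6, 5]) (.leaf 386 1 [4, 4, 7, 4, 7, 4, 4, 4, 7, 5, 5, 6, 5, 12, 13, 10, 9, 11, 8, 6])) (.node 1624 (.leaf 387 5 [5, 6, 6, 6, 6, 4, 7, 5, 5, 13, 8, 10, 8, 10, 10, 8, 8, 10, 5, 6, 5, 7, 5]) (.leaf 388 8 [7, 7, 4, 4, 4, 4, 12, 13, 12, 13, 8, 8, 10, 10, 9, 10, 6, 6, 4, 4, 6, 4, 4, 4]))) (.node 1627 (.node 1626 (.leaf 390 12 [5, 5, 12, 14, 12, 10, 10, 9, 10, 9, 11, 5, 7, 4, 4, 6, 5, 6, 4, 4, 7, 4, 6]) (.leaf 391 5 [7, 4, 7, 5, 7, 5, 7, 7, 4, 13, 8, 10, 9, 11, 8, 11, 9, 10, 9, 5, 7, 5, 7, 4])) (.node 1628 (.leaf 393 5 [4, 4, 7, 4, 7, 7, 5, 6, 4, 14, 8, 10, 8, 8, 10, 8, 11, 6, 6, 6, 5, 6]) (.leaf 396 5 [4, 4, 4, 4, 4, 4, 6, 6, 5, 13, 12, 13, 10, 8, 8, 10, 8, 10, 10, 4, 4, 6, 5, 6]))))) (.node 1637 (.node 1633 (.node 1631 (.node 1630 (.leaf 409 14 [13, 13, 8, 10, 9, 10, 9, 10, 8, 4, 4, 6, 4, 7, 7, 5, 6, 6, 5, 5, 6, 6, 4]) (.leaf 410 8 [4, 7, 5, 7, 7, 4, 12, 13, 12, 13, 9, 11, 9, 10, 9, 10, 6, 5, 6, 4, 6, 4, 6, 4])) (.node 1632 (.leaf 412 12 [4, 4, 14, 12, 8, 10, 8, 8, 10, 8, 10, 4, 7, 5, 7, 7, 7, 4, 6, 4, 4, 4, 7]) (.leaf 415 3 [7, 5, 7, 5, 6, 4, 4, 7, 5, 5, 6, 13, 12, 13, 8, 8, 10, 8, 10, 10, 9, 6, 5, 7]))) (.node 1635 (.node 1634 (.leaf 419 10 [5, 5, 6, 5, 13, 12, 13, 8, 11, 8, 10, 9, 10, 4, 7, 7, 5, 5, 6, 4, 6, 5, 5]) (.leaf 419 12 [6, 5, 13, 12, 13, 8, 11, 8, 10, 9, 10, 4, 7, 7, 5, 5, 6, 4, 6, 5, 5, 5, 5])) (.node 1636 (.leaf 420 2 [4, 4, 6, 5, 7, 4, 7, 5, 5, 7, 7, 5, 13, 13, 8, 8, 10, 8, 11, 9, 11, 4, 4]) (.leaf 426 3 [6, 4, 4, 7, 4, 4, 6, 5, 5, 6, 6, 14, 12, 8, 11, 8, 10, 8, 8, 11, 5, 5, 6])))) (.node 1641 (.node 1639 (.node 1638 (.leaf 429 13 [4, 14, 14, 8, 8, 10, 9, 10, 9, 10, 5, 6, 5, 5, 7, 5, 5, 6, 6, 4, 4, 4, 6]) (.leaf 432 5 [6, 4, 6, 5, 6, 5, 7, 4, 7, 14, 12, 8, 8, 10, 9, 10, 10, 8, 10, 6, 5, 7, 5, 5])) (.node 1640 (.leaf 433 7 [4, 6, 5, 5, 5, 6, 5, 12, 13, 12, 10, 10, 8, 8, 11, 9, 10, 5, 6, 6, 6, 4, 4, 4]) (.leaf 435 6 [6, 6, 6, 6, 4, 6, 5, 5, 12, 13, 12, 8, 10, 8, 11, 9, 11, 8, 11, 4, 4, 4, 4, 4, 4]))) (.node 1643 (.node 1642 (.leaf 438 9 [4, 4, 4, 6, 6, 12, 11, 8, 11, 8, 10, 9, 10, 10, 6, 5, 6, 6, 4, 6, 4, 6, 4]) (.leaf 438 10 [4, 4, 6, 6, 12, 11, 8, 11, 8, 10, 9, 10, 10, 6, 5, 6, 6, 4, 6, 4, 6, 4, 4])) (.node 1644 (.leaf 444 3 [6, 5, 6, 6, 6, 4, 6, 6, 6, 5, 5, 13, 9, 10, 8, 8, 11, 8, 10, 10, 5, 5, 5]) (.leaf 444 9 [6, 6, 6, 5, 5, 13, 9, 10, 8, 8, 11, 8, 10, 10, 5, 5, 5, 6, 5, 6, 6, 6, 4])))))))) (.node 1708 (.node 1676 (.node 1660 (.node 1652 (.node 1648 (.node 1646 (.leaf 454 5 [6, 4, 4, 4, 7, 7, 7, 4, 7, 13, 13, 10, 8, 11, 9, 10, 9, 10, 9, 4, 4, 4, 6, 5]) (.node 1647 (.leaf 457 9 [7, 7, 5, 6, 4, 13, 8, 11, 8, 10, 9, 10, 8, 10, 5, 7, 4, 4, 4, 6, 6, 6, 5]) (.leaf 459 2 [6, 4, 7, 7, 4, 4, 6, 5, 6, 6, 5, 7, 12, 13, 12, 13, 8, 11, 9, 10, 8, 11, 8, 11, 4, 6]))) (.node 1650 (.node 1649 (.leaf 462 10 [5, 7, 7, 5, 12, 14, 14, 10, 9, 11, 8, 10, 5, 6, 6, 4, 6, 5, 6, 5, 6, 5]) (.leaf 466 1 [7, 4, 4, 6, 5, 7, 4, 4, 7, 5, 5, 5, 7, 12, 13, 12, 13, 8, 10, 8, 11, 8, 11, 8, 5])) (.node 1651 (.leaf 470 3 [6, 5, 5, 6, 4, 6, 6, 4, 4, 7, 4, 13, 12, 10, 8, 8, 10, 9, 11, 8, 8, 11, 7, 7, 4]) (.leaf 471 3 [5, 6, 4, 6, 4, 6, 5, 7, 5, 5, 7, 12, 14, 14, 8, 11, 8, 10, 9, 10, 8, 6, 5, 7])))) (.node 1656 (.node 1654 (.node 1653 (.leaf 478 5 [4, 6, 4, 7, 5, 7, 7, 7, 5, 12, 10, 8, 8, 10, 10, 9, 10, 9, 10, 6, 4, 4, 4, 7]) (.leaf 481 10 [6, 6, 4, 7, 12, 14, 14, 8, 8, 10, 10, 8, 10, 10, 9, 11, 7, 4, 4, 6, 6, 4, 4, 4, 6, 4])) (.node 1655 (.leaf 481 7 [4, 6, 4, 6, 6, 4, 7, 12, 14, 14, 8, 8, 10, 10, 8, 10, 10, 9, 11, 7, 4, 4, 6, 6, 4, 4]) (.leaf 485 11 [7, 5, 5, 12, 13, 12, 13, 8, 10, 10, 8, 10, 9, 11, 8, 5, 6, 5, 7, 4, 6, 6, 5, 7, 7, 7]))) (.node 1658 (.node 1657 (.leaf 485 7 [5, 7, 7, 7, 7, 5, 5, 12, 13, 12, 13, 8, 10, 10, 8, 10, 9, 11, 8, 5, 6, 5, 7, 4, 6, 6]) (.leaf 485 5 [6, 6, 5, 7, 7, 7, 7, 5, 5, 12, 13, 12, 13, 8, 10, 10, 8, 10, 9, 11, 8, 5, 6, 5, 7, 4])) (.node 1659 (.leaf 487 2 [4, 6, 6, 6, 4, 6, 4, 6, 5, 6, 4, 4, 12, 14, 12, 10, 8, 8, 10, 9, 11, 8, 8, 7, 7]) (.leaf 489 4 [5, 6, 4, 6, 4, 4, 4, 7, 7, 4, 14, 11, 8, 11, 8, 10, 9, 10, 8, 11, 5, 7, 5, 6]))))) (.node 1668 (.node 1664 (.node 1662 (.node 1661 (.leaf 492 5 [7, 4, 6, 6, 4, 6, 6, 4, 4, 12, 14, 12, 8, 10, 10, 8, 10, 9, 10, 9, 11, 4, 4, 6, 5, 5]) (.leaf 494 8 [6, 6, 5, 7, 7, 5, 12, 14, 12, 11, 8, 11, 8, 10, 9, 10, 10, 6, 4, 7, 4, 4, 6, 6, 5])) (.node 1663 (.leaf 494 10 [5, 7, 7, 5, 12, 14, 12, 11, 8, 11, 8, 10, 9, 10, 10, 6, 4, 7, 4, 4, 6, 6, 5, 6, 6]) (.leaf 494 7 [5, 6, 6, 5, 7, 7, 5, 12, 14, 12, 11, 8, 11, 8, 10, 9, 10, 10, 6, 4, 7, 4, 4, 6, 6]))) (.node 1666 (.node 1665 (.leaf 29 3 [6, 4, 4, 6, 6, 6, 4, 14, 12, 8, 10, 8, 11, 8, 8, 11, 7, 4, 6]) (.leaf 30 7 [5, 5, 5, 12, 13, 12, 8, 11, 8, 10, 9, 11, 8, 7, 7, 4, 7, 4, 4, 6])) (.node 1667 (.leaf 50 9 [7, 4, 12, 8, 11, 9, 10, 8, 11, 9, 11, 5, 6, 6, 5, 7, 4, 7, 7, 4]) (.leaf 60 4 [6, 6, 6, 6, 5, 7, 7, 8, 11, 9, 11, 8, 4, 6, 6, 4])))) (.node 1672 (.node 1670 (.node 1669 (.leaf 71 7 [4, 7, 7, 5, 7, 12, 14, 8, 11, 9, 10, 9, 11, 8, 4, 4, 6, 5, 7, 7, 4]) (.leaf 72 11 [6, 12, 13, 8, 8, 10, 9, 10, 9, 11, 9, 4, 4, 4, 7, 5, 6, 6, 6, 5, 7, 5])) (.node 1671 (.leaf 82 8 [7, 5, 5, 5, 12, 14, 12, 10, 10, 9, 10, 8, 11, 7, 4, 4, 4, 6, 6, 5, 7]) (.leaf 84 3 [5, 6, 4, 6, 5, 7, 5, 6, 6, 13, 12, 10, 9, 10, 8, 8, 11, 6, 6, 6]))) (.node 1674 (.node 1673 (.leaf 94 6 [7, 5, 6, 4, 6, 5, 13, 12, 10, 9, 11, 9, 11, 8, 10, 10, 6, 4, 6, 4, 7, 4]) (.leaf 98 5 [6, 6, 4, 6, 5, 5, 7, 14, 12, 8, 11, 8, 11, 8, 8, 11, 8, 11, 4, 7, 7, 7, 4])) (.node 1675 (.leaf 98 1 [7, 7, 7, 4, 6, 6, 4, 6, 5, 5, 7, 14, 12, 8, 11, 8, 11, 8, 8, 11, 8, 11, 4]) (.leaf 105 3 [7, 5, 6, 4, 7, 5, 7, 7, 4, 14, 8, 10, 9, 10, 10, 9, 10, 9, 11, 7, 4, 4])))))) (.node 1692 (.node 1684 (.node 1680 (.node 1678 (.node 1677 (.leaf 109 5 [4, 4, 7, 4, 6, 6, 6, 12, 14, 12, 11, 8, 11, 8, 10, 9, 6, 5, 7, 7, 7]) (.leaf 122 8 [4, 7, 7, 4, 13, 13, 8, 8, 10, 9, 11, 9, 10, 8, 4, 7, 4, 4, 6, 4, 6, 4])) (.node 1679 (.leaf 126 8 [5, 5, 6, 5, 14, 8, 11, 9, 10, 9, 11, 5, 7, 7, 7, 5, 6, 4, 6]) (.leaf 133 3 [4, 6, 6, 6, 4, 4, 6, 5, 7, 13, 8, 10, 8, 11, 8, 11, 8, 8, 4, 4, 7]))) (.node 1682 (.node 1681 (.leaf 137 9 [5, 5, 7, 14, 14, 8, 8, 10, 8, 8, 11, 6, 5, 6, 4, 6, 6, 4, 4, 7]) (.leaf 154 9 [4, 6, 6, 5, 14, 12, 9, 10, 8, 11, 8, 10, 9, 10, 7, 7, 5, 7, 4, 4, 6, 4, 7])) (.node 1683 (.leaf 162 5 [5, 6, 5, 7, 4, 4, 7, 7, 12, 14, 10, 8, 11, 8, 11, 9, 11, 4, 4, 4, 6, 5]) (.leaf 168 8 [4, 6, 4, 4, 7, 14, 14, 8, 11, 8, 10, 10, 8, 11, 8, 11, 5, 7, 5, 5, 6, 6, 6, 6])))) (.node 1688 (.node 1686 (.node 1685 (.leaf 186 7 [7, 4, 6, 6, 4, 7, 12, 14, 14, 8, 8, 11, 9, 10, 9, 6, 5, 7, 4, 4, 4, 4]) (.leaf 210 5 [6, 4, 6, 6, 6, 6, 5, 7, 13, 12, 8, 10, 8, 11, 8, 8, 10, 8, 6, 6, 6, 4, 6])) (.node 1687 (.leaf 212 4 [7, 7, 4, 7, 4, 7, 4, 7, 7, 12, 11, 8, 11, 8, 11, 9, 5, 7, 4, 4]) (.leaf 212 3 [4, 7, 7, 4, 7, 4, 7, 4, 7, 7, 12, 11, 8, 11, 8, 11, 9, 5, 7, 4]))) (.node 1690 (.node 1689 (.leaf 248 4 [4, 4, 4, 4, 6, 5, 6, 6, 4, 12, 14, 12, 8, 10, 8, 11, 8, 4, 7, 5, 6]) (.leaf 249 4 [7, 4, 4, 6, 6, 4, 6, 5, 7, 14, 14, 9, 11, 8, 11, 8, 11, 9, 6, 4, 6, 5])) (.node 1691 (.leaf 260 7 [5, 5, 5, 5, 7, 7, 13, 13, 9, 11, 8, 10, 9, 10, 10, 8, 8, 7, 4, 4, 7, 7, 5, 6]) (.leaf 285 9 [7, 7, 4, 7, 14, 8, 11, 8, 11, 8, 8, 5, 6, 5, 5, 6, 6, 4, 7, 4]))))) (.node 1700 (.node 1696 (.node 1694 (.node 1693 (.leaf 297 2 [4, 7, 5, 6, 6, 4, 7, 5, 5, 5, 7, 14, 10, 8, 11, 8, 10, 9, 10, 6, 6]) (.leaf 300 5 [5, 6, 4, 4, 4, 6, 6, 6, 13, 12, 10, 10, 8, 11, 8, 10, 9, 10, 6, 4, 4, 4, 7])) (.node 1695 (.leaf 308 7 [7, 5, 7, 5, 5, 7, 14, 12, 11, 8, 11, 8, 11, 5, 6, 5, 6, 6, 4, 4]) (.leaf 311 8 [7, 5, 5, 5, 7, 12, 13, 13, 8, 11, 5, 5, 6, 4, 6, 4, 4, 7]))) (.node 1698 (.node 1697 (.leaf 318 11 [7, 7, 12, 13, 12, 8, 11, 8, 11, 8, 11, 8, 7, 7, 5, 6, 5, 5, 6, 6, 5, 7, 5]) (.leaf 340 8 [5, 5, 5, 7, 4, 7, 14, 12, 8, 10, 10, 8, 10, 9, 11, 9, 5, 7, 5, 5, 7, 4, 4, 6])) (.node 1699 (.leaf 343 5 [5, 6, 6, 5, 7, 5, 7, 4, 4, 13, 12, 10, 9, 10, 8, 10, 10, 9, 11, 5, 5, 7, 4, 7]) (.leaf 378 3 [6, 4, 6, 4, 4, 7, 7, 7, 7, 5, 5, 12, 8, 10, 8, 11, 8, 8, 11, 8, 8, 5, 6, 5])))) (.node 1704 (.node 1702 (.node 1701 (.leaf 395 9 [4, 4, 7, 4, 7, 13, 12, 8, 11, 9, 11, 8, 10, 8, 11, 6, 6, 4, 4, 4, 7, 4, 4, 4]) (.leaf 398 4 [4, 4, 4, 6, 5, 7, 7, 4, 6, 5, 14, 14, 10, 10, 8, 11, 9, 10, 8, 6, 4, 4, 7])) (.node 1703 (.leaf 402 5 [5, 6, 6, 4, 6, 5, 6, 5, 7, 12, 13, 12, 8, 8, 11, 6, 6, 6, 5, 5]) (.leaf 407 12 [5, 5, 12, 13, 12, 13, 9, 10, 8, 8, 11, 9, 6, 4, 4, 6, 5, 6, 4, 7, 5, 7, 4, 6]))) (.node 1706 (.node 1705 (.leaf 408 8 [7, 4, 7, 7, 4, 4, 12, 14, 10, 9, 11, 8, 10, 9, 7, 7, 5, 5, 6, 6, 6, 5]) (.leaf 416 3 [7, 7, 4, 4, 6, 6, 6, 4, 4, 7, 4, 12, 14, 14, 8, 11, 8, 10, 9, 10, 10, 9, 7, 7, 5])) (.node 1707 (.leaf 417 9 [5, 7, 4, 7, 7, 12, 14, 12, 10, 9, 11, 9, 11, 8, 10, 4, 4, 7, 5, 6, 4, 6, 4, 6]) (.leaf 420 6 [7, 4, 7, 5, 5, 7, 7, 5, 13, 13, 8, 8, 10, 8, 11, 9, 11, 4, 4, 4, 4, 6, 5]))))))) (.node 1740 (.node 1724 (.node 1716 (.node 1712 (.node 1710 (.node 1709 (.leaf 441 6 [7, 4, 6, 6, 4, 7, 7, 7, 13, 12, 13, 11, 8, 10, 9, 10, 8, 11, 5, 5, 6, 5, 5, 7]) (.leaf 443 5 [7, 4, 4, 4, 6, 5, 7, 4, 4, 12, 14, 9, 10, 9, 11, 9, 10, 6, 5, 5, 7, 7])) (.node 1711 (.leaf 459 11 [6, 5, 7, 12, 13, 12, 13, 8, 11, 9, 10, 8, 11, 8, 11, 4, 6, 6, 4, 7, 7, 4, 4, 6, 5, 6]) (.leaf 460 2 [6, 6, 4, 6, 4, 6, 6, 4, 4, 4, 6, 6, 13, 8, 8, 10, 9, 11, 8, 10, 4, 6]))) (.node 1714 (.node 1713 (.leaf 479 10 [5, 7, 4, 4, 13, 12, 13, 8, 11, 8, 11, 8, 8, 11, 4, 7, 5, 7, 4, 6, 6, 6, 5, 6]) (.leaf 494 5 [6, 6, 5, 6, 6, 5, 7, 7, 5, 12, 14, 12, 11, 8, 11, 8, 10, 9, 10, 10, 6, 4, 7, 4, 4])) (.node 1715 (.leaf 38 0 [4, 4, 6, 5, 6, 6, 6, 4, 7, 7, 5, 12, 14, 14, 10, 9, 11, 9, 11, 8, 10]) (.leaf 41 3 [5, 6, 4, 6, 4, 6, 5, 5, 12, 13, 13, 8, 10, 8, 11, 8, 8, 11, 9, 6, 5, 6])))) (.node 1720 (.node 1718 (.node 1717 (.leaf 42 6 [6, 5, 7, 7, 7, 12, 14, 10, 8, 8, 10, 8, 10, 9, 11, 8, 6, 4, 4, 7, 5, 6]) (.leaf 45 2 [7, 7, 7, 4, 7, 7, 5, 6, 5, 12, 14, 12, 10, 9, 10, 8, 10, 10, 6, 4])) (.node 1719 (.leaf 48 1 [7, 5, 6, 6, 6, 6, 4, 4, 4, 4, 13, 12, 10, 8, 8, 10, 9, 11, 8, 8, 10, 5]) (.leaf 56 2 [4, 7, 4, 4, 6, 6, 4, 6, 5, 13, 12, 13, 8, 8, 10, 10, 8, 11, 4, 7]))) (.node 1722 (.node 1721 (.leaf 64 4 [4, 4, 4, 7, 4, 7, 4, 14, 12, 8, 10, 9, 10, 9, 10, 9, 6, 4, 4, 6]) (.leaf 66 3 [6, 4, 4, 4, 7, 7, 5, 5, 14, 14, 8, 11, 9, 10, 8, 11, 8, 10, 10, 6, 6, 5])) (.node 1723 (.leaf 69 7 [4, 4, 4, 4, 14, 10, 9, 10, 9, 11, 9, 10, 8, 6, 5, 5, 6, 4, 4, 7]) (.leaf 74 7 [4, 6, 6, 6, 5, 12, 14, 14, 10, 9, 11, 8, 10, 10, 9, 6, 4, 4, 7, 7, 4, 4]))))) (.node 1732 (.node 1728 (.node 1726 (.node 1725 (.leaf 75 4 [4, 7, 4, 6, 4, 7, 5, 6, 12, 14, 14, 10, 10, 8, 8, 10, 5, 6, 6, 6]) (.leaf 76 5 [4, 6, 4, 4, 7, 5, 7, 12, 13, 12, 10, 8, 11, 9, 10, 9, 10, 5, 5, 6, 5, 6])) (.node 1727 (.leaf 77 7 [5, 6, 4, 6, 6, 12, 14, 14, 9, 10, 8, 10, 10, 9, 5, 7, 5, 6, 4, 6, 6]) (.leaf 81 7 [4, 7, 4, 7, 4, 8, 10, 9, 11, 8, 8, 10, 8, 5, 6, 6, 4, 4, 4, 6]))) (.node 1730 (.node 1729 (.leaf 93 2 [4, 4, 6, 4, 6, 6, 5, 6, 6, 6, 12, 13, 12, 13, 8, 11, 9, 10, 8, 11, 9, 10, 7, 7]) (.leaf 97 6 [6, 5, 6, 4, 7, 4, 12, 8, 10, 10, 8, 8, 10, 10, 6, 6, 6, 5, 6, 6])) (.node 1731 (.leaf 106 3 [6, 4, 4, 6, 4, 4, 7, 7, 5, 14, 8, 10, 8, 10, 9, 11, 9, 4, 4, 4]) (.leaf 108 2 [6, 4, 6, 4, 6, 5, 5, 7, 4, 7, 12, 13, 10, 8, 10, 9, 11, 4, 6])))) (.node 1736 (.node 1734 (.node 1733 (.leaf 110 9 [7, 4, 4, 13, 12, 8, 10, 10, 8, 10, 10, 8, 11, 5, 6, 6, 5, 6, 4, 4, 4, 4]) (.leaf 116 5 [4, 6, 4, 7, 5, 5, 6, 13, 13, 9, 10, 10, 9, 10, 8, 10, 5, 7, 4, 7, 7])) (.node 1735 (.leaf 119 6 [6, 6, 6, 4, 7, 4, 12, 14, 12, 9, 10, 10, 9, 11, 9, 10, 6, 4, 7, 7, 4, 4]) (.leaf 122 3 [4, 6, 4, 6, 4, 4, 7, 7, 4, 13, 13, 8, 8, 10, 9, 11, 9, 10, 8, 4, 7, 4]))) (.node 1738 (.node 1737 (.leaf 131 9 [6, 6, 5, 12, 10, 8, 8, 10, 8, 10, 10, 7, 7, 7, 4, 4, 6, 4, 6, 6]) (.leaf 144 1 [4, 7, 7, 5, 6, 4, 6, 4, 6, 6, 4, 14, 14, 8, 10, 9, 10, 8, 8, 4])) (.node 1739 (.leaf 145 1 [4, 4, 4, 4, 4, 6, 5, 7, 7, 7, 5, 13, 13, 8, 11, 8, 10, 10, 9, 10, 10, 6]) (.leaf 145 6 [6, 5, 7, 7, 7, 5, 13, 13, 8, 11, 8, 10, 10, 9, 10, 10, 6, 4, 4, 4, 4, 4])))))) (.node 1756 (.node 1748 (.node 1744 (.node 1742 (.node 1741 (.leaf 149 3 [7, 4, 4, 7, 4, 6, 4, 7, 4, 12, 13, 12, 8, 10, 10, 8, 11, 8, 10, 5, 7, 4]) (.leaf 152 8 [7, 7, 5, 5, 12, 14, 14, 10, 10, 8, 8, 11, 8, 10, 8, 4, 4, 7, 5, 6, 6, 4, 7])) (.node 1743 (.leaf 152 6 [4, 7, 7, 7, 5, 5, 12, 14, 14, 10, 10, 8, 8, 11, 8, 10, 8, 4, 4, 7, 5, 6, 6]) (.leaf 159 5 [6, 6, 4, 7, 7, 5, 7, 7, 14, 14, 10, 8, 8, 10, 10, 8, 6, 5, 6, 5, 6]))) (.node 1746 (.node 1745 (.leaf 167 7 [6, 5, 7, 5, 5, 5, 14, 12, 10, 10, 9, 11, 8, 10, 4, 4, 4, 6, 5, 6, 6]) (.leaf 169 2 [6, 4, 6, 4, 4, 7, 7, 4, 7, 5, 6, 12, 14, 12, 9, 10, 10, 9, 11, 8, 11, 6, 4])) (.node 1747 (.leaf 170 8 [5, 7, 5, 6, 4, 8, 10, 10, 8, 10, 9, 10, 9, 4, 7, 4, 6, 5, 7, 4, 7]) (.leaf 174 2 [4, 6, 6, 4, 4, 7, 4, 7, 4, 4, 7, 14, 8, 8, 11, 9, 10, 9, 10, 10, 4, 4])))) (.node 1752 (.node 1750 (.node 1749 (.leaf 175 10 [6, 6, 5, 12, 13, 10, 9, 11, 8, 10, 8, 8, 6, 6, 4, 7, 4, 6, 6, 6, 4, 4]) (.leaf 176 5 [5, 6, 4, 4, 6, 5, 6, 4, 13, 13, 8, 10, 10, 8, 10, 10, 8, 11, 6, 6, 6, 4, 6])) (.node 1751 (.leaf 176 10 [5, 6, 4, 13, 13, 8, 10, 10, 8, 10, 10, 8, 11, 6, 6, 6, 4, 6, 5, 6, 4, 4, 6]) (.leaf 177 3 [5, 6, 6, 4, 6, 6, 6, 4, 6, 4, 13, 12, 8, 10, 8, 10, 9, 10, 4, 6, 6]))) (.node 1754 (.node 1753 (.leaf 183 9 [6, 6, 5, 5, 14, 14, 10, 10, 9, 10, 8, 8, 10, 4, 7, 7, 7, 5, 6, 4, 6, 6]) (.leaf 185 10 [7, 7, 4, 12, 8, 8, 10, 9, 10, 10, 4, 7, 7, 7, 4, 4, 6, 4, 4, 7])) (.node 1755 (.leaf 188 9 [6, 6, 5, 7, 12, 13, 12, 11, 8, 10, 9, 10, 8, 8, 6, 5, 6, 4, 6, 5, 6, 6, 5]) (.leaf 190 5 [5, 6, 6, 5, 7, 7, 7, 4, 12, 10, 10, 9, 10, 10, 9, 4, 4, 7, 5, 5]))))) (.node 1764 (.node 1760 (.node 1758 (.node 1757 (.leaf 190 7 [6, 5, 7, 7, 7, 4, 12, 10, 10, 9, 10, 10, 9, 4, 4, 7, 5, 5, 5, 6]) (.leaf 194 5 [7, 4, 7, 4, 4, 6, 5, 5, 14, 9, 10, 10, 9, 10, 10, 8, 8, 4, 4, 4, 4, 4])) (.node 1759 (.leaf 194 4 [4, 7, 4, 7, 4, 4, 6, 5, 5, 14, 9, 10, 10, 9, 10, 10, 8, 8, 4, 4, 4, 4]) (.leaf 196 9 [4, 6, 4, 4, 13, 8, 11, 8, 10, 8, 8, 10, 10, 5, 5, 7, 7, 5, 5, 6, 5, 7]))) (.node 1762 (.node 1761 (.leaf 206 7 [6, 6, 6, 4, 6, 6, 12, 13, 12, 13, 8, 11, 8, 8, 10, 6, 5, 7, 4, 6, 4, 4]) (.leaf 208 8 [4, 7, 7, 5, 5, 12, 14, 8, 8, 10, 9, 10, 9, 10, 8, 6, 4, 4, 6, 4, 7, 4, 7])) (.node 1763 (.leaf 213 3 [6, 5, 6, 4, 7, 4, 6, 4, 6, 4, 14, 8, 8, 11, 8, 11, 8, 10, 10, 5, 5, 5]) (.leaf 219 2 [7, 7, 7, 5, 6, 6, 6, 4, 7, 7, 7, 14, 8, 10, 9, 10, 10, 8, 4, 7])))) (.node 1768 (.node 1766 (.node 1765 (.leaf 219 9 [4, 7, 7, 7, 14, 8, 10, 9, 10, 10, 8, 4, 7, 7, 7, 7, 5, 6, 6, 6]) (.leaf 221 10 [5, 5, 5, 12, 13, 13, 10, 10, 8, 11, 9, 10, 8, 8, 7, 7, 5, 6, 6, 4, 6, 4, 4, 7])) (.node 1767 (.leaf 224 11 [5, 6, 12, 13, 10, 8, 8, 10, 10, 9, 11, 8, 10, 5, 6, 5, 6, 4, 4, 6, 5, 7, 7, 5]) (.leaf 235 5 [5, 6, 5, 5, 5, 6, 5, 5, 12, 10, 10, 9, 10, 9, 11, 9, 6, 5, 7, 5, 5]))) (.node 1770 (.node 1769 (.leaf 237 5 [7, 4, 6, 4, 6, 5, 7, 7, 13, 12, 13, 8, 11, 8, 10, 9, 10, 8, 10, 10, 5, 5, 6, 5, 7]) (.leaf 238 2 [6, 4, 4, 6, 6, 6, 6, 6, 4, 7, 4, 13, 8, 10, 9, 11, 9, 10, 7, 4])) (.node 1771 (.leaf 244 8 [5, 5, 6, 4, 4, 12, 14, 14, 10, 9, 10, 8, 8, 10, 9, 6, 4, 7, 5, 5, 6, 4, 6]) (.leaf 250 2 [6, 5, 7, 4, 6, 4, 6, 4, 4, 7, 4, 13, 12, 13, 10, 10, 9, 10, 10, 9, 6, 4]))))))))) (.node 1899 (.node 1835 (.node 1803 (.node 1787 (.node 1779 (.node 1775 (.node 1773 (.leaf 250 8 [6, 4, 4, 7, 4, 13, 12, 13, 10, 10, 9, 10, 10, 9, 6, 4, 6, 5, 7, 4, 6, 4]) (.node 1774 (.leaf 252 9 [6, 6, 4, 4, 12, 14, 14, 8, 10, 10, 8, 11, 8, 8, 5, 5, 7, 4, 7, 4, 6, 6, 6]) (.leaf 252 2 [7, 4, 7, 4, 6, 6, 6, 6, 6, 4, 4, 12, 14, 14, 8, 10, 10, 8, 11, 8, 8, 5, 5]))) (.node 1777 (.node 1776 (.leaf 255 5 [4, 6, 6, 4, 7, 7, 5, 5, 14, 12, 9, 10, 8, 8, 11, 8, 11, 7, 4, 4, 6, 4]) (.leaf 259 4 [7, 4, 6, 4, 6, 6, 5, 5, 5, 12, 10, 9, 10, 8, 10, 10, 9, 4, 6, 6, 4])) (.node 1778 (.leaf 260 9 [5, 5, 7, 7, 13, 13, 9, 11, 8, 10, 9, 10, 10, 8, 8, 7, 4, 4, 7, 7, 5, 6, 5, 5]) (.leaf 261 10 [4, 6, 5, 12, 8, 10, 8, 10, 9, 11, 8, 10, 6, 5, 5, 7, 7, 4, 6, 4, 4, 7])))) (.node 1783 (.node 1781 (.node 1780 (.leaf 264 5 [5, 6, 4, 6, 4, 4, 6, 5, 12, 13, 13, 9, 10, 8, 11, 8, 10, 10, 9, 6, 4, 6, 5, 6]) (.leaf 268 9 [4, 7, 7, 5, 12, 14, 14, 8, 10, 9, 10, 9, 10, 7, 4, 4, 4, 4, 6, 4, 7, 4])) (.node 1782 (.leaf 268 10 [7, 7, 5, 12, 14, 14, 8, 10, 9, 10, 9, 10, 7, 4, 4, 4, 4, 6, 4, 7, 4, 4]) (.leaf 271 2 [7, 4, 4, 6, 6, 6, 5, 7, 4, 7, 7, 12, 14, 12, 8, 10, 8, 8, 10, 8, 10, 6, 5]))) (.node 1785 (.node 1784 (.leaf 273 3 [5, 6, 6, 4, 7, 7, 5, 5, 6, 5, 12, 14, 8, 10, 8, 11, 9, 11, 7, 7, 7]) (.leaf 283 11 [4, 4, 10, 10, 8, 11, 8, 4, 7, 4, 4, 7, 4, 4, 6, 6, 4, 7])) (.node 1786 (.leaf 288 3 [6, 5, 7, 4, 4, 7, 7, 7, 4, 4, 12, 13, 13, 9, 11, 8, 10, 10, 8, 6, 6, 4]) (.leaf 289 4 [6, 5, 6, 6, 6, 5, 6, 5, 7, 13, 12, 13, 8, 10, 8, 10, 9, 11, 9, 11, 7, 4, 6, 5]))))) (.node 1795 (.node 1791 (.node 1789 (.node 1788 (.leaf 295 10 [5, 6, 6, 13, 12, 13, 8, 11, 8, 11, 8, 10, 8, 5, 5, 5, 7, 7, 4, 6, 5, 6, 6]) (.leaf 302 7 [5, 7, 5, 5, 7, 7, 13, 12, 8, 8, 10, 10, 9, 11, 8, 10, 6, 5, 6, 6, 4, 4, 6])) (.node 1790 (.leaf 303 9 [7, 5, 6, 6, 12, 13, 12, 8, 8, 10, 9, 10, 10, 8, 11, 9, 6, 4, 4, 7, 5, 5, 6, 4, 7]) (.leaf 309 8 [6, 5, 5, 5, 6, 13, 12, 9, 11, 8, 10, 9, 10, 10, 8, 10, 5, 6, 5, 6, 6, 4, 6, 4]))) (.node 1793 (.node 1792 (.leaf 309 4 [6, 4, 6, 4, 6, 5, 5, 5, 6, 13, 12, 9, 11, 8, 10, 9, 10, 10, 8, 10, 5, 6, 5, 6]) (.leaf 310 8 [7, 5, 5, 6, 6, 12, 14, 12, 10, 10, 8, 11, 9, 10, 8, 8, 7, 7, 4, 4, 7, 4, 4, 7])) (.node 1794 (.leaf 312 8 [4, 7, 5, 5, 5, 13, 8, 10, 10, 9, 10, 4, 4, 7, 4, 7, 4, 4, 7]) (.leaf 320 5 [7, 4, 6, 5, 5, 7, 4, 4, 13, 13, 10, 9, 10, 8, 8, 10, 7, 4, 4, 4, 7])))) (.node 1799 (.node 1797 (.node 1796 (.leaf 324 4 [6, 6, 6, 6, 4, 4, 7, 7, 7, 13, 12, 13, 10, 8, 10, 5, 7, 4, 4]) (.leaf 329 5 [7, 4, 7, 4, 7, 7, 7, 5, 12, 14, 8, 10, 8, 10, 9, 11, 8, 10, 10, 6, 6, 4, 4, 7])) (.node 1798 (.leaf 337 8 [5, 6, 4, 6, 5, 5, 13, 13, 8, 10, 9, 11, 8, 8, 10, 7, 7, 5, 5, 7, 7, 4, 6]) (.leaf 346 6 [6, 6, 5, 7, 5, 7, 7, 4, 12, 8, 10, 8, 10, 10, 8, 4, 4, 6, 6, 4, 4]))) (.node 1801 (.node 1800 (.leaf 347 6 [6, 4, 4, 6, 4, 7, 7, 5, 14, 9, 10, 9, 10, 10, 8, 10, 4, 4, 7, 7, 7, 5]) (.leaf 349 5 [6, 6, 6, 4, 7, 5, 7, 4, 4, 12, 13, 12, 13, 10, 9, 10, 8, 10, 10, 6, 4, 6, 4, 6])) (.node 1802 (.leaf 353 4 [5, 6, 6, 6, 4, 7, 4, 6, 5, 5, 12, 14, 14, 8, 10, 10, 8, 10, 10, 8, 11, 8, 11, 7, 7, 4, 7]) (.leaf 359 8 [4, 7, 7, 5, 6, 6, 14, 10, 10, 9, 10, 10, 8, 8, 4, 4, 4, 7, 7, 5, 6, 4])))))) (.node 1819 (.node 1811 (.node 1807 (.node 1805 (.node 1804 (.leaf 363 12 [4, 4, 12, 14, 14, 10, 10, 9, 10, 10, 9, 10, 4, 7, 5, 6, 5, 7, 5, 6, 4, 7, 7, 7]) (.leaf 367 12 [5, 7, 12, 10, 10, 9, 10, 9, 10, 6, 5, 5, 7, 5, 7, 4, 6, 5, 6, 5, 5])) (.node 1806 (.leaf 369 7 [7, 4, 7, 4, 7, 4, 4, 12, 14, 12, 9, 10, 9, 11, 8, 8, 10, 10, 5, 7, 4, 6, 4, 4, 4]) (.leaf 372 6 [4, 6, 4, 7, 5, 5, 6, 5, 13, 12, 13, 9, 10, 8, 8, 10, 9, 10, 4, 7, 4, 4, 4, 7]))) (.node 1809 (.node 1808 (.leaf 373 6 [7, 4, 7, 5, 7, 4, 6, 5, 12, 13, 9, 10, 8, 10, 10, 4, 7, 5, 5, 7, 4]) (.leaf 376 6 [7, 4, 7, 7, 4, 4, 6, 6, 12, 14, 14, 8, 10, 8, 10, 10, 8, 8, 10, 7, 4, 6, 6, 5, 5])) (.node 1810 (.leaf 377 3 [5, 6, 5, 5, 6, 5, 5, 7, 5, 6, 6, 13, 12, 8, 10, 9, 11, 9, 10, 8, 10, 4, 7, 7]) (.leaf 380 9 [5, 5, 7, 5, 7, 8, 10, 10, 8, 10, 9, 10, 6, 4, 6, 4, 4, 7, 4, 4, 7])))) (.node 1815 (.node 1813 (.node 1812 (.leaf 380 8 [7, 5, 5, 7, 5, 7, 8, 10, 10, 8, 10, 9, 10, 6, 4, 6, 4, 4, 7, 4, 4]) (.leaf 385 10 [6, 4, 6, 5, 12, 13, 13, 8, 10, 9, 10, 10, 8, 8, 4, 6, 6, 6, 5, 7, 5, 6, 6, 6])) (.node 1814 (.leaf 388 5 [4, 4, 4, 7, 7, 4, 4, 4, 4, 12, 13, 12, 13, 8, 8, 10, 10, 9, 10, 6, 6, 4, 4, 6]) (.leaf 396 4 [6, 4, 4, 4, 4, 4, 4, 6, 6, 5, 13, 12, 13, 10, 8, 8, 10, 8, 10, 10, 4, 4, 6, 5]))) (.node 1817 (.node 1816 (.leaf 397 8 [4, 6, 6, 4, 7, 7, 12, 13, 13, 8, 8, 10, 8, 10, 9, 10, 4, 4, 6, 5, 6, 4, 4, 6]) (.leaf 401 1 [5, 5, 5, 5, 5, 6, 4, 6, 4, 4, 7, 4, 4, 13, 13, 10, 10, 9, 10, 9, 10, 10, 8, 11, 6])) (.node 1818 (.leaf 404 3 [7, 4, 6, 4, 6, 5, 7, 4, 4, 6, 6, 12, 13, 12, 13, 8, 11, 8, 10, 10, 9, 10, 4, 7, 7]) (.leaf 404 11 [4, 6, 6, 12, 13, 12, 13, 8, 11, 8, 10, 10, 9, 10, 4, 7, 7, 7, 4, 6, 4, 6, 5, 7, 4]))))) (.node 1827 (.node 1823 (.node 1821 (.node 1820 (.leaf 430 7 [6, 4, 4, 4, 6, 6, 5, 13, 12, 10, 8, 8, 10, 10, 8, 6, 4, 6, 5, 5, 5, 6]) (.leaf 432 3 [5, 5, 6, 4, 6, 5, 6, 5, 7, 4, 7, 14, 12, 8, 8, 10, 9, 10, 10, 8, 10, 6, 5, 7])) (.node 1822 (.leaf 434 9 [5, 5, 6, 4, 7, 13, 13, 9, 11, 8, 10, 9, 10, 5, 7, 4, 7, 5, 6, 5, 6, 6]) (.leaf 434 4 [5, 6, 5, 6, 6, 5, 5, 6, 4, 7, 13, 13, 9, 11, 8, 10, 9, 10, 5, 7, 4, 7]))) (.node 1825 (.node 1824 (.leaf 442 9 [7, 5, 7, 4, 4, 13, 12, 13, 10, 8, 11, 9, 10, 8, 8, 11, 5, 7, 5, 7, 4, 6, 4, 6, 4]) (.leaf 443 11 [7, 4, 4, 12, 14, 9, 10, 9, 11, 9, 10, 6, 5, 5, 7, 7, 7, 4, 4, 4, 6, 5])) (.node 1826 (.leaf 447 4 [5, 5, 7, 4, 6, 5, 7, 5, 5, 6, 12, 14, 12, 10, 10, 8, 8, 10, 10, 8, 11, 6, 5, 6, 5]) (.leaf 448 12 [7, 4, 12, 14, 8, 10, 9, 10, 9, 10, 8, 8, 6, 6, 4, 7, 5, 5, 6, 5, 7, 4, 4, 4])))) (.node 1831 (.node 1829 (.node 1828 (.leaf 460 3 [6, 4, 6, 4, 6, 6, 4, 4, 4, 6, 6, 13, 8, 8, 10, 9, 11, 8, 10, 4, 6, 6]) (.leaf 461 7 [6, 5, 5, 5, 7, 7, 5, 12, 14, 14, 8, 10, 8, 8, 10, 10, 4, 7, 7, 4, 6, 5, 6])) (.node 1830 (.leaf 468 8 [7, 5, 7, 5, 5, 7, 14, 14, 9, 10, 10, 6, 6, 6, 4, 6, 4, 4, 7]) (.leaf 472 11 [7, 4, 4, 13, 13, 9, 10, 9, 10, 10, 7, 7, 5, 6, 6, 4, 4, 4, 6, 5, 7]))) (.node 1833 (.node 1832 (.leaf 473 9 [7, 4, 6, 5, 5, 12, 13, 12, 8, 10, 8, 10, 9, 10, 9, 5, 7, 7, 5, 7, 4, 4, 6, 4]) (.leaf 475 4 [4, 4, 4, 7, 5, 6, 4, 4, 6, 5, 12, 14, 12, 8, 10, 10, 9, 10, 9, 11, 8, 5, 6, 5, 6])) (.node 1834 (.leaf 478 2 [4, 4, 7, 4, 6, 4, 7, 5, 7, 7, 7, 5, 12, 10, 8, 8, 10, 10, 9, 10, 9, 10, 6, 4]) (.leaf 481 8 [6, 4, 6, 6, 4, 7, 12, 14, 14, 8, 8, 10, 10, 8, 10, 10, 9, 11, 7, 4, 4, 6, 6, 4, 4, 4]))))))) (.node 1867 (.node 1851 (.node 1843 (.node 1839 (.node 1837 (.node 1836 (.leaf 484 8 [7, 5, 5, 5, 6, 4, 12, 9, 10, 8, 10, 10, 8, 10, 10, 7, 4, 6, 4, 6, 6, 4, 7]) (.leaf 484 12 [6, 4, 12, 9, 10, 8, 10, 10, 8, 10, 10, 7, 4, 6, 4, 6, 6, 4, 7, 7, 5, 5, 5])) (.node 1838 (.leaf 486 2 [4, 4, 6, 4, 4, 6, 5, 5, 7, 7, 5, 5, 12, 13, 12, 10, 10, 8, 8, 10, 10, 9, 10, 10, 7, 4]) (.leaf 491 8 [7, 4, 6, 6, 5, 5, 14, 14, 8, 10, 8, 10, 10, 8, 10, 10, 4, 4, 6, 5, 5, 7, 4, 4]))) (.node 1841 (.node 1840 (.leaf 25 3 [7, 4, 6, 5, 6, 5, 13, 12, 13, 8, 10, 8, 10, 9, 11, 8, 11, 4, 4, 7]) (.leaf 30 2 [4, 7, 4, 4, 6, 5, 5, 5, 12, 13, 12, 8, 11, 8, 10, 9, 11, 8, 7, 7])) (.node 1842 (.leaf 41 6 [6, 4, 6, 5, 5, 12, 13, 13, 8, 10, 8, 11, 8, 8, 11, 9, 6, 5, 6, 5, 6, 4]) (.leaf 58 4 [4, 6, 6, 6, 5, 6, 6, 13, 12, 13, 10, 8, 8, 10, 8, 10, 9, 11, 8, 7, 7, 4, 6])))) (.node 1847 (.node 1845 (.node 1844 (.leaf 61 2 [5, 7, 4, 4, 4, 7, 7, 4, 7, 13, 11, 8, 11, 8, 11, 9, 5, 5]) (.leaf 101 3 [5, 7, 7, 4, 4, 6, 5, 5, 6, 12, 13, 13, 8, 11, 8, 11, 8, 10, 10, 6, 4, 6])) (.node 1846 (.leaf 109 4 [7, 4, 4, 7, 4, 6, 6, 6, 12, 14, 12, 11, 8, 11, 8, 10, 9, 6, 5, 7, 7]) (.leaf 125 10 [7, 7, 12, 13, 12, 9, 10, 10, 9, 11, 8, 11, 5, 5, 6, 6, 6, 6, 4, 4, 7, 5]))) (.node 1849 (.node 1848 (.leaf 147 2 [5, 6, 6, 6, 4, 6, 5, 7, 5, 5, 13, 9, 11, 8, 10, 9, 10, 10, 8, 8, 5, 5]) (.leaf 168 9 [6, 4, 4, 7, 14, 14, 8, 11, 8, 10, 10, 8, 11, 8, 11, 5, 7, 5, 5, 6, 6, 6, 6, 4])) (.node 1850 (.leaf 193 3 [6, 6, 4, 4, 7, 4, 4, 4, 6, 5, 14, 12, 9, 11, 8, 11, 8, 11, 9, 10, 5, 5, 6]) (.leaf 193 4 [6, 4, 4, 7, 4, 4, 4, 6, 5, 14, 12, 9, 11, 8, 11, 8, 11, 9, 10, 5, 5, 6, 6]))))) (.node 1859 (.node 1855 (.node 1853 (.node 1852 (.leaf 231 7 [5, 7, 7, 7, 4, 7, 14, 11, 8, 10, 9, 10, 8, 11, 9, 11, 7, 7, 7, 4, 4, 4, 6]) (.leaf 239 9 [5, 5, 7, 7, 12, 14, 12, 8, 11, 8, 11, 8, 11, 6, 4, 7, 5, 6, 6, 6, 4, 6])) (.node 1854 (.leaf 245 4 [5, 7, 4, 7, 5, 5, 6, 4, 4, 12, 14, 12, 10, 9, 11, 9, 11, 7, 7, 4, 6]) (.leaf 266 10 [4, 7, 7, 12, 13, 12, 13, 8, 11, 8, 8, 11, 9, 11, 5, 5, 7, 4, 6, 5, 6, 5, 6, 6]))) (.node 1857 (.node 1856 (.leaf 282 7 [6, 5, 5, 6, 4, 4, 12, 14, 10, 8, 8, 10, 9, 11, 9, 5, 5, 5, 5, 5, 6, 6]) (.leaf 298 4 [6, 4, 4, 7, 5, 6, 4, 4, 4, 12, 14, 14, 9, 11, 8, 10, 9, 10, 5, 7, 4, 6])) (.node 1858 (.leaf 308 8 [5, 7, 5, 5, 7, 14, 12, 11, 8, 11, 8, 11, 5, 6, 5, 6, 6, 4, 4, 7]) (.leaf 318 7 [6, 5, 7, 5, 7, 7, 12, 13, 12, 8, 11, 8, 11, 8, 11, 8, 7, 7, 5, 6, 5, 5, 6])))) (.node 1863 (.node 1861 (.node 1860 (.leaf 338 8 [6, 5, 7, 7, 4, 7, 13, 13, 9, 10, 8, 11, 8, 11, 5, 5, 5, 5, 5, 6, 4, 4]) (.leaf 405 5 [5, 6, 5, 7, 4, 6, 4, 7, 4, 12, 13, 10, 10, 9, 10, 10, 8, 11, 8, 7, 4, 6, 5, 5])) (.node 1862 (.leaf 435 4 [4, 4, 6, 6, 6, 6, 4, 6, 5, 5, 12, 13, 12, 8, 10, 8, 11, 9, 11, 8, 11, 4, 4, 4, 4]) (.leaf 446 9 [5, 5, 6, 5, 5, 12, 13, 9, 11, 9, 11, 8, 11, 8, 4, 7, 5, 7, 7, 4, 6, 4, 7]))) (.node 1865 (.node 1864 (.leaf 452 11 [4, 6, 6, 13, 8, 10, 8, 11, 8, 4, 7, 5, 5, 7, 5, 5, 6, 5, 6, 6]) (.leaf 479 6 [6, 6, 5, 6, 5, 7, 4, 4, 13, 12, 13, 8, 11, 8, 11, 8, 8, 11, 4, 7, 5, 7, 4, 6])) (.node 1866 (.leaf 479 3 [7, 4, 6, 6, 6, 5, 6, 5, 7, 4, 4, 13, 12, 13, 8, 11, 8, 11, 8, 8, 11, 4, 7, 5]) (.leaf 488 5 [7, 4, 4, 6, 5, 5, 6, 5, 5, 13, 12, 9, 11, 8, 11, 8, 11, 9, 10, 5, 5, 5, 7, 7])))))) (.node 1883 (.node 1875 (.node 1871 (.node 1869 (.node 1868 (.leaf 42 2 [4, 7, 5, 6, 6, 5, 7, 7, 7, 12, 14, 10, 8, 8, 10, 8, 10, 9, 11, 8, 6, 4]) (.leaf 43 3 [6, 6, 6, 5, 7, 4, 4, 4, 13, 12, 13, 11, 8, 10, 7, 7, 5])) (.node 1870 (.leaf 63 6 [5, 6, 6, 4, 4, 13, 12, 13, 10, 10, 8, 11, 9, 10, 9, 11, 7, 7, 4, 4, 4, 6]) (.leaf 66 4 [4, 4, 4, 7, 7, 5, 5, 14, 14, 8, 11, 9, 10, 8, 11, 8, 10, 10, 6, 6, 5, 6]))) (.node 1873 (.node 1872 (.leaf 76 8 [4, 7, 5, 7, 12, 13, 12, 10, 8, 11, 9, 10, 9, 10, 5, 5, 6, 5, 6, 4, 6, 4]) (.leaf 85 4 [4, 6, 4, 6, 6, 5, 6, 4, 12, 14, 9, 10, 10, 9, 10, 8, 6, 5, 6, 4])) (.node 1874 (.leaf 86 4 [6, 4, 4, 4, 7, 5, 5, 6, 12, 13, 8, 11, 8, 11, 8, 8, 11, 8, 7, 7, 4, 6]) (.leaf 92 4 [4, 4, 6, 4, 4, 6, 4, 7, 14, 14, 8, 10, 9, 10, 10, 8, 8, 11, 5, 6, 6, 6])))) (.node 1879 (.node 1877 (.node 1876 (.leaf 98 8 [6, 5, 5, 7, 14, 12, 8, 11, 8, 11, 8, 8, 11, 8, 11, 4, 7, 7, 7, 4, 6, 6, 4]) (.leaf 110 6 [4, 4, 4, 7, 4, 4, 13, 12, 8, 10, 10, 8, 10, 10, 8, 11, 5, 6, 6, 5, 6, 4])) (.node 1878 (.leaf 126 2 [7, 7, 5, 6, 4, 6, 5, 5, 6, 5, 14, 8, 11, 9, 10, 9, 11, 5, 7]) (.leaf 138 3 [5, 5, 6, 5, 5, 7, 5, 5, 5, 12, 14, 14, 10, 8, 8, 10, 8, 11, 8, 11, 8, 7, 7, 5]))) (.node 1881 (.node 1880 (.leaf 155 5 [7, 4, 4, 7, 4, 6, 4, 4, 14, 12, 10, 8, 8, 10, 8, 8, 7, 7, 7, 7, 4]) (.leaf 163 5 [7, 4, 7, 5, 7, 7, 4, 4, 12, 14, 11, 8, 10, 9, 10, 8, 11, 9, 6, 6, 5, 6, 4])) (.node 1882 (.leaf 173 3 [6, 5, 6, 6, 5, 6, 5, 5, 6, 4, 12, 8, 11, 8, 10, 8, 8, 10, 9, 10, 6, 5, 5]) (.leaf 182 7 [5, 5, 5, 5, 5, 6, 12, 13, 12, 8, 10, 8, 10, 9, 10, 9, 6, 4, 4, 6, 5, 5, 6]))))) (.node 1891 (.node 1887 (.node 1885 (.node 1884 (.leaf 232 8 [7, 5, 7, 7, 5, 13, 13, 10, 8, 7, 4, 4, 6, 6, 4, 6, 4]) (.leaf 237 4 [7, 7, 4, 6, 4, 6, 5, 7, 7, 13, 12, 13, 8, 11, 8, 10, 9, 10, 8, 10, 10, 5, 5, 6, 5])) (.node 1886 (.leaf 274 5 [5, 6, 5, 7, 4, 7, 4, 4, 12, 13, 12, 13, 8, 11, 8, 10, 8, 8, 10, 10, 5, 6, 5, 7, 7]) (.leaf 310 5 [4, 4, 7, 7, 5, 5, 6, 6, 12, 14, 12, 10, 10, 8, 11, 9, 10, 8, 8, 7, 7, 4, 4, 7]))) (.node 1889 (.node 1888 (.leaf 330 10 [7, 4, 6, 5, 14, 12, 8, 10, 10, 8, 10, 9, 11, 9, 7, 7, 7, 4, 7, 5, 6, 4, 7, 7]) (.leaf 337 4 [7, 7, 4, 6, 5, 6, 4, 6, 5, 5, 13, 13, 8, 10, 9, 11, 8, 8, 10, 7, 7, 5, 5])) (.node 1890 (.leaf 339 5 [6, 4, 6, 6, 4, 7, 4, 4, 7, 12, 13, 13, 11, 8, 10, 9, 10, 5, 5, 5, 5, 5]) (.leaf 346 8 [5, 7, 5, 7, 7, 4, 12, 8, 10, 8, 10, 10, 8, 4, 4, 6, 6, 4, 4, 6, 6])))) (.node 1895 (.node 1893 (.node 1892 (.leaf 352 7 [7, 7, 7, 4, 4, 6, 5, 13, 9, 10, 8, 8, 11, 9, 10, 7, 7, 4, 7, 5, 6, 4]) (.leaf 362 4 [4, 7, 4, 7, 5, 5, 7, 5, 6, 4, 12, 13, 13, 10, 8, 10, 10, 9, 10, 8, 5, 7, 5, 6])) (.node 1894 (.leaf 364 5 [4, 4, 7, 7, 7, 5, 6, 4, 4, 14, 14, 8, 10, 10, 9, 10, 10, 8, 6, 6, 5, 7, 7]) (.leaf 365 11 [6, 5, 7, 12, 14, 14, 10, 8, 11, 9, 10, 8, 6, 6, 5, 7, 7, 4, 6, 6, 4, 7, 5]))) (.node 1897 (.node 1896 (.leaf 394 10 [6, 6, 5, 5, 12, 14, 12, 8, 11, 9, 10, 8, 8, 11, 6, 6, 4, 6, 4, 6, 6, 4, 6, 4]) (.leaf 398 5 [4, 4, 6, 5, 7, 7, 4, 6, 5, 14, 14, 10, 10, 8, 11, 9, 10, 8, 6, 4, 4, 7, 4])) (.node 1898 (.leaf 400 5 [7, 4, 4, 7, 4, 6, 5, 7, 7, 12, 9, 10, 8, 11, 8, 10, 9, 5, 7, 5, 7, 5]) (.leaf 422 3 [4, 4, 4, 4, 6, 6, 4, 6, 6, 5, 7, 13, 12, 13, 9, 11, 8, 10, 10, 8, 11, 8, 5, 5, 6])))))))) (.node 1962 (.node 1930 (.node 1914 (.node 1906 (.node 1902 (.node 1900 (.leaf 428 9 [7, 4, 6, 5, 7, 13, 12, 13, 8, 10, 8, 10, 9, 11, 8, 4, 7, 7, 7, 4, 4, 4, 6, 5]) (.node 1901 (.leaf 439 7 [6, 6, 6, 6, 4, 4, 4, 12, 13, 13, 8, 10, 8, 8, 10, 8, 10, 10, 7, 7, 4, 4, 7, 5, 6]) (.leaf 456 5 [6, 4, 4, 4, 7, 7, 4, 4, 4, 12, 13, 13, 10, 9, 10, 8, 8, 10, 8, 4, 7, 5, 7, 4]))) (.node 1904 (.node 1903 (.leaf 464 6 [6, 6, 5, 7, 7, 4, 6, 6, 12, 13, 13, 8, 8, 11, 9, 6, 4, 7, 4, 6, 5]) (.leaf 482 3 [6, 4, 7, 7, 4, 6, 5, 6, 6, 6, 5, 12, 13, 12, 11, 8, 11, 8, 11, 4, 7, 4])) (.node 1905 (.leaf 77 5 [6, 6, 5, 6, 4, 6, 6, 12, 14, 14, 9, 10, 8, 10, 10, 9, 5, 7, 5, 6, 4]) (.leaf 80 3 [5, 5, 6, 6, 6, 6, 5, 5, 5, 12, 13, 12, 13, 8, 10, 10, 8, 10, 9, 11, 8, 11, 6, 5, 5])))) (.node 1910 (.node 1908 (.node 1907 (.leaf 87 10 [4, 7, 12, 10, 8, 8, 10, 10, 9, 10, 10, 9, 4, 4, 6, 6, 5, 6, 6, 6, 5, 6]) (.leaf 231 3 [4, 4, 4, 6, 5, 7, 7, 7, 4, 7, 14, 11, 8, 10, 9, 10, 8, 11, 9, 11, 7, 7, 7])) (.node 1909 (.leaf 275 7 [6, 6, 4, 4, 4, 7, 12, 13, 8, 11, 9, 10, 8, 11, 8, 6, 5, 7, 7, 5, 6, 6]) (.leaf 278 2 [6, 4, 4, 4, 4, 4, 7, 4, 4, 7, 7, 12, 13, 12, 13, 8, 10, 9, 11, 9, 10, 8, 10, 4, 4]))) (.node 1912 (.node 1911 (.leaf 289 7 [6, 6, 5, 6, 5, 7, 13, 12, 13, 8, 10, 8, 10, 9, 11, 9, 11, 7, 4, 6, 5, 6, 5, 6]) (.leaf 306 9 [4, 7, 7, 5, 13, 12, 8, 10, 9, 10, 9, 10, 9, 4, 6, 6, 6, 4, 4, 6, 4, 4])) (.node 1913 (.leaf 317 3 [5, 5, 6, 6, 5, 7, 7, 7, 5, 5, 12, 13, 8, 11, 9, 10, 9, 11, 8, 4, 4, 7]) (.leaf 332 9 [5, 7, 7, 5, 5, 12, 13, 12, 8, 8, 10, 9, 11, 8, 8, 10, 4, 7, 5, 6, 6, 5, 6, 6, 6]))))) (.node 1922 (.node 1918 (.node 1916 (.node 1915 (.leaf 373 9 [5, 7, 4, 6, 5, 12, 13, 9, 10, 8, 10, 10, 4, 7, 5, 5, 7, 4, 7, 4, 7]) (.leaf 401 5 [5, 6, 4, 6, 4, 4, 7, 4, 4, 13, 13, 10, 10, 9, 10, 9, 10, 10, 8, 11, 6, 5, 5, 5, 5])) (.node 1917 (.leaf 6 4 [5, 5, 5, 5, 5, 5, 5, 5, 5, 5, 5, 5, 5]) (.leaf 16 7 [7, 4, 6, 5, 7, 4, 6, 5, 7, 4, 6, 5, 7, 4, 6, 5, 7, 4, 6, 5, 7, 4, 6, 5, 7, 4, 6, 5, 7, 4, 6, 5]))) (.node 1920 (.node 1919 (.leaf 19 5 [7, 5, 7, 4, 7, 5, 7, 4, 7, 5, 7, 4, 7, 5, 7, 4, 7, 5, 7, 4, 7, 5, 7, 4, 7, 5, 7, 4, 7, 5, 7, 4]) (.leaf 299 9 [4, 4, 6, 4, 12, 13, 12, 13, 10, 9, 10, 8, 8, 10, 8, 5, 7, 4, 4, 4, 4, 4, 6, 4])) (.node 1921 (.leaf 11 14 [5, 6, 5, 6, 5, 6, 5, 6, 5, 6, 5, 6, 5, 6, 5, 6, 5, 6, 5, 6, 5, 6, 5, 6]) (.leaf 17 15 [6, 4, 6, 6, 6, 4, 6, 6, 6, 4, 6, 6, 6, 4, 6, 6, 6, 4, 6, 6, 6, 4, 6, 6, 6, 4, 6, 6, 6, 4, 6, 6])))) (.node 1926 (.node 1924 (.node 1923 (.leaf 79 7 [7, 7, 5, 5, 6, 14, 12, 10, 8, 8, 10, 8, 10, 9, 11, 6, 6, 4, 7, 4, 6, 4]) (.leaf 119 4 [4, 4, 6, 6, 6, 4, 7, 4, 12, 14, 12, 9, 10, 10, 9, 11, 9, 10, 6, 4, 7, 7])) (.node 1925 (.leaf 227 10 [5, 6, 4, 12, 14, 12, 8, 8, 10, 10, 6, 4, 7, 5, 6, 4, 4, 7, 5, 5]) (.leaf 235 7 [5, 5, 5, 6, 5, 5, 12, 10, 10, 9, 10, 9, 11, 9, 6, 5, 7, 5, 5, 5, 6]))) (.node 1928 (.node 1927 (.leaf 288 7 [4, 7, 7, 7, 4, 4, 12, 13, 13, 9, 11, 8, 10, 10, 8, 6, 6, 4, 6, 5, 7, 4]) (.leaf 335 5 [5, 6, 4, 4, 6, 6, 5, 6, 4, 12, 13, 13, 10, 10, 8, 11, 8, 11, 9, 10, 8, 6, 4, 6, 4, 7])) (.node 1929 (.leaf 349 8 [4, 7, 5, 7, 4, 4, 12, 13, 12, 13, 10, 9, 10, 8, 10, 10, 6, 4, 6, 4, 6, 6, 6, 6]) (.leaf 381 8 [4, 7, 4, 7, 5, 6, 12, 13, 13, 9, 11, 8, 8, 11, 9, 6, 5, 6, 5, 7, 7, 5, 6])))))) (.node 1946 (.node 1938 (.node 1934 (.node 1932 (.node 1931 (.leaf 398 8 [5, 7, 7, 4, 6, 5, 14, 14, 10, 10, 8, 11, 9, 10, 8, 6, 4, 4, 7, 4, 4, 4, 6]) (.leaf 458 9 [6, 6, 5, 6, 6, 12, 13, 8, 8, 10, 8, 11, 9, 10, 10, 6, 5, 6, 6, 6, 5, 6, 4, 4])) (.node 1933 (.leaf 20 24 [5, 7, 7, 7, 5, 7, 7, 7, 5, 7, 7, 7, 5, 7, 7, 7, 5, 7, 7, 7, 5, 7, 7, 7, 5, 7, 7, 7, 5, 7, 7, 7]) (.leaf 76 7 [4, 4, 7, 5, 7, 12, 13, 12, 10, 8, 11, 9, 10, 9, 10, 5, 5, 6, 5, 6, 4, 6]))) (.node 1936 (.node 1935 (.leaf 109 9 [6, 6, 6, 12, 14, 12, 11, 8, 11, 8, 10, 9, 6, 5, 7, 7, 7, 4, 4, 7, 4]) (.leaf 220 7 [7, 4, 4, 7, 5, 7, 8, 8, 10, 9, 10, 10, 9, 10, 6, 5, 7, 5, 6, 4, 4])) (.node 1937 (.leaf 90 4 [4, 6, 4, 4, 4, 7, 5, 5, 12, 13, 12, 8, 10, 8, 8, 10, 4, 4, 4, 6]) (.leaf 104 4 [4, 6, 6, 4, 7, 5, 5, 5, 12, 13, 12, 10, 8, 10, 9, 11, 8, 10, 8, 5, 5, 7, 7])))) (.node 1942 (.node 1940 (.node 1939 (.leaf 221 4 [6, 4, 6, 4, 4, 7, 5, 5, 5, 12, 13, 13, 10, 10, 8, 11, 9, 10, 8, 8, 7, 7, 5, 6]) (.leaf 225 3 [5, 5, 6, 4, 7, 7, 7, 4, 7, 7, 13, 12, 13, 8, 8, 10, 9, 10, 10, 9, 10, 5, 6, 6])) (.node 1941 (.leaf 229 3 [6, 5, 5, 6, 6, 6, 6, 5, 5, 7, 12, 13, 12, 8, 11, 8, 10, 10, 9, 10, 9, 10, 5, 6, 6]) (.leaf 237 3 [5, 7, 7, 4, 6, 4, 6, 5, 7, 7, 13, 12, 13, 8, 11, 8, 10, 9, 10, 8, 10, 10, 5, 5, 6]))) (.node 1944 (.node 1943 (.leaf 306 4 [4, 4, 6, 4, 4, 4, 7, 7, 5, 13, 12, 8, 10, 9, 10, 9, 10, 9, 4, 6, 6, 6]) (.leaf 343 4 [7, 5, 6, 6, 5, 7, 5, 7, 4, 4, 13, 12, 10, 9, 10, 8, 10, 10, 9, 11, 5, 5, 7, 4])) (.node 1945 (.leaf 372 8 [4, 7, 5, 5, 6, 5, 13, 12, 13, 9, 10, 8, 8, 10, 9, 10, 4, 7, 4, 4, 4, 7, 4, 6]) (.leaf 379 10 [7, 7, 4, 4, 13, 12, 10, 8, 8, 10, 8, 11, 8, 4, 7, 5, 5, 5, 5, 6, 6, 5, 7]))))) (.node 1954 (.node 1950 (.node 1948 (.node 1947 (.leaf 382 5 [6, 4, 4, 7, 4, 7, 4, 4, 4, 13, 12, 9, 10, 8, 8, 10, 5, 5, 6, 4, 6]) (.leaf 413 8 [4, 6, 5, 6, 4, 4, 12, 13, 13, 10, 9, 10, 8, 8, 6, 5, 5, 7, 4, 6, 6, 4])) (.node 1949 (.leaf 420 9 [5, 5, 7, 7, 5, 13, 13, 8, 8, 10, 8, 11, 9, 11, 4, 4, 4, 4, 6, 5, 7, 4, 7]) (.leaf 445 9 [6, 6, 6, 5, 5, 13, 12, 13, 8, 8, 10, 9, 11, 8, 10, 4, 7, 5, 7, 7, 4, 4, 7, 5]))) (.node 1952 (.node 1951 (.leaf 452 9 [6, 6, 4, 6, 6, 13, 8, 10, 8, 11, 8, 4, 7, 5, 5, 7, 5, 5, 6, 5]) (.leaf 457 8 [5, 7, 7, 5, 6, 4, 13, 8, 11, 8, 10, 9, 10, 8, 10, 5, 7, 4, 4, 4, 6, 6, 6])) (.node 1953 (.leaf 463 5 [4, 4, 7, 4, 7, 7, 7, 4, 4, 13, 12, 13, 9, 11, 9, 10, 8, 10, 9, 6, 6, 5, 5, 6]) (.leaf 472 2 [5, 6, 6, 4, 4, 4, 6, 5, 7, 7, 4, 4, 13, 13, 9, 10, 9, 10, 10, 7, 7])))) (.node 1958 (.node 1956 (.node 1955 (.leaf 51 4 [4, 6, 6, 5, 5, 6, 5, 12, 14, 8, 10, 8, 11, 9, 11, 6, 5, 7, 7]) (.leaf 59 4 [6, 4, 6, 5, 6, 4, 7, 12, 14, 14, 10, 9, 10, 9, 10, 10, 8, 7, 4, 6, 5])) (.node 1957 (.leaf 408 5 [6, 6, 5, 7, 4, 7, 7, 4, 4, 12, 14, 10, 9, 11, 8, 10, 9, 7, 7, 5, 5, 6]) (.leaf 13 9 [4, 4, 6, 4, 4, 6, 4, 4, 6, 4, 4, 6, 4, 4, 6, 4, 4, 6, 4, 4, 6, 4, 4, 6]))) (.node 1960 (.node 1959 (.leaf 15 26 [5, 6, 4, 6, 5, 6, 4, 6, 5, 6, 4, 6, 5, 6, 4, 6, 5, 6, 4, 6, 5, 6, 4, 6, 5, 6, 4, 6, 5, 6, 4, 6]) (.leaf 23 3 [6, 6, 6, 5, 6, 13, 12, 8, 10, 8, 11, 8, 8, 10, 4, 6, 6])) (.node 1961 (.leaf 67 6 [5, 7, 4, 4, 7, 14, 14, 10, 8, 8, 10, 9, 11, 9, 4, 7, 5, 7, 5, 6]) (.leaf 248 7 [4, 6, 5, 6, 6, 4, 12, 14, 12, 8, 10, 8, 11, 8, 4, 7, 5, 6, 4, 4, 4]))))))) (.node 1994 (.node 1978 (.node 1970 (.node 1966 (.node 1964 (.node 1963 (.leaf 306 7 [4, 4, 4, 7, 7, 5, 13, 12, 8, 10, 9, 10, 9, 10, 9, 4, 6, 6, 6, 4, 4, 6]) (.leaf 385 4 [5, 7, 5, 6, 6, 6, 6, 4, 6, 5, 12, 13, 13, 8, 10, 9, 10, 10, 8, 8, 4, 6, 6, 6])) (.node 1965 (.leaf 460 6 [4, 6, 6, 4, 4, 4, 6, 6, 13, 8, 8, 10, 9, 11, 8, 10, 4, 6, 6, 6, 4, 6]) (.leaf 17 2 [6, 6, 4, 6, 6, 6, 4, 6, 6, 6, 4, 6, 6, 6, 4, 6, 6, 6, 4, 6, 6, 6, 4, 6, 6, 6, 4, 6, 6, 6, 4, 6]))) (.node 1968 (.node 1967 (.leaf 17 7 [6, 4, 6, 6, 6, 4, 6, 6, 6, 4, 6, 6, 6, 4, 6, 6, 6, 4, 6, 6, 6, 4, 6, 6, 6, 4, 6, 6, 6, 4, 6, 6]) (.leaf 342 3 [5, 5, 6, 6, 6, 5, 6, 5, 5, 6, 6, 12, 13, 13, 8, 8, 11, 8, 10, 10, 5, 5, 6])) (.node 1969 (.leaf 101 4 [7, 7, 4, 4, 6, 5, 5, 6, 12, 13, 13, 8, 11, 8, 11, 8, 10, 10, 6, 4, 6, 5]) (.leaf 188 5 [5, 6, 6, 5, 6, 6, 5, 7, 12, 13, 12, 11, 8, 10, 9, 10, 8, 8, 6, 5, 6, 4, 6])))) (.node 1974 (.node 1972 (.node 1971 (.leaf 311 5 [4, 4, 7, 7, 5, 5, 5, 7, 12, 13, 13, 8, 11, 5, 5, 6, 4, 6]) (.leaf 335 4 [7, 5, 6, 4, 4, 6, 6, 5, 6, 4, 12, 13, 13, 10, 10, 8, 11, 8, 11, 9, 10, 8, 6, 4, 6, 4])) (.node 1973 (.leaf 361 7 [4, 4, 7, 5, 5, 6, 4, 13, 12, 8, 10, 8, 11, 9, 11, 8, 7, 7, 7, 4, 7, 4, 4]) (.leaf 434 6 [5, 6, 6, 5, 5, 6, 4, 7, 13, 13, 9, 11, 8, 10, 9, 10, 5, 7, 4, 7, 5, 6]))) (.node 1976 (.node 1975 (.leaf 436 9 [7, 5, 7, 7, 4, 12, 13, 13, 10, 9, 10, 9, 10, 10, 8, 6, 5, 7, 4, 6, 4, 6, 4, 7]) (.leaf 139 7 [4, 7, 4, 6, 6, 14, 9, 11, 8, 10, 9, 10, 10, 8, 11, 5, 5, 5, 6, 4, 6, 6])) (.node 1977 (.leaf 159 4 [6, 6, 6, 4, 7, 7, 5, 7, 7, 14, 14, 10, 8, 8, 10, 10, 8, 6, 5, 6, 5]) (.leaf 431 6 [7, 4, 4, 4, 4, 6, 4, 7, 14, 14, 10, 9, 10, 9, 11, 9, 10, 8, 11, 5, 6, 6, 5, 5, 5]))))) (.node 1986 (.node 1982 (.node 1980 (.node 1979 (.leaf 14 4 [5, 7, 5, 5, 7, 5, 5, 7, 5, 5, 7, 5, 5, 7, 5, 5, 7, 5, 5, 7, 5, 5, 7, 5]) (.leaf 20 7 [7, 5, 7, 7, 7, 5, 7, 7, 7, 5, 7, 7, 7, 5, 7, 7, 7, 5, 7, 7, 7, 5, 7, 7, 7, 5, 7, 7, 7, 5, 7, 7])) (.node 1981 (.leaf 130 9 [6, 5, 7, 13, 9, 10, 10, 8, 10, 9, 10, 9, 4, 4, 7, 5, 7, 4, 6, 5, 5]) (.leaf 72 4 [5, 6, 6, 6, 5, 7, 5, 6, 12, 13, 8, 8, 10, 9, 10, 9, 11, 9, 4, 4, 4, 7]))) (.node 1984 (.node 1983 (.leaf 166 5 [5, 6, 6, 6, 5, 7, 7, 5, 13, 13, 10, 8, 8, 10, 9, 5, 5, 7, 5, 5]) (.leaf 15 30 [5, 6, 4, 6, 5, 6, 4, 6, 5, 6, 4, 6, 5, 6, 4, 6, 5, 6, 4, 6, 5, 6, 4, 6, 5, 6, 4, 6, 5, 6, 4, 6])) (.node 1985 (.leaf 18 29 [7, 5, 6, 4, 7, 5, 6, 4, 7, 5, 6, 4, 7, 5, 6, 4, 7, 5, 6, 4, 7, 5, 6, 4, 7, 5, 6, 4, 7, 5, 6, 4]) (.leaf 17 10 [6, 6, 4, 6, 6, 6, 4, 6, 6, 6, 4, 6, 6, 6, 4, 6, 6, 6, 4, 6, 6, 6, 4, 6, 6, 6, 4, 6, 6, 6, 4, 6])))) (.node 1990 (.node 1988 (.node 1987 (.leaf 17 16 [4, 6, 6, 6, 4, 6, 6, 6, 4, 6, 6, 6, 4, 6, 6, 6, 4, 6, 6, 6, 4, 6, 6, 6, 4, 6, 6, 6, 4, 6, 6, 6]) (.leaf 13 12 [4, 4, 6, 4, 4, 6, 4, 4, 6, 4, 4, 6, 4, 4, 6, 4, 4, 6, 4, 4, 6, 4, 4, 6])) (.node 1989 (.leaf 16 8 [4, 6, 5, 7, 4, 6, 5, 7, 4, 6, 5, 7, 4, 6, 5, 7, 4, 6, 5, 7, 4, 6, 5, 7, 4, 6, 5, 7, 4, 6, 5, 7]) (.leaf 286 8 [5, 7, 4, 6, 5, 14, 10, 10, 8, 11, 8, 10, 4, 7, 5, 6, 6, 6, 6, 5]))) (.node 1992 (.node 1991 (.leaf 10 7 [7, 4, 7, 4, 7, 4, 7, 4, 7, 4, 7, 4, 7, 4, 7, 4, 7, 4, 7, 4, 7, 4, 7, 4]) (.leaf 14 0 [5, 5, 7, 5, 5, 7, 5, 5, 7, 5, 5, 7, 5, 5, 7, 5, 5, 7, 5, 5, 7, 5, 5, 7])) (.node 1993 (.leaf 332 8 [6, 5, 7, 7, 5, 5, 12, 13, 12, 8, 8, 10, 9, 11, 8, 8, 10, 4, 7, 5, 6, 6, 5, 6, 6]) (.leaf 18 8 [4, 7, 5, 6, 4, 7, 5, 6, 4, 7, 5, 6, 4, 7, 5, 6, 4, 7, 5, 6, 4, 7, 5, 6, 4, 7, 5, 6, 4, 7, 5, 6])))))) (.node 2010 (.node 2002 (.node 1998 (.node 1996 (.node 1995 (.leaf 217 7 [7, 4, 4, 6, 6, 6, 12, 14, 14, 8, 10, 8, 8, 10, 9, 11, 8, 4, 4, 6, 6, 4, 7, 4]) (.leaf 219 5 [5, 6, 6, 6, 4, 7, 7, 7, 14, 8, 10, 9, 10, 10, 8, 4, 7, 7, 7, 7])) (.node 1997 (.leaf 301 4 [4, 4, 4, 7, 7, 5, 5, 6, 4, 11, 8, 11, 6, 5, 6, 6]) (.leaf 15 16 [4, 6, 5, 6, 4, 6, 5, 6, 4, 6, 5, 6, 4, 6, 5, 6, 4, 6, 5, 6, 4, 6, 5, 6, 4, 6, 5, 6, 4, 6, 5, 6]))) (.node 2000 (.node 1999 (.leaf 17 26 [6, 6, 4, 6, 6, 6, 4, 6, 6, 6, 4, 6, 6, 6, 4, 6, 6, 6, 4, 6, 6, 6, 4, 6, 6, 6, 4, 6, 6, 6, 4, 6]) (.leaf 18 26 [5, 6, 4, 7, 5, 6, 4, 7, 5, 6, 4, 7, 5, 6, 4, 7, 5, 6, 4, 7, 5, 6, 4, 7, 5, 6, 4, 7, 5, 6, 4, 7])) (.node 2001 (.leaf 20 20 [5, 7, 7, 7, 5, 7, 7, 7, 5, 7, 7, 7, 5, 7, 7, 7, 5, 7, 7, 7, 5, 7, 7, 7, 5, 7, 7, 7, 5, 7, 7, 7]) (.leaf 268 5 [6, 4, 7, 4, 4, 7, 7, 5, 12, 14, 14, 8, 10, 9, 10, 9, 10, 7, 4, 4, 4, 4])))) (.node 2006 (.node 2004 (.node 2003 (.leaf 352 11 [4, 6, 5, 13, 9, 10, 8, 8, 11, 9, 10, 7, 7, 4, 7, 5, 6, 4, 7, 7, 7, 4]) (.leaf 484 9 [5, 5, 5, 6, 4, 12, 9, 10, 8, 10, 10, 8, 10, 10, 7, 4, 6, 4, 6, 6, 4, 7, 7])) (.node 2005 (.leaf 13 13 [4, 6, 4, 4, 6, 4, 4, 6, 4, 4, 6, 4, 4, 6, 4, 4, 6, 4, 4, 6, 4, 4, 6, 4]) (.leaf 301 2 [6, 6, 4, 4, 4, 7, 7, 5, 5, 6, 4, 11, 8, 11, 6, 5]))) (.node 2008 (.node 2007 (.leaf 359 3 [7, 7, 5, 6, 4, 4, 7, 7, 5, 6, 6, 14, 10, 10, 9, 10, 10, 8, 8, 4, 4, 4]) (.leaf 270 9 [5, 5, 5, 6, 13, 13, 8, 10, 8, 8, 10, 8, 8, 4, 6, 6, 5, 5, 6, 6, 6, 5])) (.node 2009 (.leaf 332 4 [6, 5, 6, 6, 6, 5, 7, 7, 5, 5, 12, 13, 12, 8, 8, 10, 9, 11, 8, 8, 10, 4, 7, 5, 6]) (.leaf 388 9 [7, 4, 4, 4, 4, 12, 13, 12, 13, 8, 8, 10, 10, 9, 10, 6, 6, 4, 4, 6, 4, 4, 4, 7]))))) (.node 2018 (.node 2014 (.node 2012 (.node 2011 (.leaf 397 6 [4, 6, 4, 6, 6, 4, 7, 7, 12, 13, 13, 8, 8, 10, 8, 10, 9, 10, 4, 4, 6, 5, 6, 4]) (.leaf 405 7 [5, 7, 4, 6, 4, 7, 4, 12, 13, 10, 10, 9, 10, 10, 8, 11, 8, 7, 4, 6, 5, 5, 5, 6])) (.node 2013 (.leaf 441 11 [7, 7, 7, 13, 12, 13, 11, 8, 10, 9, 10, 8, 11, 5, 5, 6, 5, 5, 7, 7, 4, 6, 6, 4]) (.leaf 16 30 [5, 7, 4, 6, 5, 7, 4, 6, 5, 7, 4, 6, 5, 7, 4, 6, 5, 7, 4, 6, 5, 7, 4, 6, 5, 7, 4, 6, 5, 7, 4, 6]))) (.node 2016 (.node 2015 (.leaf 141 17 [9, 5, 5, 7, 5, 7, 4, 4, 6, 6, 4, 6, 6, 9, 10, 8, 8, 10]) (.leaf 433 5 [4, 4, 4, 6, 5, 5, 5, 6, 5, 12, 13, 12, 10, 10, 8, 8, 11, 9, 10, 5, 6, 6, 6, 4])) (.node 2017 (.leaf 20 11 [7, 5, 7, 7, 7, 5, 7, 7, 7, 5, 7, 7, 7, 5, 7, 7, 7, 5, 7, 7, 7, 5, 7, 7, 7, 5, 7, 7, 7, 5, 7, 7]) (.leaf 103 16 [8, 11, 4, 7, 4, 6, 6, 4, 6, 5, 6, 4, 6, 5, 10, 10, 8, 11])))) (.node 2022 (.node 2020 (.node 2019 (.leaf 103 13 [10, 8, 11, 8, 11, 4, 7, 4, 6, 6, 4, 6, 5, 6, 4, 6, 5, 10]) (.leaf 308 13 [14, 12, 11, 8, 11, 8, 11, 5, 6, 5, 6, 6, 4, 4, 7, 5, 7, 5, 5, 7])) (.node 2021 (.leaf 62 13 [10, 10, 5, 6, 5, 5, 7, 4, 6, 4, 6, 5, 7, 14, 12]) (.leaf 72 12 [12, 13, 8, 8, 10, 9, 10, 9, 11, 9, 4, 4, 4, 7, 5, 6, 6, 6, 5, 7, 5, 6]))) (.node 2024 (.node 2023 (.leaf 225 13 [13, 12, 13, 8, 8, 10, 9, 10, 10, 9, 10, 5, 6, 6, 5, 5, 6, 4, 7, 7, 7, 4, 7, 7]) (.leaf 254 7 [4, 6, 5, 5, 5, 6, 13, 12, 13, 8, 8, 10, 9, 11, 8, 6, 6, 4, 6, 4, 7, 4])) (.node 2025 (.leaf 351 4 [4, 7, 7, 4, 4, 7, 5, 6, 4, 4, 12, 13, 12, 13, 8, 10, 8, 11, 8, 11, 8, 8, 4, 4, 6, 4]) (.leaf 186 9 [6, 6, 4, 7, 12, 14, 14, 8, 8, 11, 9, 10, 9, 6, 5, 7, 4, 4, 4, 4, 7, 4]))))))))))))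

theorem b0 : allR (guardB 40 (blk fc sc rt.get Cfsg.Agent.Lib.Helper3.Ru.INV isH)) 5 0 = true := by decide +kernel
theorem b1 : allR (guardB 40 (blk fc sc rt.get Cfsg.Agent.Lib.Helper3.Ru.INV isH)) 5 32 = true := by decide +kernel
theorem c0 : allR (guardB 72 (cblk fc nc cc 10240 2304 79228162514264337593543950336 gens)) 5 0 = true := by decide +kernel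
theorem c1 : allR (guardB 72 (cblk fc nc cc 10240 2304 79228162514264337593543950336 gens)) 5 32 = true := by decide +kernel
theorem c2 : allR (guardB 72 (cblk fc nc cc 10240 2304 79228162514264337593543950336 gens)) 5 64 = true := by decide +kernel
theorem c3 : allR (guardB 72 (cblk fc nc cc 10240 2304 79228162514264337593543950336 gens)) 5 96 = true := by decide +kernel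

theorem chkAll : ∀ j < 40, blk fc sc rt.get Cfsg.Agent.Lib.Helper3.Ru.INV isH j = true :=
  guardB_spec (D := 6) (allR_join b0 b1 (by norm_num)) (by norm_num)

theorem clAll : ∀ jb < 72, cblk fc nc cc (256 * 40) 2304 79228162514264337593543950336 gens jb = true :=
  guardB_spec (D := 7) (allR_join (allR_join c0 c1 (by norm_num)) (allR_join c2 c3 (by norm_num)) (by norm_num)) (by norm_num)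

theorem hid_0 : BR_0.all (wordId (ntOf Cfsg.Agent.Lib.Helper3.Ru.ntl) 12) = true := by decide +kernel
theorem hid_1 : BR_1.all (wordId (ntOf Cfsg.Agent.Lib.Helper3.Ru.ntl) 12) = true := by decide +kernel
theorem hid_2 : BR_2.all (wordId (ntOf Cfsg.Agent.Lib.Helper3.Ru.ntl) 12) = true := by decide +kernel
theorem hid_3 : BR_3.all (wordId (ntOf Cfsg.Agent.Lib.Helper3.Ru.ntl) 12) = true := by decide +kernel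
theorem hid_4 : BR_4.all (wordId (ntOf Cfsg.Agent.Lib.Helper3.Ru.ntl) 12) = true := by decide +kernel
theorem hid_5 : BR_5.all (wordId (ntOf Cfsg.Agent.Lib.Helper3.Ru.ntl) 12) = true := by decide +kernel
theorem hid_6 : BR_6.all (wordId (ntOf Cfsg.Agent.Lib.Helper3.Ru.ntl) 12) = true := by decide +kernel
theorem hid_7 : BR_7.all (wordId (ntOf Cfsg.Agent.Lib.Helper3.Ru.ntl) 12) = true := by decide +kernel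
theorem hid_8 : BR_8.all (wordId (ntOf Cfsg.Agent.Lib.Helper3.Ru.ntl) 12) = true := by decide +kernel
theorem hid_9 : BR_9.all (wordId (ntOf Cfsg.Agent.Lib.Helper3.Ru.ntl) 12) = true := by decide +kernel
theorem hid : BR.all (wordId (ntOf Cfsg.Agent.Lib.Helper3.Ru.ntl) 12) = true := by
  simp only [BR, List.all_append, hid_0, hid_1, hid_2, hid_3, hid_4, hid_5, hid_6, hid_7, hid_8, hid_9, Bool.and_self]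

theorem card_eq : Nat.card (lgrp (vL Cfsg.Agent.Lib.Helper3.Ru.ntl Cfsg.Agent.Lib.Helper3.Ru.deg) gens) = 2304 * Nat.card (lgrp (vL Cfsg.Agent.Lib.Helper3.Ru.ntl Cfsg.Agent.Lib.Helper3.Ru.deg) hl) :=
  Cfsg.Agent.Lib.Helper3.Ru.setup.level gens hl dl BR (by decide +kernel) (by decide +kernel) hid (by decide +kernel)
    (by decide +kernel) rt (by decide +kernel) isH (fun l h => of_decide_eq_true h) fc sc nc cc 40 72 2304 79228162514264337593543950336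
    (by norm_num) (by norm_num) (by decide +kernel) (by decide) chkAll clAll
    1 1 10 (by norm_num [Cfsg.Agent.Lib.Helper3.Ru.deg]) (by norm_num [Cfsg.Agent.Lib.Helper3.Ru.deg]) (by decide +kernel) (by decide +kernel)

theorem ub {M : Type*} [Group M] (w : ℕ → M) (h0 : w 0 = 1) (hinv : ∀ l, w (invL Cfsg.Agent.Lib.Helper3.Ru.INV l) = (w l)⁻¹)
    (hBR : ∀ r ∈ BR, (r.map w).prod = 1)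
    (hdlr : ∀ r ∈ dl.map (fun p => p.1 ++ [p.2]), (r.map w).prod = 1) (N : ℕ) (hN : Bd w hl N) :
    Bd w gens (2304 * N) :=
  level_bd w Cfsg.Agent.Lib.Helper3.Ru.INV h0 hinv gens hl dl BR (by decide +kernel) hdlr hBR (by decide +kernel) (by decide +kernel)
    rt (by decide +kernel) isH (fun l h => of_decide_eq_true h) fc sc nc cc 40 72 2304 79228162514264337593543950336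
    (by norm_num) (by norm_num) (by decide +kernel) (by decide) chkAll clAll N hN

end Cfsg.Agent.Lib.Helper3.Ru.L2
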