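import Cfsg.Agent.Lib.Helper3.Ru.L3D
import Cfsg.Agent.Lib.Helper3.Ru.Net

set_option autoImplicit false
set_option maxRecDepth 100000

namespace Cfsg.Agent.Lib.Helper3.Ru.L3

open Cfsg.Agent.Lib.Helper11 Cfsg.Agent.Lib.Helper3

set_option maxHeartbeats 0
set_option Elab.async false

noncomputable def fc (i : ℕ) : ℕ := (Bool.rec (fc0_0 i) (fc0_1 i) (Nat.ble 16 i))
noncomputable def sc (i : ℕ) : ℕ := (Bool.rec (sc0_0 i) (sc0_1 i) (Nat.ble 16 i))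
noncomputable def nc (i : ℕ) : ℕ := (nc0_0 i)
noncomputable def cc (i : ℕ) : ℕ := (Bool.rec (cc0_0 i) (cc0_1 i) (Nat.ble 16 i))

def isH (l : ℕ) : Bool := decide (l ∈ [12, 13])
def gens : List ℕ := [8, 10]
def hl : List ℕ := [12, 13]
def dl : List (List ℕ × ℕ) := [([8], 9), ([10], 11), ([11, 8, 8, 10], 12), ([10, 8, 10, 9, 10, 8, 11, 8, 10], 14), ([14], 13)]
def BR_0 : List (List ℕ) := [[], [11, 8, 8, 10, 12], [10, 8, 10, 9, 10, 8, 11, 8, 10, 14], [8, 8, 8, 8], [9, 9, 9, 9], [10, 10, 10, 10], [11, 11, 11, 11], [8, 10, 8, 10, 8, 10, 8, 10], [8, 11, 8, 11, 8, 11, 8, 11, 8, 11, 8, 11, 8, 11, 8, 11, 8, 11, 8, 11, 8, 11, 8, 11], [9, 10, 9, 10, 9, 10, 9, 10, 9, 10, 9, 10, 9, 10, 9, 10, 9, 10, 9, 10, 9, 10, 9, 10], [9, 11, 9, 11, 9, 11, 9, 11], [8, 8,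 10, 8, 8, 10, 8, 8, 10, 8, 8, 10, 8, 8, 10, 8, 8, 10, 8, 8, 10, 8, 8, 10, 8, 8, 10, 8, 8, 10, 8, 8, 10, 8, 8, 10], [8, 8, 11, 8, 8, 11, 8, 8, 11, 8, 8, 11, 8, 8, 11, 8, 8, 11, 8, 8, 11, 8, 8, 11, 8, 8, 11, 8, 8, 11, 8, 8, 11, 8, 8, 11], [8, 10, 10, 8, 10, 10, 8, 10, 10, 8, 10, 10, 8, 10, 10, 8, 10, 10, 8, 10, 10, 8, 10, 10, 8, 10, 10, 8, 10, 10, 8, 10, 10, 8, 10, 10, 8, 10, 10], [8, 11, 11, 8, 11, 11, 8, 11, 11, 8, 11, 11, 8, 11, 11, 8, 11, 11, 8, 11, 11, 8, 11, 11, 8, 11, 11, 8, 11, 11, 8, 11, 11, 8, 11, 11, 8, 11, 11], [9, 9, 10, 9, 9, 10, 9, 9, 10, 9, 9, 10, 9, 9, 10, 9, 9, 10, 9, 9, 10, 9, 9, 10, 9, 9, 10, 9, 9, 10, 9, 9, 10, 9, 9, 10], [9, 9, 11, 9, 9, 11, 9, 9, 11, 9, 9, 11, 9, 9, 11, 9, 9, 11, 9, 9, 11, 9, 9, 11, 9, 9, 11, 9, 9, 11, 9, 9,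 11, 9, 9, 11], [9, 10, 10, 9, 10, 10, 9, 10, 10, 9, 10, 10, 9, 10, 10, 9, 10, 10, 9, 10, 10, 9, 10, 10, 9, 10, 10, 9, 10, 10, 9, 10, 10, 9, 10, 10, 9, 10, 10], [9, 11, 11, 9, 11, 11, 9, 11, 11, 9, 11, 11, 9, 11, 11, 9, 11, 11, 9, 11, 11, 9, 11, 11, 9, 11, 11, 9, 11, 11, 9, 11, 11, 9, 11, 11, 9, 11, 11], [8, 8, 8, 11, 8, 8, 8, 11, 8, 8, 8, 11, 8, 8, 8, 11], [8, 10, 8, 11, 8, 10, 8, 11, 8, 10, 8, 11], [8, 10, 9, 11, 8, 10, 9, 11, 8, 10, 9, 11, 8, 10, 9, 11, 8, 10, 9, 11], [8, 11, 8, 11, 8, 11, 8, 11, 8, 11, 8, 11, 8, 11, 8, 11, 8, 11, 8, 11, 8, 11, 8, 11], [8, 11, 9, 10, 8, 11, 9, 10, 8, 11, 9, 10, 8, 11, 9, 10, 8, 11, 9, 10], [8, 11, 11, 11, 8, 11, 11, 11, 8, 11, 11, 11, 8, 11, 11, 11], [9, 9, 9, 10, 9, 9, 9, 10, 9, 9, 9, 10, 9, 9, 9, 10], [9, 10,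 9, 10, 9, 10, 9, 10, 9, 10, 9, 10, 9, 10, 9, 10, 9, 10, 9, 10, 9, 10, 9, 10], [9, 10, 9, 11, 9, 10, 9, 11, 9, 10, 9, 11], [9, 10, 10, 10, 9, 10, 10, 10, 9, 10, 10, 10, 9, 10, 10, 10], [9, 11, 9, 11, 9, 11, 9, 11], [11, 11, 11, 11], [10, 8, 8, 11, 8, 11, 9, 11, 8, 12]]
def BR : List (List ℕ) := BR_0
set_option maxRecDepth 10000000 in
noncomputable def rt : RT := (.node 124 (.node 62 (.node 31 (.node 15 (.node 7 (.node 3 (.node 1 (.leaf 0 0 []) (.node 2 (.leaf 1 4 [12, 11, 8, 8, 10]) (.leaf 3 2 [8, 8, 8, 8]))) (.node 5 (.node 4 (.leaf 10 4 [9, 11, 9, 11, 9, 11, 9, 11]) (.leaf 27 6 [9, 11, 9, 10, 9, 11, 9, 10, 9, 11, 9, 10])) (.node 6 (.leaf 5 2 [10, 10, 10, 10]) (.leaf 1 2 [8, 10, 12, 11, 8])))) (.node 11 (.node 9 (.node 8 (.leaf 2 4 [10, 8, 11, 8,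 10, 14, 10, 8, 10, 9]) (.leaf 23 12 [8, 11, 9, 10, 8, 11, 9, 10, 8, 11, 9, 10, 8, 11, 9, 10, 8, 11, 9, 10])) (.node 10 (.leaf 7 4 [8, 10, 8, 10, 8, 10, 8, 10]) (.leaf 20 6 [8, 11, 8, 10, 8, 11, 8, 10, 8, 11, 8, 10]))) (.node 13 (.node 12 (.leaf 20 8 [8, 10, 8, 11, 8, 10, 8, 11, 8, 10, 8, 11]) (.leaf 1 1 [8, 8, 10, 12, 11])) (.node 14 (.leaf 25 5 [9, 9, 10, 9, 9, 9, 10, 9, 9, 9, 10, 9, 9, 9, 10, 9]) (.leaf 20 7 [11, 8, 10, 8, 11, 8, 10, 8, 11, 8, 10, 8]))))) (.node 23 (.node 19 (.node 17 (.node 16 (.leaf 7 3 [10, 8, 10, 8, 10, 8, 10, 8]) (.leaf 20 3 [11, 8, 10, 8, 11, 8, 10, 8, 11, 8, 10, 8])) (.node 18 (.leaf 28 6 [10, 10, 9, 10, 10, 10, 9, 10, 10, 10, 9, 10, 10, 10, 9, 10]) (.leaf 24 5 [11, 11, 11, 8, 11, 11, 11, 8, 11, 11, 11, 8, 11, 11, 11, 8])))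 (.node 21 (.node 20 (.leaf 28 5 [10, 10, 10, 9, 10, 10, 10, 9, 10, 10, 10, 9, 10, 10, 10, 9]) (.leaf 25 4 [9, 9, 9, 10, 9, 9, 9, 10, 9, 9, 9, 10, 9, 9, 9, 10])) (.node 22 (.leaf 6 1 [11, 11, 11, 11]) (.leaf 24 10 [11, 11, 8, 11, 11, 11, 8, 11, 11, 11, 8, 11, 11, 11, 8, 11])))) (.node 27 (.node 25 (.node 24 (.leaf 4 1 [9, 9, 9, 9]) (.leaf 3 1 [8, 8, 8, 8])) (.node 26 (.leaf 31 4 [8, 11, 9, 11, 8, 12, 10, 8, 8, 11]) (.leaf 31 7 [11, 8, 12, 10, 8, 8, 11, 8, 11, 9]))) (.node 29 (.node 28 (.leaf 31 9 [12, 10, 8, 8, 11, 8, 11, 9, 11, 8]) (.leaf 31 0 [10, 8, 8, 11, 8, 11, 9, 11, 8, 12])) (.node 30 (.leaf 31 8 [8, 12, 10, 8, 8, 11, 8, 11, 9, 11]) (.leaf 31 1 [8, 8, 11, 8, 11, 9, 11, 8, 12, 10])))))) (.node 46 (.node 38 (.node 34 (.node 32 (.leaf 31 2 [8,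 11, 8, 11, 9, 11, 8, 12, 10, 8]) (.node 33 (.leaf 31 5 [11, 9, 11, 8, 12, 10, 8, 8, 11, 8]) (.leaf 31 3 [11, 8, 11, 9, 11, 8, 12, 10, 8, 8]))) (.node 36 (.node 35 (.leaf 31 6 [9, 11, 8, 12, 10, 8, 8, 11, 8, 11]) (.leaf 20 4 [8, 10, 8, 11, 8, 10, 8, 11, 8, 10, 8, 11])) (.node 37 (.leaf 20 9 [10, 8, 11, 8, 10, 8, 11, 8, 10, 8, 11, 8]) (.leaf 6 2 [11, 11, 11, 11])))) (.node 42 (.node 40 (.node 39 (.leaf 1 0 [11, 8, 8, 10, 12]) (.leaf 5 1 [10, 10, 10, 10])) (.node 41 (.leaf 7 6 [8, 10, 8, 10, 8, 10, 8, 10]) (.leaf 19 9 [8, 8, 11, 8, 8, 8, 11, 8, 8, 8, 11, 8, 8, 8, 11, 8]))) (.node 44 (.node 43 (.leaf 28 0 [9, 10, 10, 10, 9, 10, 10, 10, 9, 10, 10, 10, 9, 10, 10, 10]) (.leaf 10 3 [11, 9, 11, 9, 11, 9, 11, 9])) (.node 45 (.leaf 3 3 [8, 8, 8, 8]) (.leaf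 19 1 [8, 8, 11, 8, 8, 8, 11, 8, 8, 8, 11, 8, 8, 8, 11, 8]))))) (.node 54 (.node 50 (.node 48 (.node 47 (.leaf 4 3 [9, 9, 9, 9]) (.leaf 1 3 [10, 12, 11, 8, 8])) (.node 49 (.leaf 10 6 [9, 11, 9, 11, 9, 11, 9, 11]) (.leaf 19 13 [8, 8, 11, 8, 8, 8, 11, 8, 8, 8, 11, 8, 8, 8, 11, 8]))) (.node 52 (.node 51 (.leaf 20 10 [8, 11, 8, 10, 8, 11, 8, 10, 8, 11, 8, 10]) (.leaf 25 9 [9, 9, 10, 9, 9, 9, 10, 9, 9, 9, 10, 9, 9, 9, 10, 9])) (.node 53 (.leaf 27 5 [10, 9, 11, 9, 10, 9, 11, 9, 10, 9, 11, 9]) (.leaf 24 14 [11, 11, 8, 11, 11, 11, 8, 11, 11, 11, 8, 11, 11, 11, 8, 11])))) (.node 58 (.node 56 (.node 55 (.leaf 19 14 [8, 11, 8, 8, 8, 11, 8, 8, 8, 11, 8, 8, 8, 11, 8, 8]) (.leaf 7 5 [10, 8, 10, 8, 10, 8, 10, 8])) (.node 57 (.leaf 23 14 [9, 10, 8, 11, 9, 10, 8,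 11, 9, 10, 8, 11, 9, 10, 8, 11, 9, 10, 8, 11]) (.leaf 27 11 [11, 9, 10, 9, 11, 9, 10, 9, 11, 9, 10, 9]))) (.node 60 (.node 59 (.leaf 29 5 [11, 9, 11, 9, 11, 9, 11, 9]) (.leaf 20 0 [8, 10, 8, 11, 8, 10, 8, 11, 8, 10, 8, 11])) (.node 61 (.leaf 25 13 [9, 9, 10, 9, 9, 9, 10, 9, 9, 9, 10, 9, 9, 9, 10, 9]) (.leaf 4 2 [9, 9, 9, 9]))))))) (.node 93 (.node 77 (.node 69 (.node 65 (.node 63 (.leaf 10 5 [11, 9, 11, 9, 11, 9, 11, 9]) (.node 64 (.leaf 27 7 [11, 9, 10, 9, 11, 9, 10, 9, 11, 9, 10, 9]) (.leaf 7 2 [8, 10, 8, 10, 8, 10, 8, 10]))) (.node 67 (.node 66 (.leaf 25 0 [9, 9, 9, 10, 9, 9, 9, 10, 9, 9, 9, 10, 9, 9, 9, 10]) (.leaf 27 8 [9, 10, 9, 11, 9, 10, 9, 11, 9, 10, 9, 11])) (.node 68 (.leaf 27 10 [9, 11, 9, 10, 9, 11, 9, 10, 9, 11, 9, 10]) (.leaf 19 4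 [8, 8, 8, 11, 8, 8, 8, 11, 8, 8, 8, 11, 8, 8, 8, 11])))) (.node 73 (.node 71 (.node 70 (.leaf 23 9 [11, 9, 10, 8, 11, 9, 10, 8, 11, 9, 10, 8, 11, 9, 10, 8, 11, 9, 10, 8]) (.leaf 21 17 [10, 9, 11, 8, 10, 9, 11, 8, 10, 9, 11, 8, 10, 9, 11, 8, 10, 9, 11, 8])) (.node 72 (.leaf 8 8 [8, 11, 8, 11, 8, 11, 8, 11, 8, 11, 8, 11, 8, 11, 8, 11, 8, 11, 8, 11, 8, 11, 8, 11]) (.leaf 8 17 [11, 8, 11, 8, 11, 8, 11, 8, 11, 8, 11, 8, 11, 8, 11, 8, 11, 8, 11, 8, 11, 8, 11, 8]))) (.node 75 (.node 74 (.leaf 20 1 [10, 8, 11, 8, 10, 8, 11, 8, 10, 8, 11, 8]) (.leaf 10 2 [9, 11, 9, 11, 9, 11, 9, 11])) (.node 76 (.leaf 7 7 [10, 8, 10, 8, 10, 8, 10, 8]) (.leaf 24 13 [11, 11, 11, 8, 11, 11, 11, 8, 11, 11, 11, 8, 11, 11, 11, 8]))))) (.node 85 (.node 81 (.node 79 (.node 78 (.leaf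 9 17 [10, 9, 10, 9, 10, 9, 10, 9, 10, 9, 10, 9, 10, 9, 10, 9, 10, 9, 10, 9, 10, 9, 10, 9]) (.leaf 10 0 [9, 11, 9, 11, 9, 11, 9, 11])) (.node 80 (.leaf 11 11 [10, 8, 8, 10, 8, 8, 10, 8, 8, 10, 8, 8, 10, 8, 8, 10, 8, 8, 10, 8, 8, 10, 8, 8, 10, 8, 8, 10, 8, 8, 10, 8, 8, 10, 8, 8]) (.leaf 19 5 [8, 8, 11, 8, 8, 8, 11, 8, 8, 8, 11, 8, 8, 8, 11, 8]))) (.node 83 (.node 82 (.leaf 28 15 [10, 9, 10, 10, 10, 9, 10, 10, 10, 9, 10, 10, 10, 9, 10, 10]) (.leaf 12 2 [11, 8, 8, 11, 8, 8, 11, 8, 8, 11, 8, 8, 11, 8, 8, 11, 8, 8, 11, 8, 8, 11, 8, 8, 11, 8, 8, 11, 8, 8, 11, 8, 8, 11, 8, 8])) (.node 84 (.leaf 8 15 [11, 8, 11, 8, 11, 8, 11, 8, 11, 8, 11, 8, 11, 8, 11, 8, 11, 8, 11, 8, 11, 8, 11, 8]) (.leaf 21 4 [8, 10, 9, 11, 8, 10, 9, 11, 8, 10, 9, 11, 8, 10, 9, 11, 8,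 10, 9, 11])))) (.node 89 (.node 87 (.node 86 (.leaf 23 6 [9, 10, 8, 11, 9, 10, 8, 11, 9, 10, 8, 11, 9, 10, 8, 11, 9, 10, 8, 11]) (.leaf 27 4 [9, 10, 9, 11, 9, 10, 9, 11, 9, 10, 9, 11])) (.node 88 (.leaf 19 3 [11, 8, 8, 8, 11, 8, 8, 8, 11, 8, 8, 8, 11, 8, 8, 8]) (.leaf 24 3 [11, 8, 11, 11, 11, 8, 11, 11, 11, 8, 11, 11, 11, 8, 11, 11]))) (.node 91 (.node 90 (.leaf 7 1 [10, 8, 10, 8, 10, 8, 10, 8]) (.leaf 27 9 [10, 9, 11, 9, 10, 9, 11, 9, 10, 9, 11, 9])) (.node 92 (.leaf 25 2 [9, 10, 9, 9, 9, 10, 9, 9, 9, 10, 9, 9, 9, 10, 9, 9]) (.leaf 19 12 [8, 8, 8, 11, 8, 8, 8, 11, 8, 8, 8, 11, 8, 8, 8, 11])))))) (.node 108 (.node 100 (.node 96 (.node 94 (.leaf 21 6 [9, 11, 8, 10, 9, 11, 8, 10, 9, 11, 8, 10, 9, 11, 8, 10, 9, 11, 8, 10]) (.node 95 (.leaf 19 8 [8,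 8, 8, 11, 8, 8, 8, 11, 8, 8, 8, 11, 8, 8, 8, 11]) (.leaf 20 11 [11, 8, 10, 8, 11, 8, 10, 8, 11, 8, 10, 8]))) (.node 98 (.node 97 (.leaf 20 5 [10, 8, 11, 8, 10, 8, 11, 8, 10, 8, 11, 8]) (.leaf 9 10 [9, 10, 9, 10, 9, 10, 9, 10, 9, 10, 9, 10, 9, 10, 9, 10, 9, 10, 9, 10, 9, 10, 9, 10])) (.node 99 (.leaf 24 15 [11, 8, 11, 11, 11, 8, 11, 11, 11, 8, 11, 11, 11, 8, 11, 11]) (.leaf 25 15 [10, 9, 9, 9, 10, 9, 9, 9, 10, 9, 9, 9, 10, 9, 9, 9])))) (.node 104 (.node 102 (.node 101 (.leaf 29 4 [9, 11, 9, 11, 9, 11, 9, 11]) (.leaf 25 14 [9, 10, 9, 9, 9, 10, 9, 9, 9, 10, 9, 9, 9, 10, 9, 9])) (.node 103 (.leaf 12 22 [8, 11, 8, 8, 11, 8, 8, 11, 8, 8, 11, 8, 8, 11, 8, 8, 11, 8, 8, 11, 8, 8, 11, 8, 8, 11, 8, 8, 11, 8, 8, 11, 8, 8, 11, 8]) (.leaf 24 9 [11, 11, 11, 8,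 11, 11, 11, 8, 11, 11, 11, 8, 11, 11, 11, 8]))) (.node 106 (.node 105 (.leaf 19 15 [11, 8, 8, 8, 11, 8, 8, 8, 11, 8, 8, 8, 11, 8, 8, 8]) (.leaf 15 30 [9, 9, 10, 9, 9, 10, 9, 9, 10, 9, 9, 10, 9, 9, 10, 9, 9, 10, 9, 9, 10, 9, 9, 10, 9, 9, 10, 9, 9, 10, 9, 9, 10, 9, 9, 10])) (.node 107 (.leaf 12 12 [8, 8, 11, 8, 8, 11, 8, 8, 11, 8, 8, 11, 8, 8, 11, 8, 8, 11, 8, 8, 11, 8, 8, 11, 8, 8, 11, 8, 8, 11, 8, 8, 11, 8, 8, 11]) (.leaf 9 15 [10, 9, 10, 9, 10, 9, 10, 9, 10, 9, 10, 9, 10, 9, 10, 9, 10, 9, 10, 9, 10, 9, 10, 9]))))) (.node 116 (.node 112 (.node 110 (.node 109 (.leaf 8 16 [8, 11, 8, 11, 8, 11, 8, 11, 8, 11, 8, 11, 8, 11, 8, 11, 8, 11, 8, 11, 8, 11, 8, 11]) (.leaf 23 10 [9, 10, 8, 11, 9, 10, 8, 11, 9, 10, 8, 11, 9, 10, 8, 11, 9, 10, 8, 11])) (.node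 111 (.leaf 16 24 [9, 9, 11, 9, 9, 11, 9, 9, 11, 9, 9, 11, 9, 9, 11, 9, 9, 11, 9, 9, 11, 9, 9, 11, 9, 9, 11, 9, 9, 11, 9, 9, 11, 9, 9, 11]) (.leaf 28 14 [10, 10, 9, 10, 10, 10, 9, 10, 10, 10, 9, 10, 10, 10, 9, 10]))) (.node 114 (.node 113 (.leaf 23 13 [11, 9, 10, 8, 11, 9, 10, 8, 11, 9, 10, 8, 11, 9, 10, 8, 11, 9, 10, 8]) (.leaf 27 1 [10, 9, 11, 9, 10, 9, 11, 9, 10, 9, 11, 9])) (.node 115 (.leaf 24 6 [11, 11, 8, 11, 11, 11, 8, 11, 11, 11, 8, 11, 11, 11, 8, 11]) (.leaf 30 1 [11, 11, 11, 11])))) (.node 120 (.node 118 (.node 117 (.leaf 21 9 [10, 9, 11, 8, 10, 9, 11, 8, 10, 9, 11, 8, 10, 9, 11, 8, 10, 9, 11, 8]) (.leaf 19 7 [11, 8, 8, 8, 11, 8, 8, 8, 11, 8, 8, 8, 11, 8, 8, 8])) (.node 119 (.leaf 12 8 [11, 8, 8, 11, 8, 8, 11, 8, 8, 11, 8, 8, 11, 8, 8,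 11, 8, 8, 11, 8, 8, 11, 8, 8, 11, 8, 8, 11, 8, 8, 11, 8, 8, 11, 8, 8]) (.leaf 19 10 [8, 11, 8, 8, 8, 11, 8, 8, 8, 11, 8, 8, 8, 11, 8, 8]))) (.node 122 (.node 121 (.leaf 21 7 [11, 8, 10, 9, 11, 8, 10, 9, 11, 8, 10, 9, 11, 8, 10, 9, 11, 8, 10, 9]) (.leaf 16 8 [11, 9, 9, 11, 9, 9, 11, 9, 9, 11, 9, 9, 11, 9, 9, 11, 9, 9, 11, 9, 9, 11, 9, 9, 11, 9, 9, 11, 9, 9, 11, 9, 9, 11, 9, 9])) (.node 123 (.leaf 25 7 [10, 9, 9, 9, 10, 9, 9, 9, 10, 9, 9, 9, 10, 9, 9, 9]) (.leaf 28 9 [10, 10, 10, 9, 10, 10, 10, 9, 10, 10, 10, 9, 10, 10, 10, 9])))))))) (.node 186 (.node 155 (.node 139 (.node 131 (.node 127 (.node 125 (.leaf 24 8 [8, 11, 11, 11, 8, 11, 11, 11, 8, 11, 11, 11, 8, 11, 11, 11]) (.node 126 (.leaf 6 3 [11, 11, 11, 11]) (.leaf 8 13 [11, 8, 11, 8, 11, 8, 11,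 8, 11, 8, 11, 8, 11, 8, 11, 8, 11, 8, 11, 8, 11, 8, 11, 8]))) (.node 129 (.node 128 (.leaf 15 19 [9, 10, 9, 9, 10, 9, 9, 10, 9, 9, 10, 9, 9, 10, 9, 9, 10, 9, 9, 10, 9, 9, 10, 9, 9, 10, 9, 9, 10, 9, 9, 10, 9, 9, 10, 9]) (.leaf 19 6 [8, 11, 8, 8, 8, 11, 8, 8, 8, 11, 8, 8, 8, 11, 8, 8])) (.node 130 (.leaf 28 7 [10, 9, 10, 10, 10, 9, 10, 10, 10, 9, 10, 10, 10, 9, 10, 10]) (.leaf 11 10 [8, 10, 8, 8, 10, 8, 8, 10, 8, 8, 10, 8, 8, 10, 8, 8, 10, 8, 8, 10, 8, 8, 10, 8, 8, 10, 8, 8, 10, 8, 8, 10, 8, 8, 10, 8])))) (.node 135 (.node 133 (.node 132 (.leaf 12 26 [11, 8, 8, 11, 8, 8, 11, 8, 8, 11, 8, 8, 11, 8, 8, 11, 8, 8, 11, 8, 8, 11, 8, 8, 11, 8, 8, 11, 8, 8, 11, 8, 8, 11, 8, 8]) (.leaf 13 10 [10, 10, 8, 10, 10, 8, 10, 10, 8, 10, 10, 8, 10, 10, 8, 10, 10, 8,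 10, 10, 8, 10, 10, 8, 10, 10, 8, 10, 10, 8, 10, 10, 8, 10, 10, 8, 10, 10, 8])) (.node 134 (.leaf 9 13 [10, 9, 10, 9, 10, 9, 10, 9, 10, 9, 10, 9, 10, 9, 10, 9, 10, 9, 10, 9, 10, 9, 10, 9]) (.leaf 23 1 [11, 9, 10, 8, 11, 9, 10, 8, 11, 9, 10, 8, 11, 9, 10, 8, 11, 9, 10, 8]))) (.node 137 (.node 136 (.leaf 15 24 [9, 9, 10, 9, 9, 10, 9, 9, 10, 9, 9, 10, 9, 9, 10, 9, 9, 10, 9, 9, 10, 9, 9, 10, 9, 9, 10, 9, 9, 10, 9, 9, 10, 9, 9, 10]) (.leaf 16 6 [9, 9, 11, 9, 9, 11, 9, 9, 11, 9, 9, 11, 9, 9, 11, 9, 9, 11, 9, 9, 11, 9, 9, 11, 9, 9, 11, 9, 9, 11, 9, 9, 11, 9, 9, 11])) (.node 138 (.leaf 16 33 [9, 9, 11, 9, 9, 11, 9, 9, 11, 9, 9, 11, 9, 9, 11, 9, 9, 11, 9, 9, 11, 9, 9, 11, 9, 9, 11, 9, 9, 11, 9, 9, 11, 9, 9, 11]) (.leaf 21 15 [11, 8, 10, 9, 11, 8, 10, 9, 11,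 8, 10, 9, 11, 8, 10, 9, 11, 8, 10, 9]))))) (.node 147 (.node 143 (.node 141 (.node 140 (.leaf 8 19 [11, 8, 11, 8, 11, 8, 11, 8, 11, 8, 11, 8, 11, 8, 11, 8, 11, 8, 11, 8, 11, 8, 11, 8]) (.leaf 19 11 [11, 8, 8, 8, 11, 8, 8, 8, 11, 8, 8, 8, 11, 8, 8, 8])) (.node 142 (.leaf 21 12 [8, 10, 9, 11, 8, 10, 9, 11, 8, 10, 9, 11, 8, 10, 9, 11, 8, 10, 9, 11]) (.leaf 23 15 [10, 8, 11, 9, 10, 8, 11, 9, 10, 8, 11, 9, 10, 8, 11, 9, 10, 8, 11, 9]))) (.node 145 (.node 144 (.leaf 24 4 [8, 11, 11, 11, 8, 11, 11, 11, 8, 11, 11, 11, 8, 11, 11, 11]) (.leaf 13 37 [10, 10, 8, 10, 10, 8, 10, 10, 8, 10, 10, 8, 10, 10, 8, 10, 10, 8, 10, 10, 8, 10, 10, 8, 10, 10, 8, 10, 10, 8, 10, 10, 8, 10, 10, 8, 10, 10, 8])) (.node 146 (.leaf 24 7 [11, 8, 11, 11, 11, 8, 11, 11, 11, 8, 11,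 11, 11, 8, 11, 11]) (.leaf 15 10 [9, 10, 9, 9, 10, 9, 9, 10, 9, 9, 10, 9, 9, 10, 9, 9, 10, 9, 9, 10, 9, 9, 10, 9, 9, 10, 9, 9, 10, 9, 9, 10, 9, 9, 10, 9])))) (.node 151 (.node 149 (.node 148 (.leaf 21 18 [9, 11, 8, 10, 9, 11, 8, 10, 9, 11, 8, 10, 9, 11, 8, 10, 9, 11, 8, 10]) (.leaf 16 4 [9, 11, 9, 9, 11, 9, 9, 11, 9, 9, 11, 9, 9, 11, 9, 9, 11, 9, 9, 11, 9, 9, 11, 9, 9, 11, 9, 9, 11, 9, 9, 11, 9, 9, 11, 9])) (.node 150 (.leaf 17 4 [10, 10, 9, 10, 10, 9, 10, 10, 9, 10, 10, 9, 10, 10, 9, 10, 10, 9, 10, 10, 9, 10, 10, 9, 10, 10, 9, 10, 10, 9, 10, 10, 9, 10, 10, 9, 10, 10, 9]) (.leaf 26 5 [10, 9, 10, 9, 10, 9, 10, 9, 10, 9, 10, 9, 10, 9, 10, 9, 10, 9, 10, 9, 10, 9, 10, 9]))) (.node 153 (.node 152 (.leaf 28 4 [9, 10, 10, 10, 9, 10, 10, 10, 9, 10, 10,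 10, 9, 10, 10, 10]) (.leaf 21 8 [8, 10, 9, 11, 8, 10, 9, 11, 8, 10, 9, 11, 8, 10, 9, 11, 8, 10, 9, 11])) (.node 154 (.leaf 10 7 [11, 9, 11, 9, 11, 9, 11, 9]) (.leaf 21 14 [9, 11, 8, 10, 9, 11, 8, 10, 9, 11, 8, 10, 9, 11, 8, 10, 9, 11, 8, 10])))))) (.node 170 (.node 162 (.node 158 (.node 156 (.leaf 12 19 [8, 11, 8, 8, 11, 8, 8, 11, 8, 8, 11, 8, 8, 11, 8, 8, 11, 8, 8, 11, 8, 8, 11, 8, 8, 11, 8, 8, 11, 8, 8, 11, 8, 8, 11, 8]) (.node 157 (.leaf 14 23 [11, 8, 11, 11, 8, 11, 11, 8, 11, 11, 8, 11, 11, 8, 11, 11, 8, 11, 11, 8, 11, 11, 8, 11, 11, 8, 11, 11, 8, 11, 11, 8, 11, 11, 8, 11, 11, 8, 11]) (.leaf 27 3 [11, 9, 10, 9, 11, 9, 10, 9, 11, 9, 10, 9]))) (.node 160 (.node 159 (.leaf 11 9 [8, 8, 10, 8, 8, 10, 8, 8, 10, 8, 8, 10, 8, 8, 10, 8, 8, 10, 8, 8,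 10, 8, 8, 10, 8, 8, 10, 8, 8, 10, 8, 8, 10, 8, 8, 10]) (.leaf 15 15 [9, 9, 10, 9, 9, 10, 9, 9, 10, 9, 9, 10, 9, 9, 10, 9, 9, 10, 9, 9, 10, 9, 9, 10, 9, 9, 10, 9, 9, 10, 9, 9, 10, 9, 9, 10])) (.node 161 (.leaf 16 22 [9, 11, 9, 9, 11, 9, 9, 11, 9, 9, 11, 9, 9, 11, 9, 9, 11, 9, 9, 11, 9, 9, 11, 9, 9, 11, 9, 9, 11, 9, 9, 11, 9, 9, 11, 9]) (.leaf 11 27 [8, 8, 10, 8, 8, 10, 8, 8, 10, 8, 8, 10, 8, 8, 10, 8, 8, 10, 8, 8, 10, 8, 8, 10, 8, 8, 10, 8, 8, 10, 8, 8, 10, 8, 8, 10])))) (.node 166 (.node 164 (.node 163 (.leaf 22 7 [11, 8, 11, 8, 11, 8, 11, 8, 11, 8, 11, 8, 11, 8, 11, 8, 11, 8, 11, 8, 11, 8, 11, 8]) (.leaf 14 38 [11, 8, 11, 11, 8, 11, 11, 8, 11, 11, 8, 11, 11, 8, 11, 11, 8, 11, 11, 8, 11, 11, 8, 11, 11, 8, 11, 11, 8, 11, 11, 8, 11, 11, 8, 11, 11,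 8, 11])) (.node 165 (.leaf 22 16 [8, 11, 8, 11, 8, 11, 8, 11, 8, 11, 8, 11, 8, 11, 8, 11, 8, 11, 8, 11, 8, 11, 8, 11]) (.leaf 9 19 [10, 9, 10, 9, 10, 9, 10, 9, 10, 9, 10, 9, 10, 9, 10, 9, 10, 9, 10, 9, 10, 9, 10, 9]))) (.node 168 (.node 167 (.leaf 14 13 [11, 11, 8, 11, 11, 8, 11, 11, 8, 11, 11, 8, 11, 11, 8, 11, 11, 8, 11, 11, 8, 11, 11, 8, 11, 11, 8, 11, 11, 8, 11, 11, 8, 11, 11, 8, 11, 11, 8]) (.leaf 18 21 [9, 11, 11, 9, 11, 11, 9, 11, 11, 9, 11, 11, 9, 11, 11, 9, 11, 11, 9, 11, 11, 9, 11, 11, 9, 11, 11, 9, 11, 11, 9, 11, 11, 9, 11, 11, 9, 11, 11])) (.node 169 (.leaf 12 18 [8, 8, 11, 8, 8, 11, 8, 8, 11, 8, 8, 11, 8, 8, 11, 8, 8, 11, 8, 8, 11, 8, 8, 11, 8, 8, 11, 8, 8, 11, 8, 8, 11, 8, 8, 11]) (.leaf 12 5 [11, 8, 8, 11, 8, 8, 11, 8, 8, 11, 8, 8,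 11, 8, 8, 11, 8, 8, 11, 8, 8, 11, 8, 8, 11, 8, 8, 11, 8, 8, 11, 8, 8, 11, 8, 8]))))) (.node 178 (.node 174 (.node 172 (.node 171 (.leaf 23 5 [11, 9, 10, 8, 11, 9, 10, 8, 11, 9, 10, 8, 11, 9, 10, 8, 11, 9, 10, 8]) (.leaf 9 21 [10, 9, 10, 9, 10, 9, 10, 9, 10, 9, 10, 9, 10, 9, 10, 9, 10, 9, 10, 9, 10, 9, 10, 9])) (.node 173 (.leaf 15 21 [9, 9, 10, 9, 9, 10, 9, 9, 10, 9, 9, 10, 9, 9, 10, 9, 9, 10, 9, 9, 10, 9, 9, 10, 9, 9, 10, 9, 9, 10, 9, 9, 10, 9, 9, 10]) (.leaf 17 11 [10, 9, 10, 10, 9, 10, 10, 9, 10, 10, 9, 10, 10, 9, 10, 10, 9, 10, 10, 9, 10, 10, 9, 10, 10, 9, 10, 10, 9, 10, 10, 9, 10, 10, 9, 10, 10, 9, 10]))) (.node 176 (.node 175 (.leaf 8 5 [11, 8, 11, 8, 11, 8, 11, 8, 11, 8, 11, 8, 11, 8, 11, 8, 11, 8, 11, 8, 11, 8, 11, 8]) (.leaf 29 3 [11, 9,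 11, 9, 11, 9, 11, 9])) (.node 177 (.leaf 23 17 [11, 9, 10, 8, 11, 9, 10, 8, 11, 9, 10, 8, 11, 9, 10, 8, 11, 9, 10, 8]) (.leaf 13 15 [8, 10, 10, 8, 10, 10, 8, 10, 10, 8, 10, 10, 8, 10, 10, 8, 10, 10, 8, 10, 10, 8, 10, 10, 8, 10, 10, 8, 10, 10, 8, 10, 10, 8, 10, 10, 8, 10, 10])))) (.node 182 (.node 180 (.node 179 (.leaf 11 15 [8, 8, 10, 8, 8, 10, 8, 8, 10, 8, 8, 10, 8, 8, 10, 8, 8, 10, 8, 8, 10, 8, 8, 10, 8, 8, 10, 8, 8, 10, 8, 8, 10, 8, 8, 10]) (.leaf 13 22 [10, 10, 8, 10, 10, 8, 10, 10, 8, 10, 10, 8, 10, 10, 8, 10, 10, 8, 10, 10, 8, 10, 10, 8, 10, 10, 8, 10, 10, 8, 10, 10, 8, 10, 10, 8, 10, 10, 8])) (.node 181 (.leaf 17 28 [10, 10, 9, 10, 10, 9, 10, 10, 9, 10, 10, 9, 10, 10, 9, 10, 10, 9, 10, 10, 9, 10, 10, 9, 10, 10, 9, 10, 10, 9, 10, 10, 9, 10,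 10, 9, 10, 10, 9]) (.leaf 23 8 [8, 11, 9, 10, 8, 11, 9, 10, 8, 11, 9, 10, 8, 11, 9, 10, 8, 11, 9, 10]))) (.node 184 (.node 183 (.leaf 8 6 [8, 11, 8, 11, 8, 11, 8, 11, 8, 11, 8, 11, 8, 11, 8, 11, 8, 11, 8, 11, 8, 11, 8, 11]) (.leaf 13 2 [10, 8, 10, 10, 8, 10, 10, 8, 10, 10, 8, 10, 10, 8, 10, 10, 8, 10, 10, 8, 10, 10, 8, 10, 10, 8, 10, 10, 8, 10, 10, 8, 10, 10, 8, 10, 10, 8, 10])) (.node 185 (.leaf 14 35 [11, 8, 11, 11, 8, 11, 11, 8, 11, 11, 8, 11, 11, 8, 11, 11, 8, 11, 11, 8, 11, 11, 8, 11, 11, 8, 11, 11, 8, 11, 11, 8, 11, 11, 8, 11, 11, 8, 11]) (.leaf 18 22 [11, 11, 9, 11, 11, 9, 11, 11, 9, 11, 11, 9, 11, 11, 9, 11, 11, 9, 11, 11, 9, 11, 11, 9, 11, 11, 9, 11, 11, 9, 11, 11, 9, 11, 11, 9, 11, 11, 9]))))))) (.node 217 (.node 201 (.node 193 (.node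 189 (.node 187 (.leaf 11 32 [10, 8, 8, 10, 8, 8, 10, 8, 8, 10, 8, 8, 10, 8, 8, 10, 8, 8, 10, 8, 8, 10, 8, 8, 10, 8, 8, 10, 8, 8, 10, 8, 8, 10, 8, 8]) (.node 188 (.leaf 17 22 [10, 10, 9, 10, 10, 9, 10, 10, 9, 10, 10, 9, 10, 10, 9, 10, 10, 9, 10, 10, 9, 10, 10, 9, 10, 10, 9, 10, 10, 9, 10, 10, 9, 10, 10, 9, 10, 10, 9]) (.leaf 28 10 [10, 10, 9, 10, 10, 10, 9, 10, 10, 10, 9, 10, 10, 10, 9, 10]))) (.node 191 (.node 190 (.leaf 9 23 [10, 9, 10, 9, 10, 9, 10, 9, 10, 9, 10, 9, 10, 9, 10, 9, 10, 9, 10, 9, 10, 9, 10, 9]) (.leaf 20 2 [8, 11, 8, 10, 8, 11, 8, 10, 8, 11, 8, 10])) (.node 192 (.leaf 12 17 [11, 8, 8, 11, 8, 8, 11, 8, 8, 11, 8, 8, 11, 8, 8, 11, 8, 8, 11, 8, 8, 11, 8, 8, 11, 8, 8, 11, 8, 8, 11, 8, 8, 11, 8, 8]) (.leaf 14 22 [11, 11, 8, 11, 11, 8,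 11, 11, 8, 11, 11, 8, 11, 11, 8, 11, 11, 8, 11, 11, 8, 11, 11, 8, 11, 11, 8, 11, 11, 8, 11, 11, 8, 11, 11, 8, 11, 11, 8])))) (.node 197 (.node 195 (.node 194 (.leaf 16 18 [9, 9, 11, 9, 9, 11, 9, 9, 11, 9, 9, 11, 9, 9, 11, 9, 9, 11, 9, 9, 11, 9, 9, 11, 9, 9, 11, 9, 9, 11, 9, 9, 11, 9, 9, 11]) (.leaf 14 29 [11, 8, 11, 11, 8, 11, 11, 8, 11, 11, 8, 11, 11, 8, 11, 11, 8, 11, 11, 8, 11, 11, 8, 11, 11, 8, 11, 11, 8, 11, 11, 8, 11, 11, 8, 11, 11, 8, 11])) (.node 196 (.leaf 27 0 [9, 10, 9, 11, 9, 10, 9, 11, 9, 10, 9, 11]) (.leaf 18 20 [11, 9, 11, 11, 9, 11, 11, 9, 11, 11, 9, 11, 11, 9, 11, 11, 9, 11, 11, 9, 11, 11, 9, 11, 11, 9, 11, 11, 9, 11, 11, 9, 11, 11, 9, 11, 11, 9, 11]))) (.node 199 (.node 198 (.leaf 16 12 [9, 9, 11, 9, 9, 11, 9, 9, 11, 9, 9, 11,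 9, 9, 11, 9, 9, 11, 9, 9, 11, 9, 9, 11, 9, 9, 11, 9, 9, 11, 9, 9, 11, 9, 9, 11]) (.leaf 14 6 [8, 11, 11, 8, 11, 11, 8, 11, 11, 8, 11, 11, 8, 11, 11, 8, 11, 11, 8, 11, 11, 8, 11, 11, 8, 11, 11, 8, 11, 11, 8, 11, 11, 8, 11, 11, 8, 11, 11])) (.node 200 (.leaf 13 38 [10, 8, 10, 10, 8, 10, 10, 8, 10, 10, 8, 10, 10, 8, 10, 10, 8, 10, 10, 8, 10, 10, 8, 10, 10, 8, 10, 10, 8, 10, 10, 8, 10, 10, 8, 10, 10, 8, 10]) (.leaf 8 12 [8, 11, 8, 11, 8, 11, 8, 11, 8, 11, 8, 11, 8, 11, 8, 11, 8, 11, 8, 11, 8, 11, 8, 11]))))) (.node 209 (.node 205 (.node 203 (.node 202 (.leaf 23 16 [8, 11, 9, 10, 8, 11, 9, 10, 8, 11, 9, 10, 8, 11, 9, 10, 8, 11, 9, 10]) (.leaf 9 4 [9, 10, 9, 10, 9, 10, 9, 10, 9, 10, 9, 10, 9, 10, 9, 10, 9, 10, 9, 10, 9, 10, 9, 10])) (.node 204 (.leaf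 11 20 [10, 8, 8, 10, 8, 8, 10, 8, 8, 10, 8, 8, 10, 8, 8, 10, 8, 8, 10, 8, 8, 10, 8, 8, 10, 8, 8, 10, 8, 8, 10, 8, 8, 10, 8, 8]) (.leaf 12 27 [8, 8, 11, 8, 8, 11, 8, 8, 11, 8, 8, 11, 8, 8, 11, 8, 8, 11, 8, 8, 11, 8, 8, 11, 8, 8, 11, 8, 8, 11, 8, 8, 11, 8, 8, 11]))) (.node 207 (.node 206 (.leaf 13 12 [8, 10, 10, 8, 10, 10, 8, 10, 10, 8, 10, 10, 8, 10, 10, 8, 10, 10, 8, 10, 10, 8, 10, 10, 8, 10, 10, 8, 10, 10, 8, 10, 10, 8, 10, 10, 8, 10, 10]) (.leaf 15 3 [9, 9, 10, 9, 9, 10, 9, 9, 10, 9, 9, 10, 9, 9, 10, 9, 9, 10, 9, 9, 10, 9, 9, 10, 9, 9, 10, 9, 9, 10, 9, 9, 10, 9, 9, 10])) (.node 208 (.leaf 17 38 [10, 9, 10, 10, 9, 10, 10, 9, 10, 10, 9, 10, 10, 9, 10, 10, 9, 10, 10, 9, 10, 10, 9, 10, 10, 9, 10, 10, 9, 10, 10, 9, 10, 10, 9, 10, 10, 9, 10]) (.leaf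 12 4 [8, 11, 8, 8, 11, 8, 8, 11, 8, 8, 11, 8, 8, 11, 8, 8, 11, 8, 8, 11, 8, 8, 11, 8, 8, 11, 8, 8, 11, 8, 8, 11, 8, 8, 11, 8])))) (.node 213 (.node 211 (.node 210 (.leaf 17 13 [10, 10, 9, 10, 10, 9, 10, 10, 9, 10, 10, 9, 10, 10, 9, 10, 10, 9, 10, 10, 9, 10, 10, 9, 10, 10, 9, 10, 10, 9, 10, 10, 9, 10, 10, 9, 10, 10, 9]) (.leaf 9 7 [10, 9, 10, 9, 10, 9, 10, 9, 10, 9, 10, 9, 10, 9, 10, 9, 10, 9, 10, 9, 10, 9, 10, 9])) (.node 212 (.leaf 21 10 [9, 11, 8, 10, 9, 11, 8, 10, 9, 11, 8, 10, 9, 11, 8, 10, 9, 11, 8, 10]) (.leaf 23 11 [10, 8, 11, 9, 10, 8, 11, 9, 10, 8, 11, 9, 10, 8, 11, 9, 10, 8, 11, 9]))) (.node 215 (.node 214 (.leaf 18 25 [11, 11, 9, 11, 11, 9, 11, 11, 9, 11, 11, 9, 11, 11, 9, 11, 11, 9, 11, 11, 9, 11, 11, 9, 11, 11, 9, 11, 11, 9, 11, 11,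 9, 11, 11, 9, 11, 11, 9]) (.leaf 22 19 [11, 8, 11, 8, 11, 8, 11, 8, 11, 8, 11, 8, 11, 8, 11, 8, 11, 8, 11, 8, 11, 8, 11, 8])) (.node 216 (.leaf 18 28 [11, 11, 9, 11, 11, 9, 11, 11, 9, 11, 11, 9, 11, 11, 9, 11, 11, 9, 11, 11, 9, 11, 11, 9, 11, 11, 9, 11, 11, 9, 11, 11, 9, 11, 11, 9, 11, 11, 9]) (.leaf 21 11 [11, 8, 10, 9, 11, 8, 10, 9, 11, 8, 10, 9, 11, 8, 10, 9, 11, 8, 10, 9])))))) (.node 232 (.node 224 (.node 220 (.node 218 (.leaf 8 18 [8, 11, 8, 11, 8, 11, 8, 11, 8, 11, 8, 11, 8, 11, 8, 11, 8, 11, 8, 11, 8, 11, 8, 11]) (.node 219 (.leaf 16 15 [9, 9, 11, 9, 9, 11, 9, 9, 11, 9, 9, 11, 9, 9, 11, 9, 9, 11, 9, 9, 11, 9, 9, 11, 9, 9, 11, 9, 9, 11, 9, 9, 11, 9, 9, 11]) (.leaf 22 9 [11, 8, 11, 8, 11, 8, 11, 8, 11, 8, 11, 8, 11, 8, 11, 8, 11, 8, 11, 8,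 11, 8, 11, 8]))) (.node 222 (.node 221 (.leaf 15 6 [9, 9, 10, 9, 9, 10, 9, 9, 10, 9, 9, 10, 9, 9, 10, 9, 9, 10, 9, 9, 10, 9, 9, 10, 9, 9, 10, 9, 9, 10, 9, 9, 10, 9, 9, 10]) (.leaf 12 33 [8, 8, 11, 8, 8, 11, 8, 8, 11, 8, 8, 11, 8, 8, 11, 8, 8, 11, 8, 8, 11, 8, 8, 11, 8, 8, 11, 8, 8, 11, 8, 8, 11, 8, 8, 11])) (.node 223 (.leaf 25 11 [10, 9, 9, 9, 10, 9, 9, 9, 10, 9, 9, 9, 10, 9, 9, 9]) (.leaf 8 4 [8, 11, 8, 11, 8, 11, 8, 11, 8, 11, 8, 11, 8, 11, 8, 11, 8, 11, 8, 11, 8, 11, 8, 11])))) (.node 228 (.node 226 (.node 225 (.leaf 23 3 [10, 8, 11, 9, 10, 8, 11, 9, 10, 8, 11, 9, 10, 8, 11, 9, 10, 8, 11, 9]) (.leaf 18 3 [9, 11, 11, 9, 11, 11, 9, 11, 11, 9, 11, 11, 9, 11, 11, 9, 11, 11, 9, 11, 11, 9, 11, 11, 9, 11, 11, 9, 11, 11, 9, 11, 11, 9, 11, 11, 9, 11,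 11])) (.node 227 (.leaf 23 7 [10, 8, 11, 9, 10, 8, 11, 9, 10, 8, 11, 9, 10, 8, 11, 9, 10, 8, 11, 9]) (.leaf 17 17 [10, 9, 10, 10, 9, 10, 10, 9, 10, 10, 9, 10, 10, 9, 10, 10, 9, 10, 10, 9, 10, 10, 9, 10, 10, 9, 10, 10, 9, 10, 10, 9, 10, 10, 9, 10, 10, 9, 10]))) (.node 230 (.node 229 (.leaf 12 14 [11, 8, 8, 11, 8, 8, 11, 8, 8, 11, 8, 8, 11, 8, 8, 11, 8, 8, 11, 8, 8, 11, 8, 8, 11, 8, 8, 11, 8, 8, 11, 8, 8, 11, 8, 8]) (.leaf 16 34 [9, 11, 9, 9, 11, 9, 9, 11, 9, 9, 11, 9, 9, 11, 9, 9, 11, 9, 9, 11, 9, 9, 11, 9, 9, 11, 9, 9, 11, 9, 9, 11, 9, 9, 11, 9])) (.node 231 (.leaf 14 31 [11, 11, 8, 11, 11, 8, 11, 11, 8, 11, 11, 8, 11, 11, 8, 11, 11, 8, 11, 11, 8, 11, 11, 8, 11, 11, 8, 11, 11, 8, 11, 11, 8, 11, 11, 8, 11, 11, 8]) (.leaf 15 9 [9, 9, 10, 9, 9, 10,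 9, 9, 10, 9, 9, 10, 9, 9, 10, 9, 9, 10, 9, 9, 10, 9, 9, 10, 9, 9, 10, 9, 9, 10, 9, 9, 10, 9, 9, 10]))))) (.node 240 (.node 236 (.node 234 (.node 233 (.leaf 11 30 [8, 8, 10, 8, 8, 10, 8, 8, 10, 8, 8, 10, 8, 8, 10, 8, 8, 10, 8, 8, 10, 8, 8, 10, 8, 8, 10, 8, 8, 10, 8, 8, 10, 8, 8, 10]) (.leaf 13 14 [10, 8, 10, 10, 8, 10, 10, 8, 10, 10, 8, 10, 10, 8, 10, 10, 8, 10, 10, 8, 10, 10, 8, 10, 10, 8, 10, 10, 8, 10, 10, 8, 10, 10, 8, 10, 10, 8, 10])) (.node 235 (.leaf 28 12 [9, 10, 10, 10, 9, 10, 10, 10, 9, 10, 10, 10, 9, 10, 10, 10]) (.leaf 13 17 [10, 8, 10, 10, 8, 10, 10, 8, 10, 10, 8, 10, 10, 8, 10, 10, 8, 10, 10, 8, 10, 10, 8, 10, 10, 8, 10, 10, 8, 10, 10, 8, 10, 10, 8, 10, 10, 8, 10]))) (.node 238 (.node 237 (.leaf 26 20 [9, 10, 9, 10, 9, 10, 9, 10, 9,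 10, 9, 10, 9, 10, 9, 10, 9, 10, 9, 10, 9, 10, 9, 10]) (.leaf 13 32 [10, 8, 10, 10, 8, 10, 10, 8, 10, 10, 8, 10, 10, 8, 10, 10, 8, 10, 10, 8, 10, 10, 8, 10, 10, 8, 10, 10, 8, 10, 10, 8, 10, 10, 8, 10, 10, 8, 10])) (.node 239 (.leaf 9 16 [9, 10, 9, 10, 9, 10, 9, 10, 9, 10, 9, 10, 9, 10, 9, 10, 9, 10, 9, 10, 9, 10, 9, 10]) (.leaf 15 11 [10, 9, 9, 10, 9, 9, 10, 9, 9, 10, 9, 9, 10, 9, 9, 10, 9, 9, 10, 9, 9, 10, 9, 9, 10, 9, 9, 10, 9, 9, 10, 9, 9, 10, 9, 9])))) (.node 244 (.node 242 (.node 241 (.leaf 13 36 [8, 10, 10, 8, 10, 10, 8, 10, 10, 8, 10, 10, 8, 10, 10, 8, 10, 10, 8, 10, 10, 8, 10, 10, 8, 10, 10, 8, 10, 10, 8, 10, 10, 8, 10, 10, 8, 10, 10]) (.leaf 14 14 [11, 8, 11, 11, 8, 11, 11, 8, 11, 11, 8, 11, 11, 8, 11, 11, 8, 11, 11, 8, 11, 11, 8, 11, 11,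 8, 11, 11, 8, 11, 11, 8, 11, 11, 8, 11, 11, 8, 11])) (.node 243 (.leaf 16 14 [11, 9, 9, 11, 9, 9, 11, 9, 9, 11, 9, 9, 11, 9, 9, 11, 9, 9, 11, 9, 9, 11, 9, 9, 11, 9, 9, 11, 9, 9, 11, 9, 9, 11, 9, 9]) (.leaf 15 31 [9, 10, 9, 9, 10, 9, 9, 10, 9, 9, 10, 9, 9, 10, 9, 9, 10, 9, 9, 10, 9, 9, 10, 9, 9, 10, 9, 9, 10, 9, 9, 10, 9, 9, 10, 9]))) (.node 246 (.node 245 (.leaf 8 3 [11, 8, 11, 8, 11, 8, 11, 8, 11, 8, 11, 8, 11, 8, 11, 8, 11, 8, 11, 8, 11, 8, 11, 8]) (.leaf 14 30 [8, 11, 11, 8, 11, 11, 8, 11, 11, 8, 11, 11, 8, 11, 11, 8, 11, 11, 8, 11, 11, 8, 11, 11, 8, 11, 11, 8, 11, 11, 8, 11, 11, 8, 11, 11, 8, 11, 11])) (.node 247 (.leaf 16 25 [9, 11, 9, 9, 11, 9, 9, 11, 9, 9, 11, 9, 9, 11, 9, 9, 11, 9, 9, 11, 9, 9, 11, 9, 9, 11, 9, 9, 11, 9, 9, 11, 9, 9, 11,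 9]) (.leaf 11 19 [8, 10, 8, 8, 10, 8, 8, 10, 8, 8, 10, 8, 8, 10, 8, 8, 10, 8, 8, 10, 8, 8, 10, 8, 8, 10, 8, 8, 10, 8, 8, 10, 8, 8, 10, 8])))))))))

theorem b0 : allR (guardB 17 (blk fc sc rt.get Cfsg.Agent.Lib.Helper3.Ru.INV isH)) 5 0 = true := by decide +kernel
theorem c0 : allR (guardB 31 (cblk fc nc cc 4352 975 79228162514264337593543950336 gens)) 5 0 = true := by decide +kernel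

theorem chkAll : ∀ j < 17, blk fc sc rt.get Cfsg.Agent.Lib.Helper3.Ru.INV isH j = true :=
  guardB_spec (D := 5) b0 (by norm_num)

theorem clAll : ∀ jb < 31, cblk fc nc cc (256 * 17) 975 79228162514264337593543950336 gens jb = true :=
  guardB_spec (D := 5) c0 (by norm_num)

theorem hid_0 : BR_0.all (wordId (ntOf Cfsg.Agent.Lib.Helper3.Ru.ntl) 12) = true := by decide +kernel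
theorem hid : BR.all (wordId (ntOf Cfsg.Agent.Lib.Helper3.Ru.ntl) 12) = true := by
  simp only [BR, List.all_append, hid_0, Bool.and_self]

theorem card_eq : Nat.card (lgrp (vL Cfsg.Agent.Lib.Helper3.Ru.ntl Cfsg.Agent.Lib.Helper3.Ru.deg) gens) = 975 * Nat.card (lgrp (vL Cfsg.Agent.Lib.Helper3.Ru.ntl Cfsg.Agent.Lib.Helper3.Ru.deg) hl) :=
  Cfsg.Agent.Lib.Helper3.Ru.setup.level gens hl dl BR (by decide +kernel) (by decide +kernel) hid (by decide +kernel)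
    (by decide +kernel) rt (by decide +kernel) isH (fun l h => of_decide_eq_true h) fc sc nc cc 17 31 975 79228162514264337593543950336
    (by norm_num) (by norm_num) (by decide +kernel) (by decide) chkAll clAll
    2 2 10 (by norm_num [Cfsg.Agent.Lib.Helper3.Ru.deg]) (by norm_num [Cfsg.Agent.Lib.Helper3.Ru.deg]) (by decide +kernel) (by decide +kernel)

theorem ub {M : Type*} [Group M] (w : ℕ → M) (h0 : w 0 = 1) (hinv : ∀ l, w (invL Cfsg.Agent.Lib.Helper3.Ru.INV l) = (w l)⁻¹)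
    (hBR : ∀ r ∈ BR, (r.map w).prod = 1)
    (hdlr : ∀ r ∈ dl.map (fun p => p.1 ++ [p.2]), (r.map w).prod = 1) (N : ℕ) (hN : Bd w hl N) :
    Bd w gens (975 * N) :=
  level_bd w Cfsg.Agent.Lib.Helper3.Ru.INV h0 hinv gens hl dl BR (by decide +kernel) hdlr hBR (by decide +kernel) (by decide +kernel)
    rt (by decide +kernel) isH (fun l h => of_decide_eq_true h) fc sc nc cc 17 31 975 79228162514264337593543950336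
    (by norm_num) (by norm_num) (by decide +kernel) (by decide) chkAll clAll N hN

end Cfsg.Agent.Lib.Helper3.Ru.L3
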