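import Mathlib

set_option autoImplicit false
set_option maxRecDepth 100000

namespace Cfsg.Agent.Lib.Helper3.Ru.L4

noncomputable def fc0_0 (i : ℕ) : ℕ := (nat_lit 0xc00012e00000900018d00000600016d00000b0000ce00000d00010d0000080001ae00000700014e00000a0000ed00000f00018e00000c0001ed00000e0001ec00000f0001cc00000e00010e0000080001cd00000d0000ec0000070001ac00000b00012c00000900016c00000a0001ee00000f00014d0000060001ce00000e0000cd0000050001ad00000d0000ae00000500018c00000c0000ac00000400016e00000b00008d00000400014c00000a00008c00000300012d00000900006e00000300010c00000800006c0000020000ee00000700004d0000020000cc00000600004c0000010000ad00000500002e00000100008e00000400002d00000000006d00000300000e00000000004e00000200000d00000000002c00000100000c)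
noncomputable def sc0_0 (i : ℕ) : ℕ := (nat_lit 0x1700002500002d00002800001c0005000700002100002900002600001a00000d0005000600000800001d00002700002400001a0005000600001b0000250000260000200000140005000500000900001300001f00001c00000e0005000300000000001500001f00002200001c0000100000060007000400000700001700001f00001c0000120005000300000700001700001f00001c0000120005000200000900001700001d00001800000c000500010000ffff0000ffff0000ffff0000ffff0000ffff0000ffff0000ffff0000ffff0000ffff0000ffff0000ffff0000ffff0000ffff0000ffff0000ffff)
noncomputable def nc0_0 (i : ℕ) : ℕ := (nat_lit 0xf00000e00000d00000c00000b00000a000009000008000007000006000005000004000003000002000001000000)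
noncomputable def cc0_0 (i : ℕ) : ℕ := (nat_lit 0xa00001c00000e00002400000600001a00000f00002500000800002b00000700002100000f00002600000500001600000400001400000900001f00000700002800000400001200000c00002e00000b00001e00000e00002200000300000e00000200000c00000d00002000000b00002d00000200000a00000d00001900000c00001700000100000600000a00001300000900001100000800000f00000000000200000600000b000005000009000000000000000003000005000001000001)

end Cfsg.Agent.Lib.Helper3.Ru.L4
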